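import Mathlib
import Cfsg.Agent.Std.RedK

/-! Standard subgroups with centre of order two: elements of `L·C(L)`. -/

set_option autoImplicit false

namespace Cfsg.Agent.Std

open Cfsg Subgroup PLocal PLocal.Amb

variable {G : Type*} [Group G] {L : Subgroup G} {t : G}

theorem commute_dec {w l c : G} (hw : w ∈ L) (hc : c ∈ 𝐂[L]) : Commute w (l * c) ↔ Commute w l :=
  ⟨fun h => by simpa using h.mul_right (commute_of_mem hw hc).inv_right,
    fun h => h.mul_right (commute_of_mem hw hc)⟩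

theorem comm_dec {w l c : G} (hw : w ∈ L) (hc : c ∈ 𝐂[L]) :
    w * (l * c) * w⁻¹ * (l * c)⁻¹ = w * l * w⁻¹ * l⁻¹ := by
  rw [← mul_assoc, mul_assoc _ c, ← (commute_of_mem (inv_mem hw) hc).eq]; group

theorem sq_dec {l c : G} (hl : l ∈ L) (hc : c ∈ 𝐂[L]) : l * c * (l * c) = l * l * (c * c) :=
  (commute_of_mem hl hc).symm.mul_mul_mul_comm l c

theorem cent_eq_of_claim' [Finite G] (hA : IsStandardSubgroup L) (ht : orderOf t = 2) (h0 : t ∈ L)
    (h1 : t ∈ 𝐂[L]) (hZ : ∀ a ∈ L, a ∈ 𝐂[L] → a = 1 ∨ a = t)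
    (hO : centralizerPPrimeCore 2 t = ⊥) {l c : G} (hl : l ∈ L) (hc : c ∈ 𝐂[L])
    (h2 : l * c * (l * c) = 1)
    (claim : ∀ x ∈ 𝐂[L], Commute x (l * c) → x * x = 1 ∨ x * x = t → x = 1 ∨ x = t) :
    𝐂[L] = zpowers t := by
  have tt : t * t = 1 := by rw [← pow_two, ← ht, pow_orderOf_eq_one]
  rw [sq_dec hl hc, mul_eq_one_iff_inv_eq] at h2
  have h3 : l * c ∈ L := mul_mem hl (zpowers_le.2 h0 ((mem_zpowers_two tt).2
    (claim c hc ((commute_of_mem hl hc).symm.mul_right (Commute.refl c))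
      (hZ _ (h2 ▸ inv_mem (mul_mem hl hl)) (mul_mem hc hc)))))
  have pT : IsPGroup 2 (zpowers t) := isPGroup_zpowers ⟨1, by simpa [pow_two] using tt⟩
  obtain ⟨R, hR, h4⟩ := exists_isSylowIn_ge pT (zpowers_le.2 h1)
  refine eq_of_sylow_two (h4.antisymm (fun x hx => ?_) ▸ hR)
    (fun k hk => mem_centralizer_singleton_iff.2 (commute_of_mem h0 hk).symm)
    (fun m hm => hA.2.2.2 ▸ mem_normalizer_of_commute hA ht h1 (mem_centralizer_singleton_iff.1 hm)) hO
  obtain ⟨n, hn⟩ := isPGroup_iff.1 hR.isPGroup x hx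
  rw [mem_zpowers_two tt]
  induction n generalizing x with
  | zero => exact Or.inl (by simpa using hn)
  | succ n ih =>
    exact claim x (hR.le hx) (commute_of_mem h3 (hR.le hx)).symm (ih (x * x) (mul_mem hx hx)
      (by rw [← pow_two, ← pow_mul, ← pow_succ', hn]))

theorem oddCore_eq_bot [Finite G] [IsSimpleGroup G] (ht : orderOf t = 2) : oddCore G = ⊥ := by
  refine (Subgroup.Normal.eq_bot_or_eq_top inferInstance).resolve_right fun c => ?_
  have := Grp.orderOf_coprime_of_mem_pPrimeCore (p := 2) (x := t) (c.ge (mem_top t))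
  simp [ht] at this

theorem center_eq_bot [IsSimpleGroup G] (hG : ¬ IsMulCommutative G) : center G = ⊥ :=
  (Subgroup.Normal.eq_bot_or_eq_top inferInstance).resolve_right fun c =>
    hG ⟨⟨fun a b => mem_center_iff.1 (c ▸ mem_top b) a⟩⟩

theorem exists_conj' [Finite G] [IsSimpleGroup G] (hG : ¬ IsMulCommutative G)
    (hA : IsStandardSubgroup L) (ht : orderOf t = 2) (h0 : t ∈ L) (h1 : t ∈ 𝐂[L]) :
    ∃ g, g * t * g⁻¹ ≠ t ∧ Commute t (g * t * g⁻¹) := by
  have t1 : t ≠ 1 := fun c => by simp [c] at ht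
  refine exists_conj (oddCore_eq_bot ht) hA (fun hn => ?_) ht h1
  rcases hn.eq_bot_or_eq_top with c | c
  · exact t1 (mem_bot.1 (c ▸ h0))
  · exact t1 (mem_bot.1 (center_eq_bot hG ▸ mem_center_iff.2 fun x =>
      commute_of_mem (c ▸ mem_top x) h1))

theorem exists_center_inv (hZ : Nat.card (center L) = 2) :
    ∃ t : G, orderOf t = 2 ∧ t ∈ L ∧ t ∈ 𝐂[L] ∧ ∀ a ∈ L, a ∈ 𝐂[L] → a = 1 ∨ a = t := by
  obtain ⟨z, h1, h2⟩ := (Nat.card_eq_two_iff' (1 : center L)).1 hZ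
  have h3 : ∀ a ∈ L, a ∈ 𝐂[L] → a = 1 ∨ a = z := fun a ha c =>
    (eq_or_ne (⟨⟨a, ha⟩, mem_center_iff.2 fun x => Subtype.ext (c x x.2)⟩ : center L) 1).imp
      (fun e => congrArg (·.1.1) e) fun e => congrArg (·.1.1) (h2 _ e)
  have h4 : (z : G) ≠ 1 := fun c => h1 (Subtype.ext (Subtype.ext c))
  have h5 : (z : G) ∈ 𝐂[L] := fun x hx => congrArg Subtype.val (mem_center_iff.1 z.2 ⟨x, hx⟩)
  exact ⟨z, orderOf_eq_prime (by
    rw [pow_two]
    exact (h3 _ (mul_mem z.1.2 z.1.2) (mul_mem h5 h5)).resolve_right fun c => h4 (mul_eq_left.1 c))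
    h4, z.1.2, h5, h3⟩

theorem card_out_eq_one {H : Type*} [Group H] [Finite H] (hZ : center H = ⊥)
    (h : Nat.card (MulAut H) = Nat.card H) : Nat.card (Out H) = 1 := by
  have : Finite (MulAut H) := Finite.of_injective _ DFunLike.coe_injective
  have h1 : Function.Injective (MulAut.conj : H →* MulAut H) :=
    (injective_iff_map_eq_one _).2 fun x hx => mem_bot.1 (hZ ▸ mem_center_iff.2 fun y =>
      (mul_inv_eq_iff_eq_mul.1 (MulEquiv.congr_fun hx y)).symm)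
  have h2 := ((Nat.bijective_iff_injective_and_card _).2 ⟨h1, h.symm⟩).2
  exact index_eq_one.2 (MonoidHom.range_eq_top.2 h2)

end Cfsg.Agent.Std
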