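import Mathlib
import Cfsg.Agent.Std.TwoB
import Cfsg.Agent.Lyons.Tools
import Cfsg.Agent.Solv.FrobeniusAction

/-! Standard subgroups whose centralizer has cyclic Sylow subgroups no conjugate of which lies in
the normalizer: roots of the involution and triangles of conjugates. -/

set_option autoImplicit false
set_option linter.unusedSectionVars false
set_option linter.unusedVariables false

namespace Cfsg.Agent.StdCyc

open Cfsg Subgroup Cfsg.Agent.PLocal Cfsg.Agent.PLocal.Amb Cfsg.Agent.Trm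
open scoped Cfsg.Agent.Lyons

variable {G : Type*} [Group G]

theorem mem_z {x y : G} : y ∈ 𝐳[x] ↔ y * x = x * y := mem_centralizer_singleton_iff

theorem zp_comm {a x y : G} (hx : x ∈ zpowers a) (hy : y ∈ zpowers a) : x * y = y * x := by
  obtain ⟨i, rfl⟩ := hx
  obtain ⟨j, rfl⟩ := hy
  exact ((Commute.refl a).zpow_zpow i j).eq

theorem zp_conj {a x : G} (g : G) (hx : x ∈ zpowers a) : g * x * g⁻¹ ∈ zpowers (g * a * g⁻¹) := by
  obtain ⟨i, rfl⟩ := hx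
  exact ⟨i, by simp only [conj_zpow]⟩

theorem cj_zp (g a : G) : cj(g, zpowers a) = zpowers (g * a * g⁻¹) := MonoidHom.map_zpowers _ _

theorem comm_zp {a b x : G} (h : b * a = a * b) (hx : x ∈ zpowers a) : b * x = x * b := by
  obtain ⟨i, rfl⟩ := hx
  exact ((show Commute b a from h).zpow_right i).eq

theorem inv_zp {a b x : G} (h : b * a * b⁻¹ = a⁻¹) (hx : x ∈ zpowers a) : b * x * b⁻¹ = x⁻¹ := by
  obtain ⟨i, rfl⟩ := hx
  simp only
  rw [← conj_zpow, h, inv_zpow]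

theorem conj_eq_iff {a b : G} : b * a * b⁻¹ = a ↔ b * a = a * b := mul_inv_eq_iff_eq_mul

theorem isConj_conj {t x : G} (h : IsConj t x) (g : G) : IsConj t (g * x * g⁻¹) :=
  h.trans (isConj_iff.2 ⟨g, rfl⟩)

theorem iv_of_isConj {t x : G} (h : IsConj t x) (ht : Iv t) : Iv x := by
  obtain ⟨g, rfl⟩ := isConj_iff.1 h
  exact ht.conj g

/-- the elements of the coset `a⟨u⟩` are conjugate to `a` or `au` if `a` inverts `u` -/
theorem dl {t a u x : G} (h : a * u * a⁻¹ = u⁻¹) (h1 : IsConj t a) (h2 : IsConj t (a * u))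
    (hx : x ∈ zpowers u) : IsConj t (a * x) := by
  obtain ⟨k, rfl⟩ := hx
  have key : ∀ i : ℤ, (u ^ i)⁻¹ * a = a * u ^ i := fun i => by
    have := inv_zp h (zpow_mem (mem_zpowers u) i)
    rw [← this]; group
  obtain ⟨i, rfl | rfl⟩ := Int.even_or_odd' k
  · have : a * u ^ (2 * i) = (u ^ i)⁻¹ * a * (u ^ i)⁻¹⁻¹ := by rw [key]; group
    simp only
    rw [this]; exact isConj_conj h1 _
  · have : a * u ^ (2 * i + 1) = (u ^ i)⁻¹ * (a * u) * (u ^ i)⁻¹⁻¹ := by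
      rw [← mul_assoc, key]; group
    simp only
    rw [this]; exact isConj_conj h2 _

theorem inv_of_sq {a b : G} (h : a * a = b * b) : a * (a⁻¹ * b) * a⁻¹ = (a⁻¹ * b)⁻¹ := by
  calc a * (a⁻¹ * b) * a⁻¹ = b⁻¹ * (b * b) * a⁻¹ := by group
    _ = _ := by rw [← h]; group

variable [Finite G]

theorem zp_of_dvd {a x y : G} (hx : x ∈ zpowers a) (hy : y ∈ zpowers a)
    (h : orderOf x ∣ orderOf y) : x ∈ zpowers y := by
  have := Solv.Frob.mem_zpowers_of_orderOf_dvd (A := zpowers a) (x := ⟨y, hy⟩) (y := ⟨x, hx⟩)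
    (by simpa only [← orderOf_coe] using h)
  obtain ⟨k, hk⟩ := this
  exact ⟨k, by simpa using congrArg Subtype.val hk⟩

theorem p2_ord {x : G} (h : P2 x) : ∃ k, orderOf x = 2 ^ k := by
  obtain ⟨k, hk⟩ := h
  obtain ⟨j, -, hj⟩ := (Nat.dvd_prime_pow Nat.prime_two).1 (orderOf_dvd_of_pow_eq_one hk)
  exact ⟨j, hj⟩

theorem p2_zp {a x : G} (h : P2 a) (hx : x ∈ zpowers a) : P2 x := p2_of_mem h.pgrp hx

theorem dvd_of_le {x y : G} (hx : P2 x) (hy : P2 y) (h : orderOf x ≤ orderOf y) :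
    orderOf x ∣ orderOf y := by
  obtain ⟨i, hi⟩ := p2_ord hx
  obtain ⟨j, hj⟩ := p2_ord hy
  rw [hi, hj] at h ⊢
  exact pow_dvd_pow 2 ((Nat.pow_le_pow_iff_right one_lt_two).1 h)

theorem zp_of_le {a x y : G} (ha : P2 a) (hx : x ∈ zpowers a) (hy : y ∈ zpowers a)
    (h : orderOf x ≤ orderOf y) : x ∈ zpowers y :=
  zp_of_dvd hx hy (dvd_of_le (p2_zp ha hx) (p2_zp ha hy) h)

theorem ord_sq {x : G} (h : P2 x) (h1 : x ≠ 1) : orderOf x = 2 * orderOf (x * x) := by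
  obtain ⟨k, hk⟩ := p2_ord h
  rcases k with _ | k
  · exact absurd (orderOf_eq_one_iff.1 hk) h1
  · rw [← sq, orderOf_pow' x two_ne_zero, hk, pow_succ', Nat.gcd_mul_right_left,
      Nat.mul_div_cancel_left _ two_pos]

theorem ord_sq_lt {x : G} (h : P2 x) (h1 : x ≠ 1) : orderOf (x * x) < orderOf x := by
  have := ord_sq h h1
  have := orderOf_pos (x * x)
  omega

/-- a nongenerator of a cyclic `2`-group is a square -/
theorem zp_sq_of_lt {a x : G} (ha : P2 a) (hx : x ∈ zpowers a) (h : orderOf x < orderOf a) :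
    ∃ w ∈ zpowers a, x = w * w := by
  have h1 : a ≠ 1 := by
    rintro rfl
    have := orderOf_pos x
    rw [orderOf_one] at h
    omega
  have h2 := ord_sq ha h1
  obtain ⟨c, hc⟩ := dvd_of_le (p2_zp ha hx) ha h.le
  have h3 : x ∈ zpowers (a * a) := by
    refine zp_of_le ha hx (mul_mem (mem_zpowers a) (mem_zpowers a)) ?_
    rcases c with _ | _ | c
    · have := orderOf_pos a
      omega
    · omega
    · nlinarith
  obtain ⟨k, rfl⟩ := h3
  exact ⟨a ^ k, zpow_mem (mem_zpowers a) k, by simp only; rw [(Commute.refl a).mul_zpow]⟩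

theorem zp_gen_or_sq {a x : G} (ha : P2 a) (hx : x ∈ zpowers a) :
    a ∈ zpowers x ∨ ∃ w ∈ zpowers a, x = w * w := by
  by_cases h : orderOf x < orderOf a
  · exact Or.inr (zp_sq_of_lt ha hx h)
  · exact Or.inl (zp_of_le ha (mem_zpowers a) hx (not_lt.1 h))

theorem zp_sq_one {a t x : G} (ht : Iv t) (hta : t ∈ zpowers a) (hx : x ∈ zpowers a)
    (h : x * x = 1) : x = 1 ∨ x = t := by
  by_cases h1 : x = 1
  · exact Or.inl h1
  · exact Or.inr (iv_eq_of_zpowers hx hta ⟨h1, h⟩ ht)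

theorem iv_mem_zp {a t x : G} (ha : P2 a) (ht : Iv t) (hta : t ∈ zpowers a) (hx : x ∈ zpowers a)
    (h : x ≠ 1) : t ∈ zpowers x := by
  obtain ⟨n, hn⟩ := (p2_zp ha hx).exists_iv h
  rw [← iv_eq_of_zpowers (pow_mem hx n) hta hn ht]
  exact pow_mem (mem_zpowers x) n

theorem zp_eq_of_sq {a t x y : G} (ht : Iv t) (hta : t ∈ zpowers a) (hx : x ∈ zpowers a)
    (hy : y ∈ zpowers a) (h : x * x = y * y) : x = y ∨ x = y * t := by
  have hc := zp_comm hx hy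
  have h1 : y⁻¹ * x * (y⁻¹ * x) = 1 := by
    calc y⁻¹ * x * (y⁻¹ * x) = y⁻¹ * (x * y⁻¹) * x := by group
      _ = y⁻¹ * (y⁻¹ * x) * x := by rw [zp_comm hx (inv_mem hy)]
      _ = (y * y)⁻¹ * (x * x) := by group
      _ = 1 := by rw [h, inv_mul_cancel]
  rcases zp_sq_one ht hta (mul_mem (inv_mem hy) hx) h1 with e | e
  · exact Or.inl (inv_mul_eq_one.1 e).symm
  · exact Or.inr (by rw [← e]; group)

theorem inv_eq_mul {r t : G} (ht : Iv t) (h : r * r = t) : r⁻¹ = r * t := by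
  rw [inv_eq_iff_mul_eq_one, ← mul_assoc, h, ht.2]

theorem root_eq {a t x r : G} (ht : Iv t) (hx : x ∈ zpowers a) (hr : r ∈ zpowers a)
    (h1 : x * x = t) (h2 : r * r = t) : x = r ∨ x = r⁻¹ := by
  rw [inv_eq_mul ht h2]
  exact zp_eq_of_sq ht (h2 ▸ mul_mem hr hr) hx hr (h1.trans h2.symm)

theorem root_ne_inv {r t : G} (ht : Iv t) (h : r * r = t) : r⁻¹ ≠ r := fun e =>
  ht.1 (by rw [← h]; nth_rw 1 [← e]; exact inv_mul_cancel r)

theorem root_p2 {r t : G} (ht : Iv t) (h : r * r = t) : P2 r :=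
  ⟨2, by rw [show 2 ^ 2 = 2 * 2 from rfl, pow_mul, sq r, h, sq, ht.2]⟩

theorem mem_norm_zp {g a : G} (h : g * a * g⁻¹ ∈ zpowers a) : g ∈ 𝐍[zpowers a] :=
  mem_normalizer_of_cj_le (by rw [cj_zp]; exact zpowers_le.2 h)

/-- The configuration. -/
structure Cfg (A : Subgroup G) (t : G) : Prop where
  std : IsStandardSubgroup A
  cyc : ∀ R, IsSyl 2 R 𝐂[A] → ∃ a, R = zpowers a
  no : ∀ R, IsSyl 2 R 𝐂[A] → ∀ g, g ∉ 𝐍[A] → ¬ cj(g, R) ≤ 𝐍[A]
  iv : Iv t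
  mem : t ∈ 𝐂[A]
  ex : ∃ s, IsConj t s ∧ s ≠ t ∧ s * t = t * s

namespace Cfg

variable {A : Subgroup G} {t : G} (c : Cfg A t)
include c

theorem conj (g : G) : Cfg cj(g, A) (g * t * g⁻¹) where
  std := Std.cj c.std g
  cyc R hR := by
    have h := hR.cj g⁻¹
    rw [centralizer_cj, cj_inv_cj] at h
    obtain ⟨a, ha⟩ := c.cyc _ h
    exact ⟨g * a * g⁻¹, by rw [← cj_zp, ← ha, cj_cj_inv]⟩
  no R hR h hh hle := by
    have h1 := hR.cj g⁻¹
    rw [centralizer_cj, cj_inv_cj] at h1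
    rw [normalizer_cj] at hh hle
    refine c.no _ h1 (g⁻¹ * h * g) (fun e => hh (mem_cj.2 e)) ?_
    rw [← cj_mul, show g⁻¹ * h * g * g⁻¹ = g⁻¹ * h by group, cj_mul, ← le_cj_iff]
    exact hle
  iv := c.iv.conj g
  mem := by rw [centralizer_cj]; exact conj_mem_cj g c.mem
  ex := by
    obtain ⟨s, h1, h2, h3⟩ := c.ex
    refine ⟨g * s * g⁻¹, (isConj_iff.2 ⟨g, rfl⟩ : IsConj t _).symm.trans (isConj_conj h1 g),
      fun e => h2 (by simpa using e), ?_⟩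
    calc g * s * g⁻¹ * (g * t * g⁻¹) = g * (s * t) * g⁻¹ := by group
      _ = _ := by rw [h3]; group

theorem of_isConj {s : G} (h : IsConj t s) : ∃ B : Subgroup G, Cfg B s := by
  obtain ⟨g, rfl⟩ := isConj_iff.1 h
  exact ⟨_, c.conj g⟩

theorem nK : 𝐍[𝐂[A]] = 𝐍[A] := c.std.2.2.2.symm

theorem z_le {a : G} (ha : Iv a) (h : a ∈ 𝐂[A]) : 𝐳[a] ≤ 𝐍[A] :=
  Std.centralizer_le c.std ha.ord h

theorem zt_le : 𝐳[t] ≤ 𝐍[A] := c.z_le c.iv c.mem

theorem le_zt : A ≤ 𝐳[t] := Std.le_centralizer c.mem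

theorem le_zp {U : Subgroup G} (hU : IsPGroup 2 U) (h : U ≤ 𝐂[A]) :
    ∃ a, P2 a ∧ U ≤ zpowers a := by
  obtain ⟨R, hR, h1⟩ := exists_isSyl_ge hU h
  obtain ⟨a, rfl⟩ := c.cyc R hR
  exact ⟨a, p2_of_mem hR.pgrp (mem_zpowers a), h1⟩

theorem eq_iv {a : G} (ha : Iv a) (h : a ∈ 𝐂[A]) (hc : a * t = t * a) : a = t := by
  obtain ⟨b, -, hb⟩ := c.le_zp (pgrp_pair ha.p2 c.iv.p2 hc)
    (sup_le (zpowers_le.2 h) (zpowers_le.2 c.mem))
  exact iv_eq_of_zpowers (hb (mem_sup_left (mem_zpowers a))) (hb (mem_sup_right (mem_zpowers t)))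
    ha c.iv

theorem not_norm {g : G} (h1 : g * t * g⁻¹ ≠ t) (h2 : g * t * g⁻¹ * t = t * (g * t * g⁻¹)) :
    g ∉ 𝐍[A] := fun hg => h1 (c.eq_iv (c.iv.conj g) (conj_mem_cent hg c.mem) h2)

theorem eq_one {g x : G} (hg : g ∉ 𝐍[A]) (hx : P2 x) (h1 : x ∈ 𝐂[A]) (h2 : x ∈ cj(g, 𝐂[A])) :
    x = 1 :=
  Lyons.eq_one_of_odd hx.pgrp (mem_zpowers x)
    (Lyons.odd_orderOf (c.std.2.1.2 g (by rwa [c.nK])) (mem_inf.2 ⟨h1, h2⟩))

/-- The other conjugates of `C(A)` meet `N(A)` in a subgroup without elements of order four. -/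
theorem sq_eq_one {g k : G} (hg : g ∉ 𝐍[A]) (h1 : k ∈ cj(g, 𝐂[A])) (h2 : k ∈ 𝐍[A])
    (hk : P2 k) : k * k = 1 := by
  by_contra hkk
  obtain ⟨T, hT, hkT⟩ := exists_isSyl_ge hk.pgrp (zpowers_le.2 (mem_inf.2 ⟨h1, h2⟩))
  have hTK : T ≤ 𝐍[𝐂[A]] := by rw [c.nK]; exact hT.le.trans inf_le_right
  obtain ⟨P, hP, hTP, -⟩ := exists_syl_inv hT.pgrp hTK
  obtain ⟨a, ha⟩ := c.cyc P hP
  have hPc : ∀ x ∈ P, ∀ y ∈ P, x * y = y * x := fun x hx y hy => zp_comm (ha ▸ hx) (ha ▸ hy)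
  have hS : IsPGroup 2 ↥(T ⊔ P) := isPGroup_sup hT.pgrp hP.pgrp hTP
  obtain ⟨n, hn⟩ := (hk.mul hk rfl).exists_iv hkk
  rw [(Commute.refl k).mul_pow] at hn
  set u := k ^ n with hu
  have huT : u ∈ T := pow_mem (hkT (mem_zpowers k)) n
  have hsT : u * u ∈ T := mul_mem huT huT
  have hz : 𝐳[u * u] ≤ cj(g, 𝐍[A]) := by
    rw [← normalizer_cj]
    exact (c.conj g).z_le hn (by rw [centralizer_cj]; exact (hT.le hsT).1)
  have h0 : ∀ p ∈ P, p ∈ 𝐍[T] → ∀ τ ∈ T, p * τ = τ * p := fun p hp hp' τ hτ => by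
    have h3 : p * τ * p⁻¹ * τ⁻¹ ∈ T := mul_mem (conj_mem_of_mem_normalizer hp' hτ) (inv_mem hτ)
    have h4 : p * (τ * p⁻¹ * τ⁻¹) ∈ P :=
      mul_mem hp (conj_mem_of_mem_normalizer (hTP hτ) (inv_mem hp))
    have := c.eq_one hg (p2_of_mem hT.pgrp h3) (by simpa only [mul_assoc] using hP.le h4)
      (hT.le h3).1
    rwa [mul_inv_eq_one, mul_inv_eq_iff_eq_mul] at this
  have hlt : (T ⊔ P) ⊓ 𝐍[T] < T ⊔ P := by
    refine lt_of_le_of_ne inf_le_left fun e => c.no P hP g⁻¹ (fun h => hg (inv_mem_iff.1 h)) ?_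
    rw [← le_cj_iff]
    exact fun p hp => hz (mem_z.2 (h0 p hp (e.ge (mem_sup_right hp)).2 _ hsT))
  set M := (T ⊔ P) ⊓ 𝐍[T] with hM
  have hTM : T ≤ M := le_inf le_sup_left le_normalizer
  obtain ⟨y, ⟨hy1, hy2⟩, hy3⟩ := SetLike.exists_of_lt (lt_inf_normalizer hS hlt)
  obtain ⟨τ, hτ, x, hx, rfl⟩ := (mem_sup_of_le_normalizer_right hTP).1 hy1
  have hxM : x ∈ 𝐍[M] := (mul_mem_cancel_left (le_normalizer (hTM hτ))).1 hy2
  have hMT : M ⊓ cj(g, 𝐂[A]) = T := by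
    refine hT.eq (hS.to_le (inf_le_left.trans inf_le_left))
      (le_inf hTM (hT.le.trans inf_le_left)) (le_inf inf_le_right ?_)
    refine inf_le_left.trans (inf_le_left.trans (sup_le (hT.le.trans inf_le_right) ?_))
    exact hP.le.trans (centralizer_le_normalizer' A)
  have hN : ∀ z ∈ 𝐍[M], z * (u * u) = u * u * z → z ∈ 𝐍[T] := fun z hz1 hz2 => by
    rw [← hMT]
    refine le_normalizer_inf (L := zpowers z) (zpowers_le.2 hz1) (zpowers_le.2 ?_) (mem_zpowers z)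
    rw [normalizer_cj, c.nK]
    exact hz (mem_z.2 hz2)
  have hc : ∀ v ∈ T, ∃ e ∈ P, x * v * x⁻¹ = v * e ∧ e * v = v * e := fun v hv => by
    have h3 : v⁻¹ * x * v * x⁻¹ ∈ P := mul_mem (inv_conj_mem_of_mem_normalizer (hTP hv) hx)
      (inv_mem hx)
    have h4 : v⁻¹ * (x * v * x⁻¹) ∈ M :=
      mul_mem (inv_mem (hTM hv)) (conj_mem_of_mem_normalizer hxM (hTM hv))
    exact ⟨_, h3, by group, h0 _ h3 (by simpa only [mul_assoc] using (mem_inf.1 h4).2) v hv⟩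
  have hx2 : x * x ∈ 𝐍[T] := by
    refine hN _ (mul_mem hxM hxM) (conj_eq_iff.1 ?_)
    obtain ⟨e, he, h3, h4⟩ := hc _ hsT
    have h5 : e * e = 1 := by
      have h6 := (hn.conj x).2
      rw [h3] at h6
      calc e * e = (u * u) * (u * u) * e * e := by rw [hn.2, one_mul]
        _ = u * u * (u * u * e) * e := by group
        _ = u * u * (e * (u * u)) * e := by rw [h4]
        _ = 1 := by rw [← h6]; group
    calc x * x * (u * u) * (x * x)⁻¹ = x * (x * (u * u) * x⁻¹) * x⁻¹ := by group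
      _ = x * (u * u * e) * x⁻¹ := by rw [h3]
      _ = x * (u * u) * x⁻¹ * (x * e * x⁻¹) := by group
      _ = u * u * (e * e) := by rw [h3, conj_eq_iff.2 (hPc x hx e he)]; group
      _ = u * u := by rw [h5, mul_one]
  obtain ⟨e, he, h3, h4⟩ := hc _ huT
  have h5 : e * e = 1 := by
    have h6 := h0 _ (mul_mem hx hx) hx2 u huT
    have h7 : u⁻¹ * x * u = e * x := by
      calc u⁻¹ * x * u = u⁻¹ * (x * u * x⁻¹) * x := by group
        _ = _ := by rw [h3]; group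
    have h8 : e * e * (x * x) = x * x := by
      calc e * e * (x * x) = e * (e * x) * x := by group
        _ = e * (x * e) * x := by rw [hPc e he x hx]
        _ = (e * x) * (e * x) := by group
        _ = u⁻¹ * (x * x * u) := by rw [← h7]; group
        _ = x * x := by rw [h6]; group
    exact mul_eq_right.1 h8
  refine hy3 ⟨hy1, mul_mem (le_normalizer hτ) (hN x hxM (conj_eq_iff.1 ?_))⟩
  calc x * (u * u) * x⁻¹ = (x * u * x⁻¹) * (x * u * x⁻¹) := by group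
    _ = u * (e * u) * e := by rw [h3]; group
    _ = u * u * (e * e) := by rw [h4]; group
    _ = u * u := by rw [h5, mul_one]

/-- Other conjugates of `t` centralize no root of `t`. -/
theorem not_comm {s r : G} (h1 : IsConj t s) (h2 : s ≠ t) (h3 : s * t = t * s) (hr : r ∈ 𝐂[A])
    (hrr : r * r = t) : s * r ≠ r * s := fun e => by
  obtain ⟨g, rfl⟩ := isConj_iff.1 h1
  have h4 := (c.conj g).zt_le (mem_z.2 e.symm)
  rw [normalizer_cj, mem_cj] at h4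
  have h5 := c.sq_eq_one (g := g⁻¹) (fun h => c.not_norm h2 h3 (inv_mem_iff.1 h))
    (by simpa using conj_mem_cj g⁻¹ hr) h4 (by simpa using (root_p2 c.iv hrr).conj g⁻¹)
  apply c.iv.1
  calc t = g * (g⁻¹ * r * g * (g⁻¹ * r * g)) * g⁻¹ := by rw [← hrr]; group
    _ = 1 := by rw [h5]; group

/-- A root of `t` normalized by a given `2`-subgroup. -/
theorem exists_root {U : Subgroup G} (hU : IsPGroup 2 U) (h : U ≤ 𝐳[t]) :
    ∃ r ∈ 𝐂[A], r * r = t ∧ ∀ u ∈ U, u * r * u⁻¹ = r ∨ u * r * u⁻¹ = r⁻¹ := by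
  have hU' : IsPGroup 2 ↥(U ⊔ zpowers t) := isPGroup_sup hU c.iv.p2.pgrp
    (h.trans ((Amb.centralizer_zpowers t).ge.trans (centralizer_le_normalizer' _)))
  have hle : U ⊔ zpowers t ≤ 𝐳[t] := sup_le h (zpowers_le.2 (mem_z.2 rfl))
  obtain ⟨P, hP, h1, h2⟩ := exists_syl_inv (K := 𝐂[A]) hU' (by rw [c.nK]; exact hle.trans c.zt_le)
  have ht : t ∈ P := h2 ⟨mem_sup_right (mem_zpowers t), c.mem⟩
  obtain ⟨a, rfl⟩ := c.cyc P hP
  have ha : a ∉ zpowers t := fun ha => by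
    obtain ⟨s, h3, h4, h5⟩ := c.ex
    obtain ⟨g, rfl⟩ := isConj_iff.1 h3
    refine c.no _ hP g (c.not_norm h4 h5) ((cj_mono g (zpowers_le.2 ha)).trans ?_)
    rw [cj_zp]
    exact zpowers_le.2 (c.zt_le (mem_z.2 h5))
  obtain ⟨n, hn1, hn2⟩ := (p2_of_mem hP.pgrp (mem_zpowers a)).exists_sq_mem ha
  have hr : a ^ n ∈ zpowers a := pow_mem (mem_zpowers a) n
  have h3 : a ^ n * a ^ n = t := by
    rcases zpow_iv c.iv.2 hn2 with e | e
    · rcases zp_sq_one c.iv ht hr e with e | e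
      · exact absurd (e ▸ one_mem _) hn1
      · exact absurd (e ▸ mem_zpowers t) hn1
    · exact e
  refine ⟨_, hP.le hr, h3, fun u hu => root_eq c.iv
    (conj_mem_of_mem_normalizer (h1 (mem_sup_left hu)) hr) hr ?_ h3⟩
  calc u * a ^ n * u⁻¹ * (u * a ^ n * u⁻¹) = u * (a ^ n * a ^ n) * u⁻¹ := by group
    _ = t := by rw [h3]; exact conj_eq_iff.2 (mem_z.1 (h hu))

/-- A `2`-element cannot invert one root of `t` and centralize another one. -/
theorem root_uniq {h r q : G} (hh : P2 h) (ht : h * t = t * h) (hr : r ∈ 𝐂[A]) (hq : q ∈ 𝐂[A])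
    (hrr : r * r = t) (hqq : q * q = t) (h1 : h * r * h⁻¹ = r⁻¹) (h2 : h * q = q * h) : False := by
  have hN : zpowers h ≤ 𝐍[𝐂[A] ⊓ 𝐳[t]] := le_normalizer_inf
    (zpowers_le.2 (by rw [c.nK]; exact c.zt_le (mem_z.2 ht)))
    (zpowers_le.2 (le_normalizer (mem_z.2 ht)))
  have hz : ∀ x : G, x * x = t → x ∈ 𝐳[t] := fun x hx => mem_z.2 (by rw [← hx, mul_assoc])
  have hU : IsPGroup 2 ↥(zpowers h ⊔ zpowers r) := isPGroup_sup hh.pgrp (root_p2 c.iv hrr).pgrp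
    (zpowers_le.2 (mem_norm_zp (h1 ▸ inv_mem (mem_zpowers r))))
  obtain ⟨S, hS, hUS⟩ := exists_isSyl_ge (L := (𝐂[A] ⊓ 𝐳[t]) ⊔ zpowers h) hU
    (sup_le le_sup_right (zpowers_le.2 (mem_sup_left ⟨hr, hz r hrr⟩)))
  obtain ⟨k, hk, hk'⟩ := hS.exists_cj_le (pgrp_pair hh (root_p2 c.iv hqq) h2)
    (sup_le le_sup_right (zpowers_le.2 (mem_sup_left ⟨hq, hz q hqq⟩)))
  obtain ⟨b, hb', w, hw, rfl⟩ := (mem_sup_of_le_normalizer_left hN).1 hk
  obtain ⟨hb, hbt⟩ := mem_inf.1 hb'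
  obtain ⟨a, -, ha⟩ := c.le_zp (hS.pgrp.to_le (inf_le_left (b := 𝐂[A]))) inf_le_right
  have e1 : b * w * q * (b * w)⁻¹ = b * q * b⁻¹ := by
    calc b * w * q * (b * w)⁻¹ = b * (w * q * w⁻¹) * b⁻¹ := by group
      _ = _ := by rw [conj_eq_iff.2 (comm_zp h2.symm hw).symm]
  have e2 : b * w * h * (b * w)⁻¹ = b * h * b⁻¹ := by
    calc b * w * h * (b * w)⁻¹ = b * (w * h * w⁻¹) * b⁻¹ := by group
      _ = _ := by rw [conj_eq_iff.2 (comm_zp rfl hw).symm]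
  have h3 : b * q * b⁻¹ ∈ S := e1 ▸ hk' (conj_mem_cj _ (mem_sup_right (mem_zpowers q)))
  have h4 : b * h * b⁻¹ ∈ S := e2 ▸ hk' (conj_mem_cj _ (mem_sup_left (mem_zpowers h)))
  have hhS : h ∈ S := hUS (mem_sup_left (mem_zpowers h))
  have hrz : r ∈ zpowers a := ha ⟨hUS (mem_sup_right (mem_zpowers r)), hr⟩
  have h5 := root_eq c.iv (ha (mem_inf.2 ⟨h3, mul_mem (mul_mem hb hq) (inv_mem hb)⟩)) hrz (by
    calc b * q * b⁻¹ * (b * q * b⁻¹) = b * (q * q) * b⁻¹ := by group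
      _ = t := by rw [hqq]; exact conj_eq_iff.2 (mem_z.1 hbt)) hrr
  have h6 : b * h * b⁻¹ * h⁻¹ ∈ zpowers a := ha (mem_inf.2 ⟨mul_mem h4 (inv_mem hhS), by
    simpa only [mul_assoc] using mul_mem hb (conj_mem_cent (c.zt_le (mem_z.2 ht)) (inv_mem hb))⟩)
  have h7 : b * h * b⁻¹ * (b * q * b⁻¹) = b * q * b⁻¹ * (b * h * b⁻¹) := by
    calc b * h * b⁻¹ * (b * q * b⁻¹) = b * (h * q) * b⁻¹ := by group
      _ = _ := by rw [h2]; group
  have h8 : Commute (b * h * b⁻¹) r := by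
    rcases h5 with e | e <;> rw [e] at h7
    · exact h7
    · exact Commute.inv_right_iff.1 h7
  have h9 : Commute h r := by
    have := (show Commute (b * h * b⁻¹ * h⁻¹) r from zp_comm h6 hrz).inv_left.mul_left h8
    rwa [show (b * h * b⁻¹ * h⁻¹)⁻¹ * (b * h * b⁻¹) = h by group] at this
  exact root_ne_inv c.iv hrr (by rw [← h1, conj_eq_iff.2 h9.eq])

theorem mul_isConj {s : G} (h1 : IsConj t s) (h2 : s ≠ t) (h3 : s * t = t * s) :
    IsConj t (s * t) := by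
  have hs := iv_of_isConj h1 c.iv
  obtain ⟨r, hr, hrr, h⟩ := c.exists_root hs.p2.pgrp (zpowers_le.2 (mem_z.2 h3))
  rcases h s (mem_zpowers s) with e | e
  · exact absurd (conj_eq_iff.1 e) (c.not_comm h1 h2 h3 hr hrr)
  · have : s * t = r⁻¹ * s * r⁻¹⁻¹ := by
      calc s * t = (s * r * s⁻¹) * s * r := by rw [← hrr]; group
        _ = _ := by rw [e, inv_inv]
    rw [this]
    exact isConj_conj h1 _

/-- Three pairwise commuting conjugates of `t` lie in a four-group. -/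
theorem tri {s u : G} (h1 : IsConj t s) (h2 : s ≠ t) (h3 : s * t = t * s) (h4 : IsConj t u)
    (h5 : u ≠ t) (h6 : u * t = t * u) (h7 : u * s = s * u) : u = s ∨ u = s * t := by
  by_contra hn
  push Not at hn
  have hs := iv_of_isConj h1 c.iv
  have hu := iv_of_isConj h4 c.iv
  obtain ⟨B, d⟩ := c.of_isConj h1
  have h8 : IsConj t (u * s) := h1.trans (d.mul_isConj (h1.symm.trans h4) hn.1 h7)
  obtain ⟨r, hr, hrr, h⟩ := c.exists_root (pgrp_pair hu.p2 hs.p2 h7)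
    (sup_le (zpowers_le.2 (mem_z.2 h6)) (zpowers_le.2 (mem_z.2 h3)))
  have e1 := (h u (mem_sup_left (mem_zpowers u))).resolve_left
    fun e => c.not_comm h4 h5 h6 hr hrr (conj_eq_iff.1 e)
  have e2 := (h s (mem_sup_right (mem_zpowers s))).resolve_left
    fun e => c.not_comm h1 h2 h3 hr hrr (conj_eq_iff.1 e)
  refine c.not_comm h8 (fun e => hn.2 ?_) (by rw [mul_assoc, h3, ← mul_assoc, h6, mul_assoc])
    hr hrr (conj_eq_iff.1 ?_)
  · rw [h3, ← e, mul_assoc, hs.2, mul_one]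
  · calc u * s * r * (u * s)⁻¹ = u * (s * r * s⁻¹) * u⁻¹ := by group
      _ = (u * r * u⁻¹)⁻¹ := by rw [e2]; group
      _ = r := by rw [e1, inv_inv]

end Cfg

end Cfsg.Agent.StdCyc
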