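import Mathlib
import Cfsg.Agent.Std.CycA

/-! The weak closure of `t` in a Sylow subgroup is dihedral; conjugates of its element of order
four. -/

set_option autoImplicit false
set_option linter.unusedSectionVars false
set_option linter.unusedVariables false

namespace Cfsg.Agent.StdCyc

open Cfsg Subgroup Cfsg.Agent.PLocal Cfsg.Agent.PLocal.Amb Cfsg.Agent.Trm
open scoped Cfsg.Agent.Lyons

variable {G : Type*} [Group G] [Finite G]

theorem mem_of_zpow_odd {K : Subgroup G} {a : G} (ha : P2 a) {m : ℤ} (hm : Odd m)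
    (h : a ^ m ∈ K) : a ∈ K := by
  obtain ⟨k, hk⟩ := p2_ord ha
  refine mem_of_pow_mem_of_coprime (n := m.natAbs) ?_ ?_
  · rcases Int.natAbs_eq m with e | e
    · rwa [e, zpow_natCast] at h
    · rwa [e, zpow_neg, zpow_natCast, inv_mem_iff] at h
  · rw [hk]
    exact Nat.Coprime.pow_left _ ((Nat.coprime_two_left).2 (Int.natAbs_odd.2 hm))

theorem comm_mem_of_sq {P M : Subgroup G} (h : ∀ u ∈ P, u * u ∈ M) {a b : G} (ha : a ∈ P)
    (hb : b ∈ P) : a * b * a⁻¹ * b⁻¹ ∈ M := by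
  have := mul_mem (mul_mem (h _ (mul_mem ha hb)) (h _ (mul_mem (mul_mem (inv_mem hb) (inv_mem ha))
    hb))) (h _ (inv_mem hb))
  convert this using 1
  group

theorem sq_comm_of_pm {u r : G} (h : u * r * u⁻¹ = r ∨ u * r * u⁻¹ = r⁻¹) :
    u * u * r = r * (u * u) := by
  refine conj_eq_iff.1 ?_
  have : u * u * r * (u * u)⁻¹ = u * (u * r * u⁻¹) * u⁻¹ := by group
  rw [this]
  rcases h with e | e
  · rw [e, e]
  · calc u * (u * r * u⁻¹) * u⁻¹ = (u * r * u⁻¹)⁻¹ := by nth_rw 1 [e]; group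
      _ = r := by rw [e, inv_inv]

theorem comm_of_inv_inv {a b r : G} (ha : a * r * a⁻¹ = r⁻¹) (hb : b * r * b⁻¹ = r⁻¹) :
    a * b * r = r * (a * b) := by
  refine conj_eq_iff.1 ?_
  calc a * b * r * (a * b)⁻¹ = a * (b * r * b⁻¹) * a⁻¹ := by group
    _ = (a * r * a⁻¹)⁻¹ := by rw [hb]; group
    _ = r := by rw [ha, inv_inv]

theorem Cfg.not_sq {A : Subgroup G} {t : G} (c : Cfg A t) {s w : G} (h1 : IsConj t s) (h2 : s ≠ t)
    (h3 : w * w = t) (h4 : w * s = s * w) : False := by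
  obtain ⟨B, d⟩ := c.of_isConj h1
  obtain ⟨r, hr, hrr, h⟩ := d.exists_root (root_p2 c.iv h3).pgrp (zpowers_le.2 (mem_z.2 h4))
  refine d.not_comm h1.symm h2.symm ?_ hr hrr (h3 ▸ sq_comm_of_pm (h w (mem_zpowers w)))
  rw [← h3, mul_assoc, h4, ← mul_assoc, h4, mul_assoc]

/-- A Sylow subgroup of `C(t)` and a root of `t` normalized by it. -/
structure Pre (A S : Subgroup G) (t r : G) : Prop where
  cfg : Cfg A t
  syl : IsSyl 2 S 𝐳[t]
  rK : r ∈ 𝐂[A]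
  rr : r * r = t
  rn : ∀ u ∈ S, u * r * u⁻¹ = r ∨ u * r * u⁻¹ = r⁻¹

/-- the conjugates of `t` in `S` other than `t` -/
structure XX (S : Subgroup G) (t x : G) : Prop where
  cj : IsConj t x
  mem : x ∈ S
  ne : x ≠ t

namespace Pre

variable {A S : Subgroup G} {t r : G} (c : Pre A S t r)
include c

theorem iv : Iv t := c.cfg.iv

theorem ct {u : G} (h : u ∈ S) : u * t = t * u := mem_z.1 (c.syl.le h)

theorem p2 {u : G} (h : u ∈ S) : P2 u := p2_of_mem c.syl.pgrp h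

theorem rS : r ∈ S := by
  refine c.syl.le_of_le_normalizer (root_p2 c.iv c.rr).pgrp
    (zpowers_le.2 (mem_z.2 (by rw [← c.rr, mul_assoc]))) (fun u hu => mem_norm_zp ?_)
    (mem_zpowers r)
  rcases c.rn u hu with e | e <;> rw [e]
  · exact mem_zpowers r
  · exact inv_mem (mem_zpowers r)

theorem tS : t ∈ S := c.rr ▸ mul_mem c.rS c.rS

theorem xiv {x : G} (h : XX S t x) : Iv x := iv_of_isConj h.cj c.iv

theorem xr {x : G} (h : XX S t x) : x * r * x⁻¹ = r⁻¹ := (c.rn x h.mem).resolve_left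
  fun e => c.cfg.not_comm h.cj h.ne (c.ct h.mem) c.rK c.rr (conj_eq_iff.1 e)

theorem xconj {x g : G} (h : XX S t x) (hg : g * t = t * g) (hx : g * x * g⁻¹ ∈ S) :
    XX S t (g * x * g⁻¹) :=
  ⟨isConj_conj h.cj g, hx, fun e => h.ne (by
    calc x = g⁻¹ * (g * x * g⁻¹) * g := by group
      _ = t := by rw [e, mul_assoc, ← hg]; group)⟩

theorem xconj' {x g : G} (h : XX S t x) (hg : g ∈ S) : XX S t (g * x * g⁻¹) :=
  c.xconj h (c.ct hg) (mul_mem (mul_mem hg h.mem) (inv_mem hg))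

theorem eq_of_comm {x : G} (h1 : IsConj t x) (h2 : x ∈ S) (h3 : x * r = r * x) : x = t := by
  by_contra h
  exact c.cfg.not_comm h1 h (c.ct h2) c.rK c.rr h3

theorem top : IsSyl 2 S ⊤ := by
  refine isSyl_of_isSyl_normalizer ⟨le_inf le_top le_normalizer, c.syl.pgrp, fun R hR h1 h2 => ?_⟩
  refine c.syl.max R hR h1 fun n hn => mem_z.2 (conj_eq_iff.1 ?_)
  have hn' := (mem_inf.1 (h2 hn)).2
  refine c.eq_of_comm (isConj_iff.2 ⟨n, rfl⟩) (conj_mem_of_mem_normalizer hn' c.tS) ?_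
  calc n * t * n⁻¹ * r = n * (t * (n⁻¹ * r * n)) * n⁻¹ := by group
    _ = _ := by rw [← c.ct (inv_conj_mem_of_mem_normalizer hn' c.rS)]; group

theorem xinv {a b : G} (ha : XX S t a) (hb : XX S t b) : a * (a * b) * a⁻¹ = (a * b)⁻¹ := by
  rw [← mul_assoc, (c.xiv ha).2, mul_inv_rev, (c.xiv hb).inv_eq, one_mul]

theorem xmul {a b w : G} (ha : XX S t a) (hb : XX S t b) (hw : w ∈ zpowers (a * b)) :
    XX S t (a * w) := by
  refine ⟨dl (c.xinv ha hb) ha.cj (by rw [← mul_assoc, (c.xiv ha).2, one_mul]; exact hb.cj) hw,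
    mul_mem ha.mem (zpowers_le.2 (mul_mem ha.mem hb.mem) hw), fun e => ?_⟩
  have h1 := comm_zp (comm_of_inv_inv (c.xr ha) (c.xr hb)).symm hw
  have h2 : a * r = r * a := by
    calc a * r = a * w * (w⁻¹ * r) := by group
      _ = t * r * w⁻¹ := by rw [e, mul_assoc, (show Commute r w from h1).inv_right.eq]
      _ = _ := by rw [← c.ct c.rS, ← e]; group
  exact root_ne_inv c.iv c.rr ((c.xr ha).symm.trans (conj_eq_iff.2 h2))

theorem t_mem {a b : G} (ha : XX S t a) (hb : XX S t b) (h : a ≠ b) : t ∈ zpowers (a * b) := by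
  have h1 : a * b ≠ 1 := fun e => h ((eq_inv_of_mul_eq_one_left e).trans (c.xiv hb).inv_eq)
  obtain ⟨n, hn⟩ := (c.p2 (mul_mem ha.mem hb.mem)).exists_iv h1
  have hw := pow_mem (mem_zpowers (a * b)) n
  have h2 := c.xmul ha hb hw
  have h3 := inv_zp (c.xinv ha hb) hw
  rw [hn.inv_eq, conj_eq_iff] at h3
  rcases c.cfg.tri ha.cj ha.ne (c.ct ha.mem) h2.cj h2.ne (c.ct h2.mem)
    (by rw [mul_assoc, h3]) with e | e
  · exact absurd (mul_eq_left.1 e) hn.1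
  · rwa [← mul_left_cancel e]

theorem xeq {s a b : G} (hs : XX S t s) (ha : XX S t a) (hb : XX S t b)
    (h : a * b * s = s * (a * b)) : b = a ∨ b = a * t := by
  by_cases h1 : a = b
  · exact Or.inl h1.symm
  have e0 : b = a * (a * b) := by rw [← mul_assoc, (c.xiv ha).2, one_mul]
  rcases zp_gen_or_sq (c.p2 (mul_mem ha.mem hb.mem)) (c.t_mem ha hb h1) with h2 | ⟨w, hw, h2⟩
  · rcases zpow_iv c.iv.2 h2 with e | e
    · exact Or.inl (by rw [e0, e, mul_one])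
    · exact Or.inr (by rw [e0, e])
  · exact (c.cfg.not_sq hs.cj hs.ne h2.symm (comm_zp h.symm hw).symm).elim

theorem chain {s a : G} (hs : XX S t s) (ha : XX S t a) (n : ℕ) : ∀ b, XX S t b →
    orderOf (s * b) = n → n ≤ orderOf (s * a) → s * b ∈ zpowers (s * a) := by
  induction n using Nat.strong_induction_on with
  | _ n ih =>
  intro b hb hn hle
  by_cases h1 : s * b = 1
  · exact h1 ▸ one_mem _
  have hp := c.p2 (mul_mem hs.mem hb.mem)
  have hp' := c.p2 (mul_mem hs.mem ha.mem)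
  have hlt := ord_sq_lt hp h1
  have e : s * b * (s * b) = s * (b * s * b⁻¹) := by rw [(c.xiv hb).inv_eq]; group
  have h2 := ih _ (hn ▸ hlt) _ (c.xconj' hs hb.mem) (by rw [← e]) (by omega)
  obtain ⟨w, hw, h3⟩ := zp_sq_of_lt hp' h2 (by rw [← e]; omega)
  have h4 := c.xmul hs ha hw
  have h5 : s * w * b * s = s * (s * w * b) := by
    have h6 : b * s * b⁻¹ = s * (w * w) := by rw [← h3, ← mul_assoc, (c.xiv hs).2, one_mul]
    have h7 := inv_zp (c.xinv hs ha) hw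
    calc s * w * b * s = s * w * (b * s * b⁻¹) * b := by group
      _ = (s * w * s⁻¹) * (s * s) * (w * w) * b := by rw [h6]; group
      _ = _ := by rw [h7, ← mul_assoc s, ← mul_assoc s, (c.xiv hs).2]; group
  have ht : t ∈ zpowers (s * a) := c.t_mem hs ha fun e' => h1 (by
    rw [← orderOf_eq_one_iff, hn]
    rw [← e', (c.xiv hs).2, orderOf_one] at hle
    have := orderOf_pos (s * b)
    omega)
  rcases c.xeq hs h4 hb h5 with e' | e' <;> rw [e']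
  · rwa [← mul_assoc, (c.xiv hs).2, one_mul]
  · rw [← mul_assoc, ← mul_assoc, (c.xiv hs).2, one_mul]
    exact mul_mem hw ht

theorem exists_max {s : G} (hs : XX S t s) :
    ∃ a, XX S t a ∧ ∀ b, XX S t b → s * b ∈ zpowers (s * a) := by
  obtain ⟨a, ha, h⟩ := Set.exists_max_image {x | XX S t x} (fun x => orderOf (s * x))
    (Set.toFinite _) ⟨s, hs⟩
  exact ⟨a, ha, fun b hb => c.chain hs ha _ b hb rfl (h b hb)⟩

/-- Sylow's theorem in the normalizer of a conjugate of a normal cyclic subgroup. -/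
theorem close {s v h : G} (hs : XX S t s) (hv : S ≤ 𝐍[zpowers v]) (hh : h * t = t * h)
    (hn : s * (h * v * h⁻¹) * s⁻¹ ∈ zpowers (h * v * h⁻¹)) :
    ∃ g x w, XX S t x ∧ w ∈ zpowers v ∧ s * (h * v * h⁻¹) = g * (x * w) * g⁻¹ := by
  have h1 : IsSyl 2 cj(h, S) (𝐳[t] ⊓ 𝐍[zpowers (h * v * h⁻¹)]) := by
    refine (c.syl.cj_of_mem (mem_z.2 hh)).mono (le_inf (c.syl.cj_of_mem (mem_z.2 hh)).le ?_)
      inf_le_left
    rw [← cj_zp, normalizer_cj]
    exact cj_mono h hv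
  obtain ⟨n, hn', h2⟩ := h1.exists_le_cj (c.p2 hs.mem).pgrp
    (zpowers_le.2 (mem_inf.2 ⟨c.syl.le hs.mem, mem_norm_zp hn⟩))
  obtain ⟨h3, h4⟩ := mem_inf.1 hn'
  have h5 := h2 (mem_zpowers s)
  rw [← cj_mul, mem_cj] at h5
  have h6 := inv_conj_mem_of_mem_normalizer h4 (mem_zpowers _)
  rw [← cj_zp, mem_cj] at h6
  refine ⟨n * h, _, _, by
    simpa only [inv_inv] using c.xconj (g := (n * h)⁻¹) hs
      (mem_z.1 (inv_mem (mul_mem h3 (mem_z.2 hh)))) (by rwa [inv_inv]), h6, by group⟩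

end Pre

/-- The dihedral weak closure `⟨s, y⟩` of `t` with its element `z` of order four. -/
structure Sy (A S : Subgroup G) (t r s y z : G) : Prop extends Pre A S t r where
  sX : XX S t s
  yX : XX S t (s * y)
  max : ∀ b, XX S t b → s * b ∈ zpowers y
  zy : z ∈ zpowers y
  zz : z * z = t
  ex : ∃ u ∈ zpowers y, u ∈ A ∧ u ∉ 𝐂[A]

theorem Cfg.exists_sy {A : Subgroup G} {t : G} (c : Cfg A t) :
    ∃ S r s y z, Sy A S t r s y z := by
  obtain ⟨s, h1, h2, h3⟩ := c.ex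
  have hs := iv_of_isConj h1 c.iv
  have hsN : s ∈ 𝐍[A] := c.zt_le (mem_z.2 h3)
  have hsK : s ∉ 𝐂[A] := fun h => h2 (c.eq_iv hs h h3)
  have hN : A ⊔ zpowers s ≤ 𝐍[A] := sup_le le_normalizer (zpowers_le.2 hsN)
  obtain ⟨h, hh, h4, h5⟩ := zA (Z := 𝐂[A]) c.std.1 le_sup_left hN le_rfl
    (le_normalizer_centralizer hN) (mem_sup_right (mem_zpowers s)) (hs.2 ▸ one_mem _) hsK
  obtain ⟨a, ha, w, hw, rfl⟩ := (mem_sup_of_le_normalizer_left (zpowers_le.2 hsN)).1 hh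
  have e : a * w * s * (a * w)⁻¹ = a * s * a⁻¹ := by
    calc a * w * s * (a * w)⁻¹ = a * (w * s * w⁻¹) * a⁻¹ := by group
      _ = _ := by rw [conj_eq_iff.2 (comm_zp rfl hw).symm]
  rw [e] at h4 h5
  set u := s * (a * s * a⁻¹) with hu
  have huA : u ∈ A := by
    have := mul_mem (conj_mem_of_mem_normalizer hsN ha) (inv_mem ha)
    rwa [hs.inv_eq, show s * a * s * a⁻¹ = u by rw [hu]; group] at this
  have huK : u ∉ 𝐂[A] := fun h => h5 (by
    have := inv_mem h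
    rwa [hu, mul_inv_rev, (hs.conj a).inv_eq] at this)
  have hu2 : u * u ∈ 𝐂[A] := by
    have := inv_mem h4.2
    generalize hb : a * s * a⁻¹ = b at this hu
    have hb2 : b⁻¹ = b := hb ▸ (hs.conj a).inv_eq
    simp only [mul_inv_rev, hs.inv_eq, hb2] at this
    rw [hu]
    simpa only [mul_assoc] using this
  obtain ⟨m, ⟨k, rfl⟩, hm⟩ := exists_odd_pow_p2 u
  have hinv : s * u * s⁻¹ = u⁻¹ := by
    rw [hu, ← mul_assoc, hs.2, one_mul, mul_inv_rev, (hs.conj a).inv_eq]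
  have hv := pow_mem (mem_zpowers u) (2 * k + 1)
  set v := u ^ (2 * k + 1) with hv'
  have hvK : v ∉ 𝐂[A] := fun h => huK (by
    rwa [hv', pow_succ, pow_mul, sq, mul_mem_cancel_left (pow_mem hu2 k)] at h)
  have hvA : v ∈ A := pow_mem huA _
  obtain ⟨S, hS, hle⟩ := exists_isSyl_ge (L := 𝐳[t]) (isPGroup_sup hs.p2.pgrp hm.pgrp
    (zpowers_le.2 (mem_norm_zp (inv_zp hinv hv ▸ inv_mem (mem_zpowers v)))))
    (sup_le (zpowers_le.2 (mem_z.2 h3)) (zpowers_le.2 (c.le_zt hvA)))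
  obtain ⟨r, hr, hrr, hn⟩ := c.exists_root hS.pgrp hS.le
  have d : Pre A S t r := ⟨c, hS, hr, hrr, hn⟩
  have hsX : XX S t s := ⟨h1, hle (mem_sup_left (mem_zpowers s)), h2⟩
  obtain ⟨b, hb, hmax⟩ := d.exists_max hsX
  have hvy : v ∈ zpowers (s * b) := by
    have := hmax (s * v) ⟨dl hinv h1 (by
      rw [hu, ← mul_assoc, hs.2, one_mul]; exact isConj_conj h1 a) hv,
      mul_mem hsX.mem (hle (mem_sup_right (mem_zpowers v))), fun e => ?_⟩
    · rwa [← mul_assoc, hs.2, one_mul] at this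
    · refine c.not_comm h1 h2 h3 hr hrr ?_
      have h6 : s = t * v⁻¹ := by rw [← e]; group
      rw [h6, mul_assoc, ← cent_comm hr (inv_mem hvA), ← mul_assoc, ← d.ct d.rS, mul_assoc]
  have hty : t ∈ zpowers (s * b) := d.t_mem hsX hb fun e => hvK (by
    rw [← e, hs.2, zpowers_one_eq_bot, mem_bot] at hvy
    exact hvy ▸ one_mem _)
  rcases zp_gen_or_sq (d.p2 (mul_mem hsX.mem hb.mem)) hty with h6 | ⟨z, hz, h6⟩
  · exact absurd (zpowers_le.2 c.mem (zpowers_le.2 h6 hvy)) hvK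
  exact ⟨S, r, s, s * b, z, d, hsX, by rwa [← mul_assoc, hs.2, one_mul], hmax, hz, h6.symm,
    v, hvy, hvA, hvK⟩

namespace Sy

variable {A S : Subgroup G} {t r s y z : G} (c : Sy A S t r s y z)
include c

theorem siv : Iv s := c.xiv c.sX

theorem ss {x : G} : s * (s * x) = x := by rw [← mul_assoc, c.siv.2, one_mul]

theorem yS : y ∈ S := (mul_mem_cancel_left c.sX.mem).1 c.yX.mem

theorem yle : zpowers y ≤ S := zpowers_le.2 c.yS

theorem py : P2 y := c.p2 c.yS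

theorem ty : t ∈ zpowers y := c.zz ▸ mul_mem c.zy c.zy

theorem sinv {w : G} (h : w ∈ zpowers y) : s * w * s⁻¹ = w⁻¹ :=
  inv_zp (by simpa only [c.ss] using c.xinv c.sX c.yX) h

theorem xs {w : G} (h : w ∈ zpowers y) : XX S t (s * w) :=
  c.xmul c.sX c.yX (by rwa [c.ss])

theorem ry {w : G} (h : w ∈ zpowers y) : r * w = w * r :=
  comm_zp (by simpa only [c.ss] using (comm_of_inv_inv (c.xr c.sX) (c.xr c.yX)).symm) h

theorem mul_mem_y {a b : G} (ha : XX S t a) (hb : XX S t b) : a * b ∈ zpowers y := by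
  have := mul_mem (inv_mem (c.max a ha)) (c.max b hb)
  rwa [mul_inv_rev, mul_assoc, inv_mul_cancel_left, (c.xiv ha).inv_eq] at this

theorem ny : S ≤ 𝐍[zpowers y] := fun x hx => mem_norm_zp (by
  have := c.mul_mem_y (c.xconj' c.sX hx) (c.xconj' c.yX hx)
  rwa [show x * s * x⁻¹ * (x * (s * y) * x⁻¹) = x * (s * (s * y)) * x⁻¹ by group, c.ss] at this)

theorem nv {v : G} (h : v ∈ zpowers y) : S ≤ 𝐍[zpowers v] := fun x hx => mem_norm_zp
  (zp_of_le c.py (conj_mem_of_mem_normalizer (c.ny hx) h) h (orderOf_conj' x v).le)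

theorem y_cent {w : G} (h : w ∈ zpowers y) (hc : s * w = w * s) : w = 1 ∨ w = t := by
  refine zp_sq_one c.iv c.ty h ?_
  have := c.sinv h
  rw [conj_eq_iff.2 hc] at this
  nth_rw 1 [this]
  exact inv_mul_cancel w

theorem zS : z ∈ S := c.yle c.zy

theorem zpm {x : G} (h : x ∈ S) : x * z * x⁻¹ = z ∨ x * z * x⁻¹ = z⁻¹ :=
  root_eq c.iv (conj_mem_of_mem_normalizer (c.ny h) c.zy) c.zy (by
    calc x * z * x⁻¹ * (x * z * x⁻¹) = x * (z * z) * x⁻¹ := by group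
      _ = t := by rw [c.zz]; exact conj_eq_iff.2 (c.ct h)) c.zz

theorem close_y {v h : G} (hv : v ∈ zpowers y) (hh : h * t = t * h) (hS : h * v * h⁻¹ ∈ S)
    (hr : h * v * h⁻¹ * r = r * (h * v * h⁻¹))
    (hn : s * (h * v * h⁻¹) * s⁻¹ ∈ zpowers (h * v * h⁻¹)) : h * v * h⁻¹ ∈ zpowers y := by
  obtain ⟨g, x, w, hx, hw, e⟩ := c.close c.sX (c.nv hv) hh hn
  have h1 : XX S t (x * w) := by
    have := c.xs (mul_mem (c.max x hx) (zpowers_le.2 hv hw))
    rwa [mul_assoc s x w, c.ss] at this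
  have := c.max (s * (h * v * h⁻¹)) ⟨e ▸ isConj_conj h1.cj g, mul_mem c.sX.mem hS, fun e' => ?_⟩
  · rwa [c.ss] at this
  · refine c.cfg.not_comm c.sX.cj c.sX.ne (c.ct c.sX.mem) c.rK c.rr ?_
    have h6 : s = t * (h * v * h⁻¹)⁻¹ := by rw [← e']; group
    rw [h6, mul_assoc, (show Commute (h * v * h⁻¹) r from hr).inv_left.eq, ← mul_assoc,
      ← c.ct c.rS, mul_assoc]

theorem ord_z : orderOf z = 4 := by
  have h1 : z ≠ 1 := fun e => c.iv.1 (by rw [← c.zz, e, mul_one])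
  rw [ord_sq (c.p2 c.zS) h1, c.zz, c.iv.ord]

/-- An element of `S` centralizing `z` with a nontrivial square in `⟨y⟩` generates an
`s`-invariant subgroup. -/
theorem s_norm {v : G} (hv : v ∈ S) (hz : v * z = z * v) (h1 : v * v ∈ zpowers y)
    (h2 : v * v ≠ 1) : s * v * s⁻¹ ∈ zpowers v := by
  have hb := c.max _ (c.xconj' c.sX hv)
  set b := s * (v * s * v⁻¹) with hb'
  have e1 : s * v * s⁻¹ = b * v := by rw [hb', c.siv.inv_eq]; group
  obtain ⟨k, hk⟩ := conj_mem_of_mem_normalizer (c.ny hv) (mem_zpowers y)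
  have hp : ∀ w ∈ zpowers y, v * w * v⁻¹ = w ^ k := by
    rintro _ ⟨i, rfl⟩
    simp only at hk ⊢
    rw [← conj_zpow, ← hk, ← zpow_mul, ← zpow_mul, mul_comm]
  have h4 : (4 : ℤ) ∣ k - 1 := by
    have := hp z c.zy
    rw [conj_eq_iff.2 hz] at this
    have h5 := orderOf_dvd_iff_zpow_eq_one.2 (show z ^ (k - 1) = 1 by
      rw [zpow_sub, ← this, zpow_one, mul_inv_cancel])
    rwa [c.ord_z] at h5
  obtain ⟨j, hj⟩ := h4
  have e2 : (b * b) ^ (2 * j + 1) = (v * v * (v * v))⁻¹ := by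
    have h5 := c.sinv h1
    have h6 : b * (v * b * v⁻¹) * (v * v) = (v * v)⁻¹ := by
      rw [← h5, show s * (v * v) * s⁻¹ = s * v * s⁻¹ * (s * v * s⁻¹) by group, e1]; group
    rw [hp b hb, show k = 4 * j + 1 by omega] at h6
    calc (b * b) ^ (2 * j + 1) = b * b ^ (4 * j + 1) * (v * v) * (v * v)⁻¹ := by
          rw [← sq, ← zpow_natCast, ← zpow_mul]; group
      _ = _ := by rw [h6]; group
  have h7 : b * b ∈ zpowers (v * v * (v * v)) :=
    mem_of_zpow_odd (c.p2 (c.yle (mul_mem hb hb))) (odd_two_mul_add_one j)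
      (e2 ▸ inv_mem (mem_zpowers _))
  obtain ⟨i, hi⟩ := h7
  have hvv : zpowers (v * v) ≤ zpowers v := zpowers_le.2 (mul_mem (mem_zpowers v) (mem_zpowers v))
  have h8 := hvv (zpow_mem (mem_zpowers _) i)
  rw [e1]
  refine mul_mem ?_ (mem_zpowers v)
  rcases zp_eq_of_sq c.iv c.ty hb (zpow_mem h1 i)
    (by rw [← hi, ← (Commute.refl (v * v)).mul_zpow]) with e | e <;> rw [e]
  · exact h8
  · exact mul_mem h8 (hvv (iv_mem_zp c.py c.iv c.ty h1 h2))

/-- a root of `s` normalized by `C_S(s)` -/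
theorem exists_root : ∃ (B : Subgroup G) (q : G), Cfg B s ∧ q ∈ 𝐂[B] ∧ q * q = s ∧
    t * q ≠ q * t ∧ ∀ u ∈ S ⊓ 𝐳[s], u * q * u⁻¹ = q ∨ u * q * u⁻¹ = q⁻¹ := by
  obtain ⟨B, d⟩ := c.cfg.of_isConj c.sX.cj
  obtain ⟨q, hq, hqq, h⟩ := d.exists_root (c.syl.pgrp.to_le (inf_le_left (b := 𝐳[s]))) inf_le_right
  exact ⟨B, q, d, hq, hqq, d.not_comm c.sX.cj.symm c.sX.ne.symm (c.ct c.sX.mem).symm hq hqq, h⟩

theorem cz {p : G} (hp : p ∈ S) (h1 : p * s = s * p) (h2 : p * r = r * p) : p * z = z * p := by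
  refine conj_eq_iff.1 ((c.zpm hp).resolve_right fun e => ?_)
  obtain ⟨B, q, -, -, -, h3, h4⟩ := c.exists_root
  have he : r * z ∈ S ⊓ 𝐳[s] := by
    refine mem_inf.2 ⟨mul_mem c.rS c.zS, mem_z.2 (conj_eq_iff.1 ?_).symm⟩
    calc s * (r * z) * s⁻¹ = (s * r * s⁻¹) * (s * z * s⁻¹) := by group
      _ = r * (t * z) * t := by
        rw [c.xr c.sX, c.sinv c.zy, inv_eq_mul c.iv c.rr, inv_eq_mul c.iv c.zz]; group
      _ = r * z := by rw [← c.ct c.zS, mul_assoc, mul_assoc, c.iv.2, mul_one]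
  have h5 := comm_mem_of_sq (M := 𝐳[q]) (fun u hu => mem_z.2 (sq_comm_of_pm (h4 u hu)))
    (mem_inf.2 ⟨hp, mem_z.2 h1⟩) he
  refine h3 (mem_z.1 ?_)
  convert h5 using 1
  calc t = r * z * t * (r * z)⁻¹ := (conj_eq_iff.2 (c.ct (mul_mem c.rS c.zS))).symm
    _ = (p * r * p⁻¹) * (p * z * p⁻¹) * (r * z)⁻¹ := by
      rw [conj_eq_iff.2 h2, e, inv_eq_mul c.iv c.zz]; group
    _ = _ := by group

theorem conj_A {v h : G} (hv : v ∈ A) (hh : h * t = t * h) : h * v * h⁻¹ ∈ A :=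
  conj_mem_of_mem_normalizer (c.cfg.zt_le (mem_z.2 hh)) hv

theorem exists_conj {v : G} (hv : v ∈ zpowers y) (h1 : v ∉ 𝐂[A]) (h2 : v * v ∈ 𝐂[A]) :
    ∃ h, h * t = t * h ∧ h * v * h⁻¹ ∈ S ∧ h * v * h⁻¹ ∉ zpowers v := by
  have hZ : ∀ w ∈ zpowers v, orderOf w = orderOf v → w * v⁻¹ ∈ 𝐂[A] ⊓ 𝐳[t] := fun w hw ho => by
    refine mem_inf.2 ⟨?_, c.syl.le (mul_mem (c.yle (zpowers_le.2 hv hw)) (inv_mem (c.yle hv)))⟩
    obtain ⟨k, rfl⟩ := hw
    obtain ⟨i, rfl | rfl⟩ := Int.even_or_odd' k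
    · refine absurd (zpowers_le.2 (show v ^ (2 * i) ∈ 𝐂[A] from ?_) (zp_of_le (c.p2 (c.yle hv))
        (mem_zpowers v) (zpow_mem (mem_zpowers v) _) ho.ge)) h1
      rw [zpow_mul, zpow_two]
      exact zpow_mem h2 i
    · simp only
      rw [zpow_add_one, mul_inv_cancel_right, zpow_mul, zpow_two]
      exact zpow_mem h2 i
  have hN : 𝐳[t] ≤ 𝐍[𝐂[A] ⊓ 𝐳[t]] :=
    le_normalizer_inf (le_normalizer_centralizer c.cfg.zt_le) le_normalizer
  obtain ⟨h, hh, h3, h4, -⟩ := zE (Z := 𝐂[A] ⊓ 𝐳[t]) c.cfg.std.1 c.cfg.le_zt c.cfg.zt_le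
    inf_le_left hN c.syl (c.yle hv) (mem_inf.2 ⟨h2, c.syl.le (c.yle (mul_mem hv hv))⟩) h1
    fun x hx => ⟨hN (c.syl.le hx), hZ _ (conj_mem_of_mem_normalizer (c.nv hv hx) (mem_zpowers v))
      (orderOf_conj' x v)⟩
  exact ⟨h, mem_z.1 hh, h3, fun e => h4 (hZ _ e (orderOf_conj' h v))⟩

theorem z_mem : z ∈ A ∧ z ∉ 𝐂[A] := by
  obtain ⟨u, hu, huA, huK⟩ := c.ex
  obtain ⟨n, h1, h2⟩ := (c.p2 (c.yle hu)).exists_sq_mem huK
  have hv := pow_mem hu n
  have hvA := pow_mem huA n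
  set v := u ^ n
  have hzv : z ∈ zpowers v := by
    refine zp_of_le c.py c.zy hv (not_lt.1 fun h => h1 ?_)
    obtain ⟨w, hw, e⟩ := zp_sq_of_lt (c.p2 c.zS) (zp_of_le c.py hv c.zy h.le) h
    obtain ⟨k, rfl⟩ := hw
    rw [e, ← (Commute.refl z).mul_zpow, c.zz]
    exact zpow_mem c.cfg.mem k
  refine ⟨zpowers_le.2 hvA hzv, fun hzK => ?_⟩
  obtain ⟨h, hh, h3, h4⟩ := c.exists_conj hv h1 h2
  have h5 := c.conj_A hvA hh
  have hzvv : z ∈ zpowers (v * v) := by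
    rcases zp_gen_or_sq (c.p2 (c.yle hv)) hzv with e | ⟨w, ⟨k, rfl⟩, e⟩
    · exact absurd (zpowers_le.2 hzK e) h1
    · exact ⟨k, by rw [e]; exact (Commute.refl v).mul_zpow k⟩
  have e : h * v * h⁻¹ * (h * v * h⁻¹) = h * (v * v) * h⁻¹ := by group
  obtain ⟨a, ha, hle⟩ := c.cfg.le_zp (c.syl.pgrp.to_le (inf_le_left (b := 𝐂[A]))) inf_le_right
  have h6 : h * v * h⁻¹ * (h * v * h⁻¹) ∈ zpowers (v * v) := zp_of_le ha
    (hle (mem_inf.2 ⟨mul_mem h3 h3, e ▸ conj_mem_cent (c.cfg.zt_le (mem_z.2 hh)) h2⟩))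
    (hle (mem_inf.2 ⟨c.yle (mul_mem hv hv), h2⟩)) (by rw [e, orderOf_conj'])
  have h7 := c.close_y hv hh h3 (cent_comm c.rK h5).symm (c.s_norm h3 (cent_comm hzK h5).symm
    (zpowers_le.2 (mul_mem hv hv) h6) fun e' => ?_)
  · exact h4 (zp_of_le c.py h7 hv (orderOf_conj' h v).le)
  · rw [e, conj_eq_one_iff] at e'
    rw [e', zpowers_one_eq_bot, mem_bot] at hzvv
    exact c.iv.1 (by rw [← c.zz, hzvv, mul_one])

theorem conj_z {a : G} (h : IsConj z a) (ha : a ∈ S) :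
    a * a = t ∧ ∃ g, g * t = t * g ∧ g * z * g⁻¹ = a := by
  obtain ⟨g, rfl⟩ := isConj_iff.1 h
  have e : g * z * g⁻¹ * (g * z * g⁻¹) = g * t * g⁻¹ := by rw [← c.zz]; group
  have h1 := c.eq_of_comm (e ▸ isConj_iff.2 ⟨g, rfl⟩) (mul_mem ha ha) (sq_comm_of_pm (c.rn _ ha))
  exact ⟨h1, g, conj_eq_iff.1 (e ▸ h1), rfl⟩

theorem conj_z_A {a : G} (h : IsConj z a) (ha : a ∈ S) : a ∈ A := by
  obtain ⟨-, g, hg, rfl⟩ := c.conj_z h ha
  exact c.conj_A c.z_mem.1 hg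

theorem mem_of_comm_z {a : G} (h : IsConj z a) (ha : a ∈ S) (hc : a * z = z * a) :
    a ∈ zpowers z := by
  have hA := c.conj_z_A h ha
  obtain ⟨h1, g, hg, rfl⟩ := c.conj_z h ha
  exact zp_of_le c.py (c.close_y c.zy hg ha (cent_comm c.rK hA).symm
    (c.s_norm ha hc (h1 ▸ c.ty) (h1 ▸ c.iv.1))) c.zy (orderOf_conj' g z).le

/-- Commuting conjugates of `z` in `S` generate the same subgroup. -/
theorem mem_of_comm {a b : G} (h1 : IsConj z a) (ha : a ∈ S) (h2 : IsConj z b) (hb : b ∈ S)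
    (hc : b * a = a * b) : b ∈ zpowers a := by
  obtain ⟨-, g, hg, rfl⟩ := c.conj_z h1 ha
  have hS : IsSyl 2 S (𝐳[t] ⊓ 𝐍[zpowers z]) := c.syl.mono (le_inf c.syl.le (c.nv c.zy)) inf_le_left
  have h3 : g⁻¹ * b * g * z = z * (g⁻¹ * b * g) := by
    calc g⁻¹ * b * g * z = g⁻¹ * (b * (g * z * g⁻¹)) * g := by group
      _ = _ := by rw [hc]; group
  obtain ⟨n, hn, h4⟩ := hS.exists_cj_le (R := zpowers (g⁻¹ * b * g))
    (P2.pgrp (by simpa only [inv_inv] using (c.p2 hb).conj g⁻¹)) (zpowers_le.2 (mem_inf.2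
      ⟨mul_mem (mul_mem (inv_mem (mem_z.2 hg)) (c.syl.le hb)) (mem_z.2 hg),
        mem_norm_zp (by rw [conj_eq_iff.2 h3]; exact mem_zpowers z)⟩))
  have hn2 := (mem_inf.1 hn).2
  have h5 := c.mem_of_comm_z (a := n * (g⁻¹ * b * g) * n⁻¹)
    (isConj_conj (by simpa only [inv_inv] using isConj_conj h2 g⁻¹) n)
    (h4 (conj_mem_cj n (mem_zpowers _))) (by
      have := comm_zp h3 (inv_conj_mem_of_mem_normalizer hn2 (mem_zpowers z))
      calc n * (g⁻¹ * b * g) * n⁻¹ * z = n * ((g⁻¹ * b * g) * (n⁻¹ * z * n)) * n⁻¹ := by group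
        _ = _ := by rw [this]; group)
  have h6 := zp_conj g (inv_conj_mem_of_mem_normalizer hn2 h5)
  rwa [show g * (n⁻¹ * (n * (g⁻¹ * b * g) * n⁻¹) * n) * g⁻¹ = b by group] at h6

end Sy

end Cfsg.Agent.StdCyc
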