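import Mathlib
import Cfsg.Agent.Std.CycB

/-! The semidihedral subgroup `⟨s, a⟩` is strongly closed. -/

set_option autoImplicit false
set_option linter.unusedSectionVars false
set_option linter.unusedVariables false

namespace Cfsg.Agent.StdCyc

open Cfsg Subgroup Cfsg.Agent.PLocal Cfsg.Agent.PLocal.Amb Cfsg.Agent.Trm
open scoped Cfsg.Agent.Lyons

variable {G : Type*} [Group G] [Finite G]

theorem odd_of_gen {y : G} (hy : P2 y) (h1 : y ≠ 1) {i : ℤ} (h : y ∈ zpowers (y ^ i)) : Odd i := by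
  rcases Int.even_or_odd' i with ⟨k, rfl | rfl⟩
  · have h2 : y ∈ zpowers (y * y) := zpowers_le.2 (show y ^ (2 * k) ∈ zpowers (y * y) from
      ⟨k, by simp only; rw [zpow_mul, zpow_two]⟩) h
    have := Nat.le_of_dvd (orderOf_pos _) (orderOf_dvd_of_mem_zpowers h2)
    have := ord_sq_lt hy h1
    omega
  · exact odd_two_mul_add_one k

theorem gen_mul_sq {y b b' : G} (hy : P2 y) (h1 : y ≠ 1) (hb : b ∈ zpowers y) (hb' : b' ∈ zpowers y)
    (h : y ∈ zpowers b) (h' : y ∈ zpowers b') : ∃ w ∈ zpowers y, b * b'⁻¹ = w * w := by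
  obtain ⟨i, rfl⟩ := hb
  obtain ⟨j, rfl⟩ := hb'
  obtain ⟨k, rfl⟩ := odd_of_gen hy h1 h
  obtain ⟨l, rfl⟩ := odd_of_gen hy h1 h'
  exact ⟨y ^ (k - l), zpow_mem (mem_zpowers y) _, by simp only; group⟩

theorem dl' {a u x : G} (h : a * u * a⁻¹ = u⁻¹) (hx : x ∈ zpowers u) :
    ∃ g ∈ zpowers u, a * x = g * a * g⁻¹ ∨ a * x = g * (a * u) * g⁻¹ := by
  obtain ⟨k, rfl⟩ := hx
  have key : ∀ i : ℤ, (u ^ i)⁻¹ * a = a * u ^ i := fun i => by
    have := inv_zp h (zpow_mem (mem_zpowers u) i)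
    rw [← this]; group
  obtain ⟨i, rfl | rfl⟩ := Int.even_or_odd' k
  · exact ⟨(u ^ i)⁻¹, inv_mem (zpow_mem (mem_zpowers u) i), Or.inl (by
      simp only; rw [key]; group)⟩
  · exact ⟨(u ^ i)⁻¹, inv_mem (zpow_mem (mem_zpowers u) i), Or.inr (by
      simp only; rw [← mul_assoc, key]; group)⟩

/-- an automorphism of order at most two of a cyclic `2`-group fixing an element of order four -/
theorem pw_fix {x z g : G} (hx : P2 x) (hz : z ∈ zpowers x) (h4 : orderOf z = 4)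
    (h1 : g * x * g⁻¹ ∈ zpowers x) (h2 : g * z = z * g) (h3 : g * g * x = x * (g * g)) :
    g * x * g⁻¹ * x⁻¹ * (g * x * g⁻¹ * x⁻¹) = 1 := by
  obtain ⟨k, hk⟩ := h1
  simp only at hk
  have hp : ∀ i : ℤ, g * x ^ i * g⁻¹ = x ^ (k * i) := fun i => by
    rw [← conj_zpow, ← hk, ← zpow_mul]
  obtain ⟨i, rfl⟩ := hz
  have h5 : (4 : ℤ) ∣ k - 1 := by
    have := hp i
    simp only at h2 h4
    rw [conj_eq_iff.2 h2] at this
    have h5 := orderOf_dvd_iff_zpow_eq_one.2 (show (x ^ i) ^ (k - 1) = 1 by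
      rw [zpow_sub, ← zpow_mul, mul_comm, ← this, zpow_one, mul_inv_cancel])
    rwa [h4] at h5
  obtain ⟨j, hj⟩ := h5
  obtain rfl : k = 4 * j + 1 := by omega
  have h6 : x ^ ((4 * j + 1) * (4 * j + 1)) = x := by
    rw [← hp, hk]
    calc g * (g * x * g⁻¹) * g⁻¹ = g * g * x * (g * g)⁻¹ := by group
      _ = x := conj_eq_iff.2 h3
  have h7 : x ^ (8 * j) ∈ (⊥ : Subgroup G) := by
    refine mem_of_zpow_odd (p2_zp hx (zpow_mem (mem_zpowers x) _)) (odd_two_mul_add_one j) ?_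
    rw [mem_bot, ← zpow_mul, show 8 * j * (2 * j + 1) = (4 * j + 1) * (4 * j + 1) - 1 by ring,
      zpow_sub, h6, zpow_one, mul_inv_cancel]
  rw [← hk, ← mem_bot.1 h7]
  group

/-- Strong closure inside an arbitrary `2`-subgroup. -/
theorem sc_any {D S U : Subgroup G} (hS : IsSyl 2 S ⊤) (h : IsStronglyClosed D S)
    (hU : IsPGroup 2 U) {k g v : G} (hk : cj(k, D) ≤ U) (hv : v ∈ D) (hg : g * v * g⁻¹ ∈ U) :
    g * v * g⁻¹ ∈ cj(k, D) := by
  obtain ⟨j, -, hj⟩ := hS.exists_cj_le hU le_top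
  have h1 : j * k ∈ 𝐍[D] := mem_normalizer_of_cj_le (cj_le_iff_forall.2 fun d hd =>
    h.2 d hd _ (hj (by
      rw [show j * k * d * (j * k)⁻¹ = j * (k * d * k⁻¹) * j⁻¹ by group]
      exact conj_mem_cj j (hk (conj_mem_cj k hd)))))
  have h2 := h.2 v hv (j * g) (hj (by
    rw [show j * g * v * (j * g)⁻¹ = j * (g * v * g⁻¹) * j⁻¹ by group]
    exact conj_mem_cj j hg))
  rw [mem_cj]
  convert inv_conj_mem_of_mem_normalizer h1 h2 using 1
  group

/-- the conjugates of `z` in `S` outside `⟨z⟩` -/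
structure YY (S : Subgroup G) (z a : G) : Prop where
  cj : IsConj z a
  mem : a ∈ S
  ne : a ∉ zpowers z

namespace Sy

variable {A S : Subgroup G} {t r s y z : G} (c : Sy A S t r s y z)
include c

theorem z_ne : z⁻¹ ≠ z := root_ne_inv c.iv c.zz

theorem y_ne : y ≠ 1 := fun e => c.iv.1 (by
  have := c.ty
  rwa [e, zpowers_one_eq_bot, mem_bot] at this)

theorem z_mem_zp {x w : G} (hx : P2 x) (hz : z ∈ zpowers x) (hw : w ∈ zpowers x)
    (h : w ∉ zpowers t) : z ∈ zpowers w := by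
  refine zp_of_le hx hz hw (not_lt.1 fun h' => h ?_)
  obtain ⟨_, ⟨k, rfl⟩, e⟩ := zp_sq_of_lt (c.p2 c.zS) (zp_of_le hx hw hz h'.le) h'
  rw [e, ← (Commute.refl z).mul_zpow, c.zz]
  exact zpow_mem (mem_zpowers t) k

theorem exists_yy : ∃ a, YY S z a := by
  obtain ⟨h, -, h1, h2⟩ := c.exists_conj c.zy c.z_mem.2 (c.zz ▸ c.cfg.mem)
  exact ⟨_, isConj_iff.2 ⟨h, rfl⟩, h1, h2⟩

variable {a : G} (ha : YY S z a)
include ha

theorem aa : a * a = t := (c.conj_z ha.cj ha.mem).1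

theorem aA : a ∈ A := c.conj_z_A ha.cj ha.mem

theorem az : a * z * a⁻¹ = z⁻¹ := (c.zpm ha.mem).resolve_left
  fun e => ha.ne (c.mem_of_comm_z ha.cj ha.mem (conj_eq_iff.1 e))

theorem by' : s * (a * s * a⁻¹) ∈ zpowers y := c.max _ (c.xconj' c.sX ha.mem)

theorem gen : y ∈ zpowers (s * (a * s * a⁻¹)) := by
  refine (zp_gen_or_sq c.py (c.by' ha)).resolve_right ?_
  rintro ⟨w, hw, e⟩
  have h1 := c.cz (p := w * a) (mul_mem (c.yle hw) ha.mem) (conj_eq_iff.1 ?_) (by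
    rw [mul_assoc, ← cent_comm c.rK (c.aA ha), ← mul_assoc, ← c.ry hw, mul_assoc])
  · refine c.z_ne ?_
    calc z⁻¹ = w * (a * z * a⁻¹) * w⁻¹ := by
          rw [c.az ha]; exact (conj_eq_iff.2 (zp_comm hw (inv_mem c.zy))).symm
      _ = w * a * z * (w * a)⁻¹ := by group
      _ = z := conj_eq_iff.2 h1
  · calc w * a * s * (w * a)⁻¹ = w * (s * (s * (a * s * a⁻¹))) * w⁻¹ := by rw [c.ss]; group
      _ = w * (s * w * s⁻¹) * s := by rw [e]; group
      _ = s := by rw [c.sinv hw]; group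

theorem xx : s * a * (s * a) = s * (a * s * a⁻¹) * t := by rw [← c.aa ha]; group

theorem xy {w : G} (hw : w ∈ zpowers y) : s * a * w = w * (s * a) := by
  refine comm_zp (comm_zp ?_ (c.gen ha)) hw
  have e : s * (a * s * a⁻¹) = s * a * (s * a) * t⁻¹ := by rw [c.xx ha]; group
  have h := c.ct (mul_mem c.sX.mem ha.mem)
  rw [e, ← mul_assoc, mul_assoc _ t⁻¹, ← (show Commute (s * a) t from h).inv_right.eq]
  group

theorem ainv {w : G} (hw : w ∈ zpowers y) : a * w * a⁻¹ = w⁻¹ := by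
  calc a * w * a⁻¹ = s⁻¹ * (s * a * w * (s * a)⁻¹) * s := by group
    _ = s * w * s⁻¹ := by rw [conj_eq_iff.2 (c.xy ha hw), c.siv.inv_eq]
    _ = _ := c.sinv hw

theorem ycl {w : G} (hw : w ∈ zpowers y) : IsConj z (a * w) := by
  have h1 : a * a = s * a * s⁻¹ * (s * a * s⁻¹) := by
    rw [show s * a * s⁻¹ * (s * a * s⁻¹) = s * (a * a) * s⁻¹ by group, c.aa ha]
    exact (conj_eq_iff.2 (c.ct c.sX.mem)).symm
  refine dl (inv_of_sq h1) ha.cj (by rw [mul_inv_cancel_left]; exact isConj_conj ha.cj s) ?_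
  have h2 := c.ainv ha (c.by' ha)
  have h3 : a⁻¹ * (s * a * s⁻¹) = (s * (a * s * a⁻¹))⁻¹ := by
    calc a⁻¹ * (s * a * s⁻¹) = (a * a)⁻¹ * (a * (s * (a * s * a⁻¹)) * a⁻¹) * (a * a) := by
          rw [c.siv.inv_eq]; group
      _ = _ := by
        rw [h2, c.aa ha, mul_assoc, c.ct (inv_mem (c.yle (c.by' ha))), inv_mul_cancel_left]
  rw [h3, zpowers_inv]
  exact zpowers_le.2 (c.gen ha) hw

theorem second {b : G} (hb : YY S z b) : a⁻¹ * b ∈ zpowers y := by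
  by_contra hu
  obtain ⟨w, hw, e⟩ := gen_mul_sq c.py c.y_ne (c.by' ha) (c.by' hb) (c.gen ha) (c.gen hb)
  have h0 : a⁻¹ * s * a = a * s * a⁻¹ := by
    calc a⁻¹ * s * a = a * ((a * a)⁻¹ * s * (a * a)) * a⁻¹ := by group
      _ = _ := by rw [c.aa ha, mul_assoc t⁻¹, c.ct c.sX.mem, inv_mul_cancel_left]
  have hinv : ∀ v ∈ zpowers y, a⁻¹ * v * a = v⁻¹ := fun v hv => by
    calc a⁻¹ * v * a = a⁻¹ * (a * v⁻¹ * a⁻¹) * a := by rw [c.ainv ha (inv_mem hv), inv_inv]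
      _ = _ := by group
  have hps : w * (a⁻¹ * b) * s = s * (w * (a⁻¹ * b)) := by
    refine conj_eq_iff.1 ?_
    calc w * (a⁻¹ * b) * s * (w * (a⁻¹ * b))⁻¹
        = w * ((a⁻¹ * s * a) * (a⁻¹ * (s * (b * s * b⁻¹)) * a)) * w⁻¹ := by
          rw [show (a⁻¹ * s * a) * (a⁻¹ * (s * (b * s * b⁻¹)) * a) =
            a⁻¹ * (s * (s * (b * s * b⁻¹))) * a by group, c.ss]; group
      _ = w * (s * (s * (a * s * a⁻¹) * (s * (b * s * b⁻¹))⁻¹)) * w⁻¹ := by
          rw [h0, hinv _ (c.by' hb), mul_assoc s (a * s * a⁻¹), c.ss]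
      _ = w * (s * w * s⁻¹) * s := by rw [e]; group
      _ = s := by rw [c.sinv hw]; group
  have huy : ∀ v ∈ zpowers y, a⁻¹ * b * v = v * (a⁻¹ * b) := fun v hv => by
    refine conj_eq_iff.1 ?_
    calc a⁻¹ * b * v * (a⁻¹ * b)⁻¹ = a⁻¹ * (b * v * b⁻¹) * a := by group
      _ = v := by rw [c.ainv hb hv, hinv _ (inv_mem hv), inv_inv]
  have hS : a⁻¹ * b ∈ S := mul_mem (inv_mem ha.mem) hb.mem
  have hai := inv_of_sq ((c.aa ha).trans (c.aa hb).symm)
  have hcl : ∀ v ∈ zpowers (a⁻¹ * b), IsConj z (a * v) := fun v hv =>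
    dl hai ha.cj (by rw [mul_inv_cancel_left]; exact hb.cj) hv
  set u := a⁻¹ * b
  obtain ⟨n, h1, h2⟩ := (c.p2 hS).exists_sq_mem hu
  have hwu : Commute w u := (huy w hw).symm
  have hq : (w * u) ^ n = w ^ n * u ^ n := hwu.mul_pow n
  have hwn := pow_mem hw n
  have hc : Commute (w ^ n) (u ^ n) := hwu.pow_pow n n
  have hqs : w ^ n * u ^ n * s = s * (w ^ n * u ^ n) :=
    hq ▸ ((show Commute (w * u) s from hps).pow_left n).eq
  generalize w ^ n = v at hwn hc hqs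
  have hun := pow_mem (mem_zpowers u) n
  generalize u ^ n = f at h1 h2 hc hqs hun
  have h3 : v * f * (v * f) = 1 := by
    have h4 : v * f * (v * f) ∈ zpowers y := by
      rw [show v * f * (v * f) = v * (f * v) * f by group, ← hc.eq,
        show v * (v * f) * f = v * v * (f * f) by group]
      exact mul_mem (mul_mem hwn hwn) h2
    refine (c.y_cent h4 ((show Commute (v * f) s from hqs).mul_left hqs).eq.symm).resolve_right
      fun e' => c.cfg.not_sq c.sX.cj c.sX.ne e' hqs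
  have h4 : a * (v * f) = v * f * a := by
    refine conj_eq_iff.1 ?_
    calc a * (v * f) * a⁻¹ = (a * v * a⁻¹) * (a * f * a⁻¹) := by group
      _ = (f * v)⁻¹ := by rw [c.ainv ha hwn, inv_zp hai hun]; group
      _ = v * f := by rw [← hc.eq]; exact inv_eq_of_mul_eq_one_left h3
  have h5 : a * v⁻¹ ∈ S := mul_mem ha.mem (inv_mem (c.yle hwn))
  have h6 := c.mem_of_comm (c.ycl ha (inv_mem hwn)) h5 (hcl f hun)
    (mul_mem ha.mem (zpowers_le.2 hS hun)) (by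
      have h7 : Commute (a * v⁻¹) (v * f) :=
        (show Commute a (v * f) from h4).mul_left ((Commute.refl v).mul_right hc).inv_left
      have := ((Commute.refl _).mul_right h7).eq
      rw [show a * v⁻¹ * (v * f) = a * f by group] at this
      exact this.symm)
  have h7 : v * f ∈ zpowers (a * v⁻¹) := by
    have := mul_mem (inv_mem (mem_zpowers _)) h6
    rwa [show (a * v⁻¹)⁻¹ * (a * f) = v * f by group] at this
  have h8 := (c.conj_z (c.ycl ha (inv_mem hwn)) h5).1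
  refine h1 ((mul_mem_cancel_left hwn).1 ?_)
  rcases zp_sq_one c.iv (h8 ▸ mul_mem (mem_zpowers _) (mem_zpowers _)) h7 h3 with e' | e' <;>
    rw [e']
  · exact one_mem _
  · exact c.ty

theorem xS : s * a ∈ S := mul_mem c.sX.mem ha.mem

theorem xx_mem : s * a * (s * a) ∈ zpowers y := c.xx ha ▸ mul_mem (c.by' ha) c.ty

theorem y_le : zpowers y ≤ zpowers (s * a * (s * a)) := by
  have h1 : s * a * (s * a) ≠ 1 := fun e => c.z_mem.2 (by
    rw [c.xx ha, mul_eq_one_iff_eq_inv, c.iv.inv_eq] at e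
    exact zpowers_le.2 c.cfg.mem (zpowers_le.2 (e ▸ c.gen ha) c.zy))
  refine zpowers_le.2 (zpowers_le.2 ?_ (c.gen ha))
  rw [show s * (a * s * a⁻¹) = s * a * (s * a) * t⁻¹ by rw [c.xx ha]; group]
  exact mul_mem (mem_zpowers _) (inv_mem (iv_mem_zp c.py c.iv c.ty (c.xx_mem ha) h1))

theorem y_le_x : zpowers y ≤ zpowers (s * a) :=
  (c.y_le ha).trans (zpowers_le.2 (mul_mem (mem_zpowers _) (mem_zpowers _)))

theorem sx : s * (s * a) * s⁻¹ = (s * a)⁻¹ * t := by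
  rw [c.ss, mul_inv_rev, inv_eq_mul c.iv (c.aa ha), c.siv.inv_eq, mul_assoc, mul_assoc,
    c.ct c.sX.mem, ← mul_assoc t, c.iv.2, one_mul]

theorem par {w : G} (hw : w ∈ zpowers (s * a)) :
    w ∈ zpowers y ∨ ∃ v ∈ zpowers y, w = s * a * v := by
  obtain ⟨k, rfl⟩ := hw
  obtain ⟨i, rfl | rfl⟩ := Int.even_or_odd' k
  · left
    simp only
    rw [zpow_mul, zpow_two]
    exact zpow_mem (c.xx_mem ha) i
  · exact Or.inr ⟨_, zpow_mem (c.xx_mem ha) i, by simp only; rw [← zpow_two]; group⟩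

theorem cls {w : G} (hw : w ∈ zpowers (s * a)) : IsConj t (s * w) ∨ IsConj z (s * w) := by
  rcases c.par ha hw with h | ⟨v, hv, rfl⟩
  · exact Or.inl (c.xs h).cj
  · rw [mul_assoc, c.ss]
    exact Or.inr (c.ycl ha hv)

theorem nx : S ≤ 𝐍[zpowers (s * a)] := fun g hg => mem_norm_zp (by
  have h1 := c.max _ (c.xconj' c.sX hg)
  have h2 := c.second ha (b := g * a * g⁻¹) ⟨isConj_conj ha.cj g,
    mul_mem (mul_mem hg ha.mem) (inv_mem hg), fun h => ha.ne (by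
      simpa only [mul_assoc, inv_mul_cancel_left, inv_mul_cancel, mul_one] using
        inv_conj_mem_of_mem_normalizer (c.nv c.zy hg) h)⟩
  have h3 := c.ainv ha (inv_mem h1)
  rw [inv_inv] at h3
  have : g * (s * a) * g⁻¹ = s * a * (s * (g * s * g⁻¹))⁻¹ * (a⁻¹ * (g * a * g⁻¹)) := by
    calc g * (s * a) * g⁻¹ = s * (s * (g * s * g⁻¹)) * (g * a * g⁻¹) := by rw [c.ss]; group
      _ = _ := by nth_rw 1 [← h3]; group
  rw [this]
  exact mul_mem (mul_mem (mem_zpowers _) (inv_mem (c.y_le_x ha h1))) (c.y_le_x ha h2))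

theorem nvx {v : G} (h : v ∈ zpowers (s * a)) : S ≤ 𝐍[zpowers v] := fun x hx => mem_norm_zp
  (zp_of_le (c.p2 (c.xS ha)) (conj_mem_of_mem_normalizer (c.nx ha hx) h) h (orderOf_conj' x v).le)

theorem mem_D {g : G} : g ∈ zpowers s ⊔ zpowers (s * a) ↔
    g ∈ zpowers (s * a) ∨ ∃ w ∈ zpowers (s * a), g = s * w := by
  constructor
  · intro h
    obtain ⟨u, hu, w, hw, rfl⟩ :=
      (mem_sup_of_le_normalizer_right (zpowers_le.2 (c.nx ha c.sX.mem))).1 h
    rcases zpow_iv c.siv.2 hu with rfl | rfl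
    · exact Or.inl (by rwa [one_mul])
    · exact Or.inr ⟨w, hw, rfl⟩
  · rintro (h | ⟨w, hw, rfl⟩)
    · exact mem_sup_right h
    · exact mul_mem (mem_sup_left (mem_zpowers s)) (mem_sup_right hw)

theorem D_le : zpowers s ⊔ zpowers (s * a) ≤ S :=
  sup_le (zpowers_le.2 c.sX.mem) (zpowers_le.2 (c.xS ha))

theorem y_D {w : G} (h : w ∈ zpowers y) : w ∈ zpowers s ⊔ zpowers (s * a) :=
  mem_sup_right (c.y_le_x ha h)

theorem s_D : s ∈ zpowers s ⊔ zpowers (s * a) := mem_sup_left (mem_zpowers s)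

theorem x_D : s * a ∈ zpowers s ⊔ zpowers (s * a) := mem_sup_right (mem_zpowers _)

theorem a_D : a ∈ zpowers s ⊔ zpowers (s * a) := (mul_mem_cancel_left (c.s_D ha)).1 (c.x_D ha)

theorem cls_D {v : G} (h : IsConj t v ∨ IsConj z v) (hv : v ∈ S) :
    v ∈ zpowers s ⊔ zpowers (s * a) := by
  rcases h with h | h
  · by_cases e : v = t
    · exact e ▸ c.y_D ha c.ty
    · exact (mul_mem_cancel_left (c.s_D ha)).1 (c.y_D ha (c.max v ⟨h, hv, e⟩))
  · by_cases e : v ∈ zpowers z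
    · exact c.y_D ha (zpowers_le.2 c.zy e)
    · exact (mul_mem_cancel_left (inv_mem (c.a_D ha))).1 (c.y_D ha (c.second ha ⟨h, hv, e⟩))

theorem mem_x_of_comm {g : G} (h : g ∈ zpowers s ⊔ zpowers (s * a)) (hc : g * z = z * g) :
    g ∈ zpowers (s * a) := by
  refine ((c.mem_D ha).1 h).resolve_right ?_
  rintro ⟨w, hw, rfl⟩
  refine c.z_ne ?_
  rw [← c.sinv c.zy, ← conj_eq_iff.2 (zp_comm hw (c.y_le_x ha c.zy))]
  rw [← conj_eq_iff.2 hc, conj_eq_iff.2 hc]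
  calc s * (w * z * w⁻¹) * s⁻¹ = s * w * z * (s * w)⁻¹ := by group
    _ = _ := by rw [conj_eq_iff.2 hc, conj_eq_iff.2 (zp_comm hw (c.y_le_x ha c.zy))]

theorem sc_x (n : ℕ) : ∀ v ∈ zpowers (s * a), orderOf v = n → ∀ g, g * v * g⁻¹ ∈ S →
    g * v * g⁻¹ ∈ zpowers s ⊔ zpowers (s * a) := by
  induction n using Nat.strong_induction_on with
  | _ n ih =>
  intro v hv hn g hg
  have hx := c.p2 (c.xS ha)
  have htx := c.y_le_x ha c.ty
  have hzx := c.y_le_x ha c.zy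
  by_cases h1 : v * v ∈ zpowers t
  · rcases zpow_iv c.iv.2 h1 with e | e
    · rcases zp_sq_one c.iv htx hv e with rfl | rfl
      · rw [mul_one, mul_inv_cancel]; exact one_mem _
      · exact c.cls_D ha (Or.inl (isConj_iff.2 ⟨g, rfl⟩)) hg
    · refine c.cls_D ha (Or.inr (isConj_conj ?_ g)) hg
      rcases root_eq c.iv hv hzx e c.zz with rfl | rfl
      · exact IsConj.refl _
      · exact isConj_iff.2 ⟨s, c.sinv c.zy⟩
  have hv1 : v ≠ 1 := fun e => h1 (by rw [e, mul_one]; exact one_mem _)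
  have e : g * v * g⁻¹ * (g * v * g⁻¹) = g * (v * v) * g⁻¹ := by group
  have hvv := mul_mem hv hv
  have h2 := c.mem_x_of_comm ha (ih _ (hn ▸ ord_sq_lt (p2_zp hx hv) hv1) _ hvv rfl g
    (e ▸ mul_mem hg hg)) (e ▸ sq_comm_of_pm (c.zpm hg))
  have hvy : v * v ∈ zpowers y := by
    obtain ⟨k, rfl⟩ := hv
    simp only
    rw [← (Commute.refl (s * a)).mul_zpow]
    exact zpow_mem (c.xx_mem ha) k
  have h3 := zp_of_le hx h2 hvv (orderOf_conj' g _).le
  have h4 := zp_of_le hx hvv h2 (orderOf_conj' g _).ge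
  have hle : zpowers (g * (v * v) * g⁻¹) ≤ zpowers (g * v * g⁻¹) :=
    zpowers_le.2 (e ▸ mul_mem (mem_zpowers _) (mem_zpowers _))
  have h5 : z ∈ zpowers (g * v * g⁻¹) := hle (zpowers_le.2 h4 (c.z_mem_zp hx hzx hvv h1))
  have h6 : g * t * g⁻¹ = t := iv_eq_of_zpowers (zp_conj g (iv_mem_zp hx c.iv htx hv hv1))
    (c.zz ▸ mul_mem h5 h5) (c.iv.conj g) c.iv
  obtain ⟨k, u, w, hu, hw, e'⟩ := c.close c.sX (c.nvx ha hv) (conj_eq_iff.1 h6)
    (c.s_norm hg (comm_zp rfl h5) (e ▸ zpowers_le.2 hvy h3) fun e' => h1 (by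
      rw [e, conj_eq_one_iff] at e'
      exact e' ▸ one_mem _))
  have h7 := c.cls ha (mul_mem (c.y_le_x ha (c.max u hu)) (zpowers_le.2 hv hw))
  rw [mul_assoc s u w, c.ss] at h7
  refine (mul_mem_cancel_left (c.s_D ha)).1 (c.cls_D ha ?_ (mul_mem c.sX.mem hg))
  rw [e']
  exact h7.imp (isConj_conj · k) (isConj_conj · k)

theorem scD : IsStronglyClosed (zpowers s ⊔ zpowers (s * a)) S := by
  refine ⟨c.D_le ha, fun v hv g hg => ?_⟩
  rcases (c.mem_D ha).1 hv with h | ⟨w, hw, rfl⟩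
  · exact c.sc_x ha _ v h rfl g hg
  · exact c.cls_D ha ((c.cls ha hw).imp (isConj_conj · g) (isConj_conj · g)) hg

theorem nD : S ≤ 𝐍[zpowers s ⊔ zpowers (s * a)] := le_normalizer_iff_cj.2 fun g hg =>
  cj_le_iff_forall.2 fun v hv => (c.scD ha).2 v hv g
    (mul_mem (mul_mem hg (c.D_le ha hv)) (inv_mem hg))

/-- `⟨s, a⟩` is transitive on the conjugates of `t` in `S` other than `t`. -/
theorem trans {u : G} (hu : XX S t u) : ∃ k ∈ zpowers s ⊔ zpowers (s * a), u = k * s * k⁻¹ := by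
  obtain ⟨g, hg, h⟩ := dl' (c.sinv (c.by' ha)) (zpowers_le.2 (c.gen ha) (c.max u hu))
  have hg' := c.y_D ha (zpowers_le.2 (c.by' ha) hg)
  rw [c.ss, c.ss] at h
  rcases h with h | h
  · exact ⟨g, hg', h⟩
  · exact ⟨g * a, mul_mem hg' (c.a_D ha), by rw [h]; group⟩

theorem cent_D {g : G} (h1 : g * s = s * g) (h2 : g * (s * a) = s * a * g) :
    g ∈ 𝐂[zpowers s ⊔ zpowers (s * a)] := by
  rw [Amb.centralizer_sup, Amb.centralizer_zpowers, Amb.centralizer_zpowers]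
  exact mem_inf.2 ⟨mem_z.2 h1, mem_z.2 h2⟩

theorem D_cent {g : G} (h : g ∈ zpowers s ⊔ zpowers (s * a))
    (hc : g ∈ 𝐂[zpowers s ⊔ zpowers (s * a)]) : g = 1 ∨ g = t := by
  have h1 := c.mem_x_of_comm ha h (cent_comm hc (c.y_D ha c.zy))
  have h2 := (cent_comm hc (c.s_D ha)).symm
  rcases c.par ha h1 with h3 | ⟨v, hv, rfl⟩
  · exact c.y_cent h3 h2
  · exfalso
    have h3 := conj_eq_iff.2 h2
    rw [show s * (s * a * v) * s⁻¹ = s * (s * a) * s⁻¹ * (s * v * s⁻¹) by group, c.sx ha,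
      c.sinv hv] at h3
    have h4 : s * a * (s * a) = t * v⁻¹ * v⁻¹ := by
      calc s * a * (s * a) = s * a * (s * a * v) * v⁻¹ := by group
        _ = _ := by rw [← h3]; group
    have h5 : s * a * (s * a) = z * v⁻¹ * (z * v⁻¹) := by
      calc s * a * (s * a) = z * (z * v⁻¹) * v⁻¹ := by rw [h4, ← c.zz]; group
        _ = z * (v⁻¹ * z) * v⁻¹ := by rw [zp_comm c.zy (inv_mem hv)]
        _ = _ := by group
    have h6 := c.y_le ha (mem_zpowers y)
    obtain ⟨k, hk⟩ := mul_mem c.zy (inv_mem hv)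
    rw [h5, ← hk] at h6
    have := odd_of_gen c.py c.y_ne (i := k + k) (by simpa only [zpow_add] using h6)
    exact Int.not_odd_iff_even.2 ⟨k, rfl⟩ this

end Sy

end Cfsg.Agent.StdCyc
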