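import Cfsg.Agent.Co3T.BFact

/-! Facts on the parabolic subgroup of order `9216` of `2·Sp₆(2)`. -/

set_option autoImplicit false
set_option Elab.async false
set_option maxRecDepth 100000

namespace Cfsg.Agent.Std

namespace S62

open Cfsg.Agent.Comp Cfsg.Agent.X32 Cfsg.Agent.X32.TG Cfsg.Agent.LES Cfsg.Agent.Co3T

noncomputable def Q1 : List B := es [16, 18, 32, 34, 48, 50]
noncomputable def Q2 : List B := es [64, 67, 128, 131, 192, 195]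

theorem fA : ∀ l : B, l.v < 1024 → l * l = 1 ∨ l * l = z → ∀ u : B, u.v < 1024 →
    u * u = 1 ∨ u * u = z → Commute l u → l = 1 ∨ l = z ∨ u = 1 ∨ u = z ∨ u = l ∨ u = l * z ∨
      ∃ w ∈ (es [4, 8, 80, 160, 240] : List B), (Commute w l → w * u * w⁻¹ * u⁻¹ = z) ∧
        (Commute w l ∨ Commute w u ∨ Commute w (u * l)) := BD.of (by decide +kernel)

theorem fB : ∀ l : B, l.v < 1024 → l * l * (l * l) = 1 ∨ l * l * (l * l) = z → l * l = 1 ∨ l * l = z ∨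
    ∃ w ∈ (es [2, 84, 168] : List B), Commute w (l * l) ∧ w * l * w⁻¹ * l⁻¹ ≠ 1 ∧
      w * l * w⁻¹ * l⁻¹ * (w * l * w⁻¹ * l⁻¹) = 1 := BD.of (by decide +kernel)

theorem fQ : ∀ l : B, l * l = b ∨ l * l = z * b → Commute l b →
    ∃ w ∈ (es [4, 8, 1536] : List B), Commute w b ∧ (w * l * w⁻¹ * l⁻¹ = z ∨
      ∃ p ∈ [(b, Q1), (z * b, Q2)], l * l = p.1 ∧ w * l * w⁻¹ * l⁻¹ ∈ p.2 ∧ (l ∈ p.2 ∨ l * z ∈ p.2)) := by
  simp only [List.mem_cons, List.not_mem_nil, or_false, exists_eq_or_imp, exists_eq_left]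
  exact BD.of (by decide +kernel)

theorem fT : ∀ p ∈ [(b, Q1), (z * b, Q2)], p.1 ≠ 1 ∧ p.1 * p.1 = 1 ∧ Commute p.1 b ∧
    (p.1 = b ∨ p.1 = z * b) ∧ (z * p.1 = b ∨ z * p.1 = z * b) ∧ ∀ q ∈ p.2, q * q = p.1 ∧
    Commute q b ∧ ∀ q' ∈ p.2,
      ∃ w ∈ (es [0, 256, 1024, 1536, 3072, 4352] : List B), Commute w b ∧ w * q * w⁻¹ = q' := by
  simp only [List.mem_cons, List.not_mem_nil, or_false, forall_eq_or_imp, forall_eq]
  exact BD.of (by decide +kernel)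

theorem fF : ∀ k : B, (∀ q ∈ Q1, Commute k q) → ∀ x ∈ Q2, ∀ y ∈ Q2, Commute k x → Commute k y →
    Commute x y ∨ k * k = 1 ∨ k * k = z := BD.of (by decide +kernel)

theorem fG : (∀ q ∈ Q2, r⁻¹ * q * r ∈ Q1 ∧ Commute w1 q) ∧ w1 * w1 = z ∧ Commute w1 b ∧
    r * b * r⁻¹ = z * b ∧ r * (z * b) * r⁻¹ = b ∧ b ≠ 1 ∧ b ≠ z ∧ b * z ≠ 1 ∧ b * z ≠ z ∧ z * z = 1 ∧
    b ≠ z * b ∧ Commute b z ∧ (∃ x ∈ Q2, ∃ y ∈ Q2, ¬ Commute x y) ∧ ∃ x ∈ Q1, x * x = b :=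
  BD.of (by decide +kernel)

end S62

end Cfsg.Agent.Std
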