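import Mathlib
import Cfsg.Agent.Std.RedK2
import Cfsg.Agent.Std.S62Fact
import Cfsg.Agent.Co3T.KSide
import Cfsg.Agent.Comp.BitMore

/-! A standard subgroup `2·Sp₆(2)` of a group with `O(C(t)) = 1` is self-centralizing. -/

set_option autoImplicit false

namespace Cfsg.Agent.Std.S62

open Cfsg Subgroup PLocal PLocal.Amb Cfsg.Agent.X32 Cfsg.Agent.Co3T

variable {G : Type*} [Group G] {L : Subgroup G} {t : G} {φ : B →* G}

/-- `φ` describes a parabolic subgroup of `L = 2·Sp₆(2)`. -/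
structure P62 (L : Subgroup G) (t : G) (φ : B →* G) : Prop where
  inj : Function.Injective φ
  mem : ∀ k, φ k ∈ L
  hz : φ z = t
  cen : t ∈ 𝐂[L]
  cb : ∀ l ∈ L, Commute l (φ b) → ∃ k, φ k = l
  syl : ∀ P ≤ L, IsPGroup 2 P → ∃ m ∈ L, ∀ x ∈ P, ∃ k : B, k.v < 1024 ∧ φ k = m * x * m⁻¹
  sq : ∀ w ∈ L, w * w * (w * w) = 1 → w * w ≠ 1 → w * w ≠ t → ∃ m ∈ L, m * (w * w) * m⁻¹ = φ b

theorem exists_P62 [Finite G] (ht : orderOf t = 2) (h0 : t ∈ L) (h1 : t ∈ 𝐂[L])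
    (hC : IsNonsplitDoubleCover L Sp62) : ∃ φ, P62 L t φ := by
  have c0 : ∀ x : L, Commute x ⟨t, h0⟩ := fun x => Subtype.ext (commute_of_mem x.2 h1)
  have c : centralizer {(⟨t, h0⟩ : L)} = ⊤ := eq_top_iff.2 fun x _ =>
    mem_centralizer_singleton_iff.2 (c0 x)
  have o : orderOf (⟨t, h0⟩ : L) = 2 := by rw [← ht, ← orderOf_coe]
  obtain ⟨ψ, h, H⟩ := exists_gd o (Comp.BN.nonsplit_congr (c ▸ topEquiv.symm) (.refl _) hC)
  have hz : ψ z = ⟨t, h0⟩ := by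
    obtain ⟨m, -, k, hk, e⟩ := Setup.conj_inv GD.pT (H.sylow le_top) (mem_top ⟨t, h0⟩) (j := 1)
      (by rw [pow_one, ← o, pow_orderOf_eq_one])
    rw [(c0 m).eq, mul_inv_cancel_right] at e
    rcases center_T k hk fun u _ => H.comm_iff.1 (e ▸ (c0 _).symm) with rfl | rfl
    · simp [e] at o
    · exact e.symm
  refine ⟨L.subtype.comp ψ, L.subtype_injective.comp H.inj, fun k => (ψ k).2, congrArg Subtype.val hz,
    h1, fun l hl e => (H.cb ⟨l, hl⟩ (hz ▸ c0 _) (Subtype.ext e)).imp fun k => congrArg Subtype.val,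
    fun P h2 h3 => ?_, fun w hw h2 h3 h4 => ?_⟩
  · obtain ⟨m, -, e⟩ := He5.conj_into (GD.pT.map ψ) (H.sylow le_top) h3.comap_subtype le_top
    exact ⟨m, m.2, fun x hx => (e ⟨x, h2 hx⟩ hx).imp fun k c => ⟨c.1, congrArg Subtype.val c.2⟩⟩
  · obtain ⟨m, -, e⟩ := H.sq_case (w := ⟨w, hw⟩) (hz ▸ c0 _) (Subtype.ext h2)
      (fun c => h3 (congrArg Subtype.val c)) fun c => h4 (congrArg Subtype.val (c.trans hz))
    exact ⟨m, m.2, congrArg Subtype.val e⟩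

namespace P62

variable (h : P62 L t φ)
include h

theorem conj {m : G} (hm : m ∈ L) : P62 L t ((MulAut.conj m⁻¹).toMonoidHom.comp φ) where
  inj := (MulAut.conj m⁻¹).injective.comp h.inj
  mem := fun k => conj_mem_of_mem_normalizer (le_normalizer (inv_mem hm)) (h.mem k)
  hz := by simp [h.hz, mul_assoc, ← (commute_of_mem hm h.cen).eq]
  cen := h.cen
  cb := fun l hl c => by
    obtain ⟨k, e⟩ := h.cb _ (mul_mem (mul_mem hm hl) (inv_mem hm))
      (by simpa [mul_assoc] using c.map (MulAut.conj m))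
    exact ⟨k, by simp [e, mul_assoc]⟩
  syl := fun P h1 h2 => by
    obtain ⟨n, hn, e⟩ := h.syl P h1 h2
    refine ⟨m⁻¹ * n, mul_mem (inv_mem hm) hn, fun x hx => (e x hx).imp fun k c => ⟨c.1, ?_⟩⟩
    simp [c.2, mul_assoc]
  sq := fun w h1 h2 h3 h4 => by
    obtain ⟨n, hn, e⟩ := h.sq w h1 h2 h3 h4
    exact ⟨m⁻¹ * n, mul_mem (inv_mem hm) hn, by simp [← e, mul_assoc]⟩

theorem pair {x y : G} (hx : x ∈ L) (hy : y ∈ L) (h1 : x ^ 2 ^ 3 = 1) (h2 : y ^ 2 ^ 3 = 1)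
    (h3 : Commute x y) : ∃ ψ, P62 L t ψ ∧ ∃ k : B, k.v < 1024 ∧ ψ k = x ∧
      ∃ k' : B, k'.v < 1024 ∧ ψ k' = y := by
  obtain ⟨m, hm, e⟩ := h.syl (zpowers x ⊔ zpowers y) (sup_le (zpowers_le.2 hx) (zpowers_le.2 hy))
    (isPGroup_sup (isPGroup_zpowers ⟨3, h1⟩) (isPGroup_zpowers ⟨3, h2⟩)
      (zpowers_le.2 (centralizer_le_normalizer' _ (Amb.centralizer_zpowers y ▸
        mem_centralizer_singleton_iff.2 h3))))
  obtain ⟨k, a1, a2⟩ := e x (mem_sup_left (mem_zpowers x))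
  obtain ⟨k', b1, b2⟩ := e y (mem_sup_right (mem_zpowers y))
  exact ⟨_, h.conj hm, k, a1, by simp [a2, mul_assoc], k', b1, by simp [b2, mul_assoc]⟩

theorem comm_iff {u v : B} : Commute (φ u) (φ v) ↔ Commute u v :=
  ⟨fun e => h.inj (by simpa using e.eq), fun e => e.map φ⟩

theorem eq_or {k : B} : (φ k = 1 ∨ φ k = t) ↔ k = 1 ∨ k = z := by
  rw [← h.hz, h.inj.eq_iff, map_eq_one_iff _ h.inj]

theorem tt : t * t = 1 := by rw [← h.hz, ← map_mul, fG.2.2.2.2.2.2.2.2.2.1, map_one]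

theorem tL : t ∈ L := h.hz ▸ h.mem z

variable [Finite G] (hA : IsStandardSubgroup L) (ht : orderOf t = 2)
  (hZ : ∀ a ∈ L, a ∈ 𝐂[L] → a = 1 ∨ a = t)
  (hd : ∀ m, Commute m t → ∃ a ∈ L, ∃ k ∈ 𝐂[L], m = a * k)
  {g : G} (hne : g * t * g⁻¹ ≠ t) (hc : Commute t (g * t * g⁻¹))
include hA ht hZ hd hne hc

omit h hd hne hc hA ht [Finite G] in
theorem sq_or {l c : G} (hl : l ∈ L) (hc : c ∈ 𝐂[L]) (e : l * c * (l * c) = 1) :
    l * l = 1 ∨ l * l = t := by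
  rw [sq_dec hl hc, mul_eq_one_iff_eq_inv] at e
  exact hZ _ (mul_mem hl hl) (e ▸ inv_mem (mul_mem hc hc))

omit hZ hA ht hd hne hc [Finite G] in
theorem pow_eight {l : G} (e : l * l * (l * l) = 1 ∨ l * l * (l * l) = t) : l ^ 2 ^ 3 = 1 := by
  have : l ^ 2 ^ 3 = l * l * (l * l) * (l * l * (l * l)) := by
    simp only [pow_succ, pow_zero, one_mul, mul_assoc, Nat.reduceMul]
  rcases e with e | e <;> rw [this, e]
  exacts [one_mul 1, h.tt]

omit hZ hA ht hd hne hc [Finite G] in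
theorem four_or {l : G} (e : l * l = 1 ∨ l * l = t) : l * l * (l * l) = 1 := by
  rcases e with e | e <;> rw [e]
  exacts [one_mul 1, h.tt]

omit hd hc in
theorem not_mem : t ∉ cj(g, 𝐂[L]) := fun c => by
  simp [eq_one_of_mem_inf hA h.tL h.cen hZ hne h.cen c h.tt] at ht

omit hd hc hne hZ in
theorem comm_mem {w x : G} (hw : Commute w (g * t * g⁻¹)) (hx : x ∈ cj(g, 𝐂[L])) :
    w * x * w⁻¹ * x⁻¹ ∈ cj(g, 𝐂[L]) :=
  mul_mem (conj_mem_of_commute hA ht h.cen hx hw) (inv_mem hx)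

/-- The only involution of `C(L)^g ∩ C(t)` is `t^g`. -/
theorem stepA {u : G} (hu : u ∈ cj(g, 𝐂[L])) (h1 : Commute u t) (h2 : u * u = 1) :
    u = 1 ∨ u = g * t * g⁻¹ := by
  by_contra! hn
  have hs : g * t * g⁻¹ ∈ cj(g, 𝐂[L]) := conj_mem_cj g h.cen
  have ss : g * t * g⁻¹ * (g * t * g⁻¹) = 1 := by rw [conj_mul, h.tt]; simp
  have s1 : g * t * g⁻¹ ≠ 1 := fun c => by simp [conj_eq_one_iff.1 c] at ht
  have k1 := fun n hn h2 h3 w => commute_of_commute hA h.tL h.cen hZ (g := g) (n := n) (w := w) hn h2 h3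
  have k2 := fun n h1 => eq_one_of_mem_inf hA h.tL h.cen hZ hne (n := n) h1
  have k3 := fun w x => h.comm_mem hA ht (g := g) (w := w) (x := x)
  have k4 := h.not_mem hA ht hZ hne
  generalize g * t * g⁻¹ = s at *
  have us : Commute u s := k1 u hu h2 hn.1 u (Commute.refl u)
  have h3 : u * s * (u * s) = 1 := by rw [us.symm.mul_mul_mul_comm, h2, ss, one_mul]
  have h4 : u * s ≠ 1 := fun c => hn.2 (by rw [eq_inv_of_mul_eq_one_left c, inv_eq_of_mul_eq_one_left ss])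
  obtain ⟨l, hl, c, hcK, rfl⟩ := hd s hc.symm
  obtain ⟨a, ha, d, hdK, rfl⟩ := hd u h1
  have e1 := sq_or hZ hl hcK ss
  have e2 := sq_or hZ ha hdK h2
  have c1 : ∀ w ∈ L, Commute w a → Commute w l := fun w hw e =>
    (commute_dec hw hcK).1 (k1 _ hu h2 hn.1 w ((commute_dec hw hdK).2 e))
  have e3 : a * d * (l * c) = a * l * (d * c) := (commute_of_mem hl hdK).symm.mul_mul_mul_comm a c
  obtain ⟨ψ, hψ, k, b1, rfl, k', b2, rfl⟩ := h.pair hl ha (h.pow_eight (.inl (h.four_or e1)))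
    (h.pow_eight (.inl (h.four_or e2))) (c1 a ha (Commute.refl a)).symm
  have m1 : ∀ {n : B}, n = 1 ∨ n = z → ψ n ∈ 𝐂[L] := by
    rintro _ (rfl | rfl)
    exacts [map_one ψ ▸ one_mem _, hψ.hz ▸ h.cen]
  rw [← map_mul, hψ.eq_or] at e1 e2
  rcases fA k b1 e1 k' b2 e2 (hψ.comm_iff.1 (c1 _ ha (Commute.refl _)).symm) with
    e | e | e | e | e | e | ⟨w, -, e4, e5⟩
  · exact s1 (k2 _ (mul_mem (m1 (.inl e)) hcK) hs ss)
  · exact s1 (k2 _ (mul_mem (m1 (.inr e)) hcK) hs ss)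
  · exact hn.1 (k2 _ (mul_mem (m1 (.inl e)) hdK) hu h2)
  · exact hn.1 (k2 _ (mul_mem (m1 (.inr e)) hdK) hu h2)
  · refine h4 (k2 _ (e3 ▸ mul_mem ?_ (mul_mem hdK hcK)) (mul_mem hu hs) h3)
    rw [← map_mul, e]
    exact m1 e1
  · refine h4 (k2 _ (e3 ▸ mul_mem ?_ (mul_mem hdK hcK)) (mul_mem hu hs) h3)
    rw [← map_mul, e, mul_assoc, ← (fW k).2.2.2.eq, ← mul_assoc, map_mul]
    exact mul_mem (m1 e1) (m1 (.inr rfl))
  · have hw := hψ.mem w
    have e6 : Commute w k := by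
      rcases e5 with e | e | e
      · exact e
      · exact hψ.comm_iff.1 (c1 _ hw (e.map ψ))
      · refine hψ.comm_iff.1 ((commute_dec hw hcK).1 (k1 _ (mul_mem hu hs) h3 h4 _ ?_))
        rw [e3, commute_dec hw (mul_mem hdK hcK), ← map_mul]
        exact e.map ψ
    have := k3 _ _ ((commute_dec hw hcK).2 (e6.map ψ)) hu
    rw [comm_dec hw hdK, ← map_inv, ← map_inv, ← map_mul, ← map_mul, ← map_mul, e4 e6, hψ.hz] at this
    exact k4 this

/-- Square roots of `t^g` in `C(L)^g ∩ C(t)` force `t^g` into the class of `b`. -/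
theorem stepB {x : G} (hx : x ∈ cj(g, 𝐂[L])) (h1 : Commute x t) (h2 : x * x = g * t * g⁻¹) :
    ∃ ψ, P62 L t ψ ∧ ψ b = g * t * g⁻¹ := by
  have hs : g * t * g⁻¹ ∈ cj(g, 𝐂[L]) := conj_mem_cj g h.cen
  have ss : g * t * g⁻¹ * (g * t * g⁻¹) = 1 := by rw [conj_mul, h.tt]; simp
  have s1 : g * t * g⁻¹ ≠ 1 := fun c => by simp [conj_eq_one_iff.1 c] at ht
  have k2 := fun n h1 => eq_one_of_mem_inf hA h.tL h.cen hZ hne (n := n) h1
  have k3 := fun w x => h.comm_mem hA ht (g := g) (w := w) (x := x)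
  have k5 := fun u => h.stepA hA ht hZ hd hne hc (u := u)
  obtain ⟨l, hl, c, hcK, rfl⟩ := hd x h1
  rw [sq_dec hl hcK] at h2
  rw [← h2] at hs ss s1 k3 k5 ⊢
  have e1 := sq_or hZ (mul_mem hl hl) (mul_mem hcK hcK) ss
  have n1 : ¬ (l * l = 1 ∨ l * l = t) := fun e => s1 (k2 _ (mul_mem (by
    rcases e with e | e <;> rw [e]
    exacts [one_mem _, h.cen]) (mul_mem hcK hcK)) hs ss)
  obtain ⟨ψ, hψ, k, b1, rfl, -⟩ := h.pair hl hl (h.pow_eight e1) (h.pow_eight e1) (Commute.refl l)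
  rw [← map_mul, ← map_mul, hψ.eq_or] at e1
  obtain ⟨w, -, e2, e3, e4⟩ := ((fB k b1 e1).resolve_left fun e => n1 (.inl (by
    rw [← map_mul, e, map_one]))).resolve_left fun e => n1 (.inr (by rw [← map_mul, e, hψ.hz]))
  have hw := hψ.mem w
  have e5 := k3 _ _ ((commute_dec hw (mul_mem hcK hcK)).2 (map_mul ψ k k ▸ e2.map ψ)) hx
  rw [comm_dec hw hcK, ← map_inv, ← map_inv, ← map_mul, ← map_mul, ← map_mul] at e5
  have e6 := (k5 _ e5 (commute_of_mem (hψ.mem _) h.cen) (by rw [← map_mul, e4, map_one])).resolve_left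
    fun e => e3 (hψ.inj (e.trans (map_one ψ).symm))
  have e7 := hZ (c * c) ((mul_mem_cancel_left (mul_mem hl hl)).1 (e6 ▸ hψ.mem _)) (mul_mem hcK hcK)
  rw [sq_dec (mul_mem hl hl) (mul_mem hcK hcK), h.four_or e7, mul_one] at ss
  obtain ⟨m, hm, e8⟩ := hψ.sq _ hl ss (fun e => n1 (.inl e)) fun e => n1 (.inr e)
  have e9 : ψ k * ψ k = m⁻¹ * ψ b * m := by rw [← e8]; group
  rcases e7 with e | e
  · exact ⟨_, hψ.conj hm, by simp [e9, e]⟩
  · refine ⟨_, (hψ.conj (inv_mem (hψ.mem r))).conj hm, ?_⟩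
    have := congrArg ψ fG.2.2.2.1
    simp only [map_mul, map_inv, hψ.hz] at this
    simp only [MonoidHom.comp_apply, MulEquiv.coe_toMonoidHom, MulAut.conj_apply, inv_inv, this, e9, e]
    rw [mul_assoc _ m t, (commute_of_mem hm h.cen).eq, ← (commute_of_mem (hψ.mem b) h.cen).eq]
    group

theorem stepC {p : B × List B} (hp : p ∈ [(b, Q1), (z * b, Q2)]) (e : φ p.1 = g * t * g⁻¹) {x : G}
    (hx : x ∈ cj(g, 𝐂[L])) (h1 : Commute x t) (h2 : x * x = g * t * g⁻¹) :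
    (∃ q ∈ p.2, φ q = x) ∧ ∀ q ∈ p.2, φ q ∈ cj(g, 𝐂[L]) := by
  have k2 := fun n h1 => eq_one_of_mem_inf hA h.tL h.cen hZ hne (n := n) h1
  have k3 := fun w x => h.comm_mem hA ht (g := g) (w := w) (x := x)
  have k4 := h.not_mem hA ht hZ hne
  have k5 := fun u => h.stepA hA ht hZ hd hne hc (u := u)
  have k6 := fun n w => conj_mem_of_commute hA ht h.cen (g := g) (n := n) (w := w)
  rw [← e] at h2 k3 k5 k6
  obtain ⟨-, -, -, a1, a2, -⟩ := fT p hp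
  have cb : ∀ w : B, Commute w b → Commute (φ w) (φ p.1) := fun w c => by
    rcases a1 with a | a <;> rw [a]
    exacts [c.map φ, ((fW w).2.2.2.mul_right c).map φ]
  obtain ⟨l, hl, c, hcK, rfl⟩ := hd x h1
  have e0 : Commute l (φ p.1) := ((commute_dec (h.mem _) hcK).1 (h2 ▸ (Commute.refl _).mul_left
    (Commute.refl _))).symm
  obtain ⟨k, rfl⟩ := h.cb l hl (by
    rcases a1 with a | a <;> rw [a] at e0
    exacts [e0, by simpa [h.hz, mul_assoc] using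
      (commute_of_mem hl h.cen).inv_right.mul_right e0])
  rw [sq_dec hl hcK] at h2
  have e1 : k * k = b ∨ k * k = z * b := by
    rcases hZ (c * c) ((mul_mem_cancel_left (mul_mem hl hl)).1 (h2 ▸ h.mem _)) (mul_mem hcK hcK)
      with e1 | e1 <;> rw [e1, ← map_mul] at h2
    · rwa [h.inj ((mul_one _).symm.trans h2)]
    · rw [← h.hz, ← map_mul, h.inj.eq_iff, (fW _).2.2.2.eq] at h2
      rwa [← h2, ← mul_assoc, fG.2.2.2.2.2.2.2.2.2.1, one_mul] at a2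
  have e2 : Commute k b := by
    have := h.comm_iff.1 e0
    rcases a1 with a | a <;> rw [a] at this
    exacts [this, by simpa using (fW k).2.2.2.inv_right.mul_right this]
  obtain ⟨w, e3, e4⟩ := fQ k e1 e2 |>.imp fun _ c => c.2
  have e5 := k3 _ _ (cb w e3) hx
  rw [comm_dec (h.mem w) hcK, ← map_inv, ← map_inv, ← map_mul, ← map_mul, ← map_mul] at e5
  obtain ⟨p', hp', e6, e7, e8⟩ := e4.resolve_left fun c => k4 (by rwa [c, h.hz] at e5)
  obtain ⟨b1, b2, -, -, -, b3⟩ := fT p' hp'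
  have e9 : p'.1 = p.1 := h.inj ((k5 _ (by rw [← (b3 _ e7).1, map_mul]; exact mul_mem e5 e5)
    (commute_of_mem (h.mem _) h.cen) (by rw [← map_mul, b2, map_one])).resolve_left
      fun c => b1 (h.inj (c.trans (map_one φ).symm)))
  obtain rfl : p' = p := by
    have := fG.2.2.2.2.2.2.2.2.2.2.1
    simp only [List.mem_cons, List.not_mem_nil, or_false] at hp hp'
    rcases hp with rfl | rfl <;> rcases hp' with rfl | rfl
    exacts [rfl, absurd e9.symm this, absurd e9 this, rfl]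
  have f1 : ∀ q ∈ p'.2, φ q ∈ cj(g, 𝐂[L]) := fun q hq => by
    obtain ⟨u, -, c1, rfl⟩ := (b3 _ e7).2.2 q hq
    rw [map_mul, map_mul, map_inv]
    exact k6 _ _ e5 (cb u c1)
  rw [← map_mul, e6, mul_eq_left] at h2
  refine ⟨?_, f1⟩
  rcases e8 with e8 | e8
  · exact ⟨k, e8, by rw [k2 c hcK ((mul_mem_cancel_left (f1 k e8)).1 hx) h2, mul_one]⟩
  · have f2 : φ k * c = φ (k * z) * (t * c) := by
      rw [map_mul, h.hz, mul_assoc, ← mul_assoc t, h.tt, one_mul]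
    refine ⟨_, e8, ?_⟩
    rw [f2, k2 _ (mul_mem h.cen hcK) ((mul_mem_cancel_left (f1 _ e8)).1 (f2 ▸ hx))
      (by rw [sq_dec h.tL hcK, h.tt, h2, one_mul]), mul_one]

variable (hO : centralizerPPrimeCore 2 t = ⊥) (hK : 𝐂[L] ≠ zpowers t)
include hO hK

theorem root : ∃ ψ, P62 L t ψ ∧ ψ b = g * t * g⁻¹ ∧ ∀ q ∈ Q1, ψ q ∈ cj(g, 𝐂[L]) := by
  obtain ⟨l, hl, c, hcK, e⟩ := hd _ (commute_conj_symm hc).symm
  obtain ⟨x, hx, h1, h2, h3⟩ : ∃ x ∈ 𝐂[L], Commute x (l * c) ∧ (x * x = 1 ∨ x * x = t) ∧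
      ¬ (x = 1 ∨ x = t) := by
    by_contra! hn
    refine hK (cent_eq_of_claim' hA ht h.tL h.cen hZ hO hl hcK ?_ hn)
    rw [← e, ← inv_inv g, inv_inv g⁻¹, conj_mul, h.tt]; simp
  have h4 : Commute (g * x * g⁻¹) t := by
    have := (e ▸ h1 : Commute x (g⁻¹ * t * g)).map (MulAut.conj g)
    rwa [MulAut.conj_apply, MulAut.conj_apply, show g * (g⁻¹ * t * g) * g⁻¹ = t by group] at this
  have h5 : g * x * g⁻¹ * (g * x * g⁻¹) = g * t * g⁻¹ := by
    rw [conj_mul]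
    refine congrArg (g * · * g⁻¹) (h2.resolve_left fun d => h3 ?_)
    simpa [conj_eq_one_iff] using h.stepA hA ht hZ hd hne hc (conj_mem_cj g hx) h4
      (by rw [conj_mul, d]; simp)
  obtain ⟨ψ, hψ, e1⟩ := h.stepB hA ht hZ hd hne hc (conj_mem_cj g hx) h4 h5
  exact ⟨ψ, hψ, e1, (hψ.stepC hA ht hZ hd hne hc (p := (b, Q1)) (by simp) e1
    (conj_mem_cj g hx) h4 h5).2⟩

theorem false_of_ne : False := by
  obtain ⟨φ, h, a1, a2⟩ := h.root hA ht hZ hd hne hc hO hK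
  obtain ⟨ψ, hψ, b1, b2⟩ := h.root hA ht hZ hd (g := g⁻¹) (fun c => hne (by
    nth_rewrite 1 [← c]; group)) (by simpa using commute_conj_symm hc) hO hK
  obtain ⟨g1, g2, g3, g4, -, g5, g6, -, -, -, -, g7, ⟨x, hx, y, hy, g8⟩, u, hu, g9⟩ := fG
  obtain ⟨χ, c0, c1, c2, c3, c4⟩ : ∃ χ : B →* G, Function.Injective χ ∧ χ z = φ b ∧ χ b = t ∧
      (∀ q ∈ Q1, χ q ∈ 𝐂[L]) ∧ ∀ k, ∀ q ∈ Q1, Commute (φ q) (χ k) := by
    refine ⟨(MulAut.conj g).toMonoidHom.comp ψ, (MulAut.conj g).injective.comp hψ.inj,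
      by simp [hψ.hz, a1], by simp [b1, mul_assoc], fun q hq => ?_, fun k q hq => ?_⟩
    · simpa using mem_map_conj_iff.1 (b2 q hq)
    · simpa [mul_assoc] using (commute_of_mem (hψ.mem k) (mem_map_conj_iff.1 (a2 q hq))).symm.map
        (MulAut.conj g)
  have d1 : φ (z * b) = χ r * t * (χ r)⁻¹ := by
    rw [← c2, ← map_inv, ← map_mul, ← map_mul, g4, map_mul χ, c1, c2, ← g7.eq, map_mul, h.hz]
  have d2 : ∀ q ∈ Q2, ∃ q' ∈ Q2, φ q' = χ q := fun q hq =>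
    (h.stepC hA ht hZ hd (g := χ r) (p := (z * b, Q2)) (fun c => g5 (by
      rwa [← d1, ← h.hz, h.inj.eq_iff, mul_eq_left] at c)) (d1 ▸ (commute_of_mem (h.mem _) h.cen).symm)
      (by simp) d1 (mem_map_conj_iff.2 (by simpa using c3 _ (g1 q hq).1))
      (c2 ▸ ((fT (z * b, Q2) (by simp)).2.2.2.2.2 q hq).2.1.map χ) (by
        rw [← map_mul, ((fT (z * b, Q2) (by simp)).2.2.2.2.2 q hq).1, ← g4, ← c2]; simp)).1
  obtain ⟨l, hl, c, hcK, e⟩ := hd (χ w1) (c2 ▸ g3.map χ)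
  have d3 : ∀ q, Commute (φ q) (χ w1) → Commute (φ q) l := fun q c =>
    (commute_dec (h.mem q) hcK).1 (e ▸ c)
  obtain ⟨k, rfl⟩ := h.cb l hl (by
    rw [← g9, map_mul]
    exact (d3 u (c4 _ u hu)).symm.mul_right (d3 u (c4 _ u hu)).symm)
  obtain ⟨x', hx', ex⟩ := d2 x hx
  obtain ⟨y', hy', ey⟩ := d2 y hy
  rcases fF k (fun q hq => h.comm_iff.1 (d3 q (c4 _ q hq)).symm) x' hx' y' hy'
    (h.comm_iff.1 (d3 _ (ex ▸ ((g1 x hx).2.map χ).symm)).symm)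
    (h.comm_iff.1 (d3 _ (ey ▸ ((g1 y hy).2.map χ).symm)).symm) with d | d
  · have := d.map φ
    rw [ex, ey] at this
    exact g8 (c0 (by simpa using this.eq))
  · have d4 : φ b = φ (k * k) * (c * c) := by
      rw [← c1, ← g2, map_mul, e, sq_dec hl hcK, map_mul]
    rcases h.eq_or.1 (hZ _ (h.mem b) (d4 ▸ mul_mem (by
      rcases d with d | d <;> rw [d]
      exacts [map_one φ ▸ one_mem _, h.hz ▸ h.cen]) (mul_mem hcK hcK))) with d | d
    exacts [g5 d, g6 d]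

end P62

end Cfsg.Agent.Std.S62
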