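import Mathlib
import Cfsg.Agent.Std.RedK2
import Cfsg.Agent.PLocal.AmbSyl

/-! Standard subgroups `4.L₃(4)`: the abstract argument, part one. -/

set_option autoImplicit false

namespace Cfsg.Agent.Std.ON

open Cfsg Subgroup PLocal PLocal.Amb
open scoped commutatorElement

variable {G : Type*} [Group G]

/-- `n` normalizes the four-group `⟨t, x⟩` -/
def NX (t x n : G) : Prop := n * x * n⁻¹ = x ∨ n * x * n⁻¹ = x * t

/-- Facts about `L = 4.L₃(4)` and the action of its normalizer. -/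
structure Dat (L : Subgroup G) (t i x : G) (Ac A1 A2 : G → Prop) : Prop where
  std : IsStandardSubgroup L
  iL : i ∈ L
  iK : i ∈ 𝐂[L]
  ord : orderOf i = 4
  sq : i * i = t
  cen : ∀ a ∈ L, a ∈ 𝐂[L] → a ∈ zpowers i
  xL : x ∈ L
  xx : x * x = 1
  xK : x ∉ 𝐂[L]
  tri : ∀ n ∈ 𝐍[L], n ∈ L ⊔ 𝐂[L] ∨ Ac n ∨ A1 n ∨ A2 n
  sqc : ∀ n n', Ac n → Ac n' → n * n' ∈ L ⊔ 𝐂[L]
  sq1 : ∀ n n', A1 n → A1 n' → n * n' ∈ L ⊔ 𝐂[L]
  sq2 : ∀ n n', A2 n → A2 n' → n * n' ∈ L ⊔ 𝐂[L]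
  mul2 : ∀ m ∈ L, ∀ n, A2 n → A2 (m * n)
  cc : ∀ n, Ac n → Commute n i
  inv1 : ∀ n, A1 n → n * i * n⁻¹ = i⁻¹
  inv2 : ∀ n, A2 n → n * i * n⁻¹ = i⁻¹
  cls : ∀ m ∈ L, m * m ∈ 𝐂[L] → m ∈ 𝐂[L] ∨ ∃ g ∈ L, ∃ z ∈ 𝐂[L], m = g * x * g⁻¹ * z
  exp : ∀ m ∈ L, NX t x m → m * m * (m * m) ∈ 𝐂[L]
  sep : ∀ m ∈ L, Commute m x → m * m ∈ 𝐂[L] →
    m ∈ 𝐂[L] ∨ m * x ∈ 𝐂[L] ∨ ∃ m' ∈ L, Commute m' m ∧ ¬ Commute m' x
  exu : ∃ u ∈ L, u * x * u⁻¹ = x * t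
  zc : ∀ m ∈ L, m * m = 1 → (∀ u ∈ L, NX t x u → Commute u m) → m ∈ 𝐂[L]
  e1 : ∀ l ∈ L, NX t x l → l * l * x ∈ 𝐂[L] → ∃ y ∈ L, Commute y x ∧ ¬ Commute y l
  O1 : ∀ n, Ac n → NX t x n → ∃ y ∈ L, Commute y x ∧ ⁅y, n⁆ ∉ 𝐂[L] ∧ ⁅y, n⁆ * x ∉ 𝐂[L]
  F1 : ∀ n, A1 n → n * n ∈ 𝐂[L] → ∃ l ∈ L, ⁅l, n⁆ * ⁅l, n⁆ = 1 ∧ ⁅l, n⁆ ∉ 𝐂[L]
  F2 : ∀ n, A2 n → n * n ∈ 𝐂[L] → ∃ l ∈ L, ⁅l, n⁆ * ⁅l, n⁆ = 1 ∧ ⁅l, n⁆ ∉ 𝐂[L]

/-- The cover that does not occur. -/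
def Bad (L : Subgroup G) (t x : G) : Prop := ∀ l ∈ L, NX t x l → l * l * x ∈ 𝐂[L] →
  ∀ s, s = x ∨ s = x * t → ∃ y ∈ L, Commute y x ∧ ⁅y, l⁆ ≠ 1 ∧ ⁅y, l⁆ ≠ s

/-- the strong form of `O1` -/
def O2 (L : Subgroup G) (t x : G) (Ac : G → Prop) : Prop :=
  ∀ n, Ac n → NX t x n → ∃ y ∈ L, Commute y x ∧ ⁅y, n⁆ ∉ 𝐂[L] ∧ ⁅y, n⁆ * x ∉ 𝐂[L] ∧
    ⁅y, n⁆⁻¹ * (n * n) ∉ 𝐂[L] ∧ ⁅y, n⁆⁻¹ * (n * n) * x ∉ 𝐂[L]

theorem comm_conj {a b : G} (h : Commute a b) (g : G) : Commute (g * a * g⁻¹) (g * b * g⁻¹) := by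
  simpa using h.map (MulAut.conj g)

theorem comm_of_conj {a b g : G} (h : Commute a (g * b * g⁻¹)) : Commute (g⁻¹ * a * g⁻¹⁻¹) b := by
  simpa [mul_assoc] using comm_conj h g⁻¹

theorem comm_to_conj {a b g : G} (h : Commute (g⁻¹ * a * g⁻¹⁻¹) b) : Commute a (g * b * g⁻¹) := by
  simpa [mul_assoc] using comm_conj h g

namespace Dat

variable [Finite G] {L : Subgroup G} {t i x : G} {Ac A1 A2 : G → Prop} (h : Dat L t i x Ac A1 A2)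
include h

omit [Finite G] in
theorem tt : t * t = 1 := by
  rw [← h.sq, ← pow_two, ← pow_two, ← pow_mul, ← pow_orderOf_eq_one i, h.ord]

omit [Finite G] in
theorem t1 : t ≠ 1 := fun e => by
  have := orderOf_dvd_of_pow_eq_one (x := i) (n := 2) (by rw [pow_two, h.sq, e])
  rw [h.ord] at this; omega

omit [Finite G] in
theorem ot : orderOf t = 2 := orderOf_eq_prime (by rw [pow_two, h.tt]) h.t1

omit [Finite G] in
theorem tL : t ∈ L := h.sq ▸ mul_mem h.iL h.iL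

omit [Finite G] in
theorem tK : t ∈ 𝐂[L] := h.sq ▸ mul_mem h.iK h.iK

omit [Finite G] in
theorem ii : i⁻¹ = i * t := by
  rw [inv_eq_iff_mul_eq_one, ← mul_assoc, h.sq, h.tt]

omit [Finite G] in
theorem ine : i⁻¹ ≠ i := fun e => h.t1 (by rw [← h.sq]; nth_rewrite 1 [← e]; simp)

theorem four {a : G} (ha : a ∈ zpowers i) : a = 1 ∨ a = i ∨ a = t ∨ a = i⁻¹ := by
  classical
  obtain ⟨k, hk, rfl⟩ := Finset.mem_image.1 (mem_zpowers_iff_mem_range_orderOf.1 ha)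
  rw [Finset.mem_range, h.ord] at hk
  interval_cases k <;> simp [pow_succ, h.sq, h.ii]
  rw [← h.sq]; simp [mul_assoc]

theorem two {a : G} (h1 : a ∈ L) (h2 : a ∈ 𝐂[L]) (h3 : a * a = 1) : a = 1 ∨ a = t := by
  rcases h.four (h.cen a h1 h2) with e | e | e | e
  · exact Or.inl e
  · exact absurd (by rw [← h.sq, ← e, h3]) h.t1
  · exact Or.inr e
  · exact absurd (by rw [← h.sq, ← inv_eq_one, mul_inv_rev, ← e, h3]) h.t1

theorem pm {n : G} (hn : n ∈ 𝐍[L]) : n * i * n⁻¹ = i ∨ n * i * n⁻¹ = i⁻¹ := by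
  have e : n * i * n⁻¹ * (n * i * n⁻¹) ≠ 1 := by
    rw [conj_mul, h.sq, Ne, conj_eq_one_iff]; exact h.t1
  rcases h.four (h.cen _ (conj_mem_of_mem_normalizer hn h.iL)
    (conj_mem_of_mem_normalizer (normalizer_le_normalizer_centralizer L hn) h.iK)) with c | c | c | c
  · exact absurd (by rw [c, one_mul]) e
  · exact Or.inl c
  · exact absurd (by rw [c, h.tt]) e
  · exact Or.inr c

theorem nN {n : G} : n ∈ 𝐍[L] ↔ Commute n t := by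
  refine ⟨fun hn => mul_inv_eq_iff_eq_mul.1 ?_, mem_normalizer_of_commute h.std h.ot h.tK⟩
  rw [← h.sq, ← conj_mul]
  rcases h.pm hn with e | e <;> rw [e]
  rw [← mul_inv_rev, h.sq, inv_eq_iff_mul_eq_one, h.tt]

omit h [Finite G] in
theorem memJ {n : G} : n ∈ L ⊔ 𝐂[L] ↔ ∃ m ∈ L, ∃ k ∈ 𝐂[L], n = m * k :=
  mem_sup_of_le_normalizer_left (centralizer_le_normalizer' L)

omit [Finite G] in
theorem Ji {n : G} (hn : n ∈ L ⊔ 𝐂[L]) : Commute n i := by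
  obtain ⟨m, hm, k, hk, rfl⟩ := memJ.1 hn
  exact (commute_of_mem hm h.iK).mul_left (commute_of_mem h.iL hk).symm

omit [Finite G] in
theorem sqJ {n : G} (hn : n ∈ 𝐍[L]) : n * n ∈ L ⊔ 𝐂[L] := by
  rcases h.tri n hn with e | e | e | e
  exacts [mul_mem e e, h.sqc n n e e, h.sq1 n n e e, h.sq2 n n e e]

/-- the centralizer of an involution of `K^g` centralizes `t^g` -/
theorem cent {g e w : G} (he : e ∈ cj(g, 𝐂[L])) (h1 : e * e = 1) (h2 : e ≠ 1) (hw : Commute w e) :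
    Commute w (g * t * g⁻¹) := by
  refine comm_to_conj (h.nN.1 (mem_normalizer_of_commute h.std (t := g⁻¹ * e * g⁻¹⁻¹) ?_
    (by simpa using mem_cj.1 he) (comm_conj hw _)))
  rw [orderOf_conj']
  exact orderOf_eq_prime (by rwa [pow_two]) h2

theorem triv {g : G} (hg : g * t * g⁻¹ ≠ t) (k : ℕ) :
    ∀ n ∈ 𝐂[L], n ∈ cj(g, 𝐂[L]) → n ^ 2 ^ k = 1 → n = 1 := by
  have key : ∀ n ∈ 𝐂[L], n ∈ cj(g, 𝐂[L]) → n * n = 1 → n = 1 := fun n h1 h2 h3 => by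
    by_contra c
    refine hg (mul_inv_eq_iff_eq_mul.2 (h.nN.1 (PLocal.Std.mem_normalizer h.std (t := g⁻¹ * n * g⁻¹⁻¹)
      ?_ (by simpa using mem_cj.1 h2) (by simpa [mul_assoc] using h1))))
    rw [orderOf_conj']
    exact orderOf_eq_prime (by rwa [pow_two]) c
  induction k with
  | zero => exact fun n _ _ e => by simpa using e
  | succ k ih =>
    exact fun n h1 h2 e => key n h1 h2 (ih _ (mul_mem h1 h1) (mul_mem h2 h2)
      (by rw [← pow_two, ← pow_mul, ← pow_succ', e]))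

theorem nK {g y k : G} (hy : Commute y (g * t * g⁻¹)) (hk : k ∈ cj(g, 𝐂[L])) :
    y * k * y⁻¹ ∈ cj(g, 𝐂[L]) := by
  have := conj_mem_of_mem_normalizer (normalizer_le_normalizer_centralizer L
    (h.nN.2 (comm_of_conj hy))) (mem_cj.1 hk)
  exact mem_cj.2 (by simpa [mul_assoc] using this)

theorem pm' {g y : G} (hy : Commute y (g * t * g⁻¹)) :
    ⁅y, g * i * g⁻¹⁆ = 1 ∨ ⁅y, g * i * g⁻¹⁆ = g * t * g⁻¹ := by
  rcases h.pm (h.nN.2 (comm_of_conj hy)) with e | e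
  · exact Or.inl (commutatorElement_eq_one_iff_commute.2
      (comm_to_conj (mul_inv_eq_iff_eq_mul.1 e)))
  · refine Or.inr ?_
    have : y * (g * i * g⁻¹) * y⁻¹ = g * i⁻¹ * g⁻¹ := by rw [← e]; group
    rw [commutatorElement_def, this, h.ii, ← h.sq]; group

theorem sym {g : G} (hi : Commute (g * t * g⁻¹) i) : g⁻¹ * t * g⁻¹⁻¹ ∈ L ⊔ 𝐂[L] := by
  have := h.sqJ (h.nN.2 (comm_of_conj hi.symm))
  rwa [conj_mul, h.sq] at this

theorem nx {n : G} (hn : n ∈ 𝐍[L]) (h1 : n * x * n⁻¹ * x ∈ 𝐂[L]) : NX t x n := by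
  have h2 := conj_mem_of_mem_normalizer hn h.xL
  have h3 : n * x * n⁻¹ = (n * x * n⁻¹ * x) * x := by rw [mul_assoc _ x x, h.xx, mul_one]
  have h4 : Commute (n * x * n⁻¹) x := by
    rw [h3]; exact (commute_of_mem h.xL h1).symm.mul_left (Commute.refl x)
  rcases h.two (mul_mem h2 h.xL) h1 (by
    rw [mul_assoc, ← mul_assoc x, ← h4.eq, mul_assoc _ x x, h.xx, mul_one, conj_mul, h.xx]; simp) with e | e
  · exact Or.inl (by rw [h3, e, one_mul])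
  · exact Or.inr (by rw [h3, e, (commute_of_mem h.xL h.tK).eq])

theorem nx' {n k : G} (hn : n ∈ 𝐍[L]) (hk : k ∈ 𝐂[L]) (hc : Commute n (x * k)) : NX t x n := by
  refine h.nx hn ?_
  have e : n * x * n⁻¹ * x = k * (n * k * n⁻¹)⁻¹ := by
    have h1 : n * x * n⁻¹ = x * k * (n * k * n⁻¹)⁻¹ := by
      rw [eq_mul_inv_iff_mul_eq, conj_mul, hc.eq, mul_inv_cancel_right]
    rw [h1, mul_assoc x, (commute_of_mem h.xL (mul_mem hk (inv_mem (conj_mem_of_mem_normalizer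
      (normalizer_le_normalizer_centralizer L hn) hk)))).eq, mul_assoc _ x x, h.xx, mul_one]
  rw [e]
  exact mul_mem hk (inv_mem (conj_mem_of_mem_normalizer (normalizer_le_normalizer_centralizer L hn) hk))

omit [Finite G] in
theorem nx_dec {l k : G} (hk : k ∈ 𝐂[L]) (e : NX t x (l * k)) : NX t x l := by
  have : l * k * x * (l * k)⁻¹ = l * x * l⁻¹ := by
    rw [mul_assoc l, ← (commute_of_mem h.xL hk).eq]; group
  rwa [NX, this] at e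

theorem ci {g q : G} (hg : g * t * g⁻¹ ≠ t) (hi : Commute (g * t * g⁻¹) i) (h1 : q ∈ cj(g, 𝐂[L]))
    (h2 : q ∈ 𝐍[L]) : Commute q i := by
  rcases h.pm h2 with e | e
  · exact mul_inv_eq_iff_eq_mul.1 e
  have e1 : i * q * i⁻¹ * q⁻¹ = t := by
    rw [mul_assoc, mul_assoc, ← mul_assoc q, ← conj_inv, e, inv_inv, h.sq]
  exact absurd (h.triv hg 1 t h.tK (e1 ▸ mul_mem (h.nK hi.symm h1) (inv_mem h1))
    (by simpa [pow_two] using h.tt)) h.t1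

theorem core {g k : G} (hi : Commute (g * t * g⁻¹) i) (hk : k ∈ 𝐂[L]) (e : g * t * g⁻¹ = x * k) :
    g * i * g⁻¹ ∈ L ⊔ 𝐂[L] ∧ g * t * g⁻¹ ∈ L ∧ ¬ Bad L t x := by
  have hg : g * t * g⁻¹ ≠ t := fun c => h.xK ((mul_mem_cancel_right hk).1 (e ▸ c.symm ▸ h.tK))
  have h1 : g * i * g⁻¹ ∈ 𝐍[L] := h.nN.2 (comm_to_conj (h.Ji (h.sym hi))).symm
  have h2 := h.ci hg hi (conj_mem_cj g h.iK) h1
  have h3 : NX t x (g * i * g⁻¹) := h.nx' h1 hk (e ▸ comm_conj (commute_of_mem h.iL h.tK) g)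
  have h4 : ∀ y ∈ L, Commute y x → ⁅y, g * i * g⁻¹⁆ = 1 ∨ ⁅y, g * i * g⁻¹⁆ = x * k := fun y h5 h6 =>
    e ▸ h.pm' (e ▸ h6.mul_right (commute_of_mem h5 hk))
  have h5 : x * k * x ∈ 𝐂[L] := by
    rwa [(commute_of_mem h.xL hk).eq, mul_assoc, h.xx, mul_one]
  rcases h.tri _ h1 with c | c | c | c
  · obtain ⟨l, hl, k', hk', e'⟩ := memJ.1 c
    rw [e'] at h3 h4
    have h6 : l * l * x ∈ 𝐂[L] := by
      have : l * l * (k' * k') = x * k := by rw [← sq_dec hl hk', ← e', conj_mul, h.sq, e]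
      rw [eq_mul_inv_of_mul_eq this, mul_assoc, ← (commute_of_mem h.xL (inv_mem (mul_mem hk' hk'))).eq,
        ← mul_assoc]
      exact mul_mem h5 (inv_mem (mul_mem hk' hk'))
    simp only [commutatorElement_def] at h4
    obtain ⟨y, y1, y2, y3⟩ := h.e1 l hl (h.nx_dec hk' h3) h6
    have h7 := (h4 y y1 y2).resolve_left (by
      rw [comm_dec y1 hk']; exact fun c => y3 (commutatorElement_eq_one_iff_commute.1 c))
    rw [comm_dec y1 hk'] at h7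
    have h8 : x * k ∈ L := h7 ▸ mul_mem (mul_mem (mul_mem y1 hl) (inv_mem y1)) (inv_mem hl)
    refine ⟨c, e ▸ h8, fun b => ?_⟩
    obtain ⟨y, y1, y2, y3, y4⟩ := b l hl (h.nx_dec hk' h3) h6 (x * k) (by
      rcases h.two ((mul_mem_cancel_left h.xL).1 h8) hk (by
        have := sq_dec h.xL hk
        rw [← e, conj_mul, h.tt, h.xx] at this
        simpa using this.symm) with c | c <;> simp [c])
    rcases h4 y y1 y2 with c | c <;> rw [comm_dec y1 hk'] at c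
    exacts [y3 c, y4 c]
  · obtain ⟨y, y1, y2, y3, y4⟩ := h.O1 _ c h3
    rcases h4 y y1 y2 with c | c <;> rw [c] at y3 y4
    exacts [absurd (one_mem _) y3, absurd h5 y4]
  · exact absurd ((h.inv1 _ c).symm.trans (mul_inv_eq_iff_eq_mul.2 h2)) h.ine
  · exact absurd ((h.inv2 _ c).symm.trans (mul_inv_eq_iff_eq_mul.2 h2)) h.ine

theorem inL {g : G} (hi : Commute (g * t * g⁻¹) i) :
    g * t * g⁻¹ ∈ L ∧ (g * t * g⁻¹ ≠ t → ¬ Bad L t x) := by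
  by_cases hg : g * t * g⁻¹ = t
  · exact ⟨hg.symm ▸ h.tL, fun c => absurd hg c⟩
  have h1 := h.sym (h.Ji (h.sym hi))
  rw [inv_inv] at h1
  obtain ⟨m, hm, k, hk, e⟩ := memJ.1 h1
  have h2 : m * m * (k * k) = 1 := by rw [← sq_dec hm hk, ← e, conj_mul, h.tt]; simp
  rcases h.cls m hm ((mul_mem_cancel_right (mul_mem hk hk)).1 (h2 ▸ one_mem _)) with c | ⟨a, ha, z, hz, c⟩
  · refine absurd (h.triv hg 1 _ (e ▸ mul_mem c hk) (conj_mem_cj g h.tK) ?_)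
      (by rw [conj_eq_one_iff]; exact h.t1)
    rw [pow_one, pow_two, conj_mul, h.tt]; simp
  have h3 : a⁻¹ * g * t * (a⁻¹ * g)⁻¹ = x * (z * k) := by
    rw [mul_inv_rev, mul_assoc, mul_assoc, ← mul_assoc t, ← mul_assoc g, ← mul_assoc g, e, c, mul_assoc _ z,
      mul_assoc _ a⁻¹, (commute_of_mem (inv_mem ha) (mul_mem hz hk)).eq]
    group
  obtain ⟨-, h4, h5⟩ := h.core (h3 ▸ (commute_of_mem h.xL h.iK).mul_left
    (commute_of_mem h.iL (mul_mem hz hk)).symm) (mul_mem hz hk) h3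
  refine ⟨?_, fun _ => h5⟩
  simpa [mul_assoc] using mul_mem (mul_mem ha h4) (inv_mem ha)

theorem cls' {m : G} (hm : m ∈ L) (h1 : m * m = 1) (h2 : m ∉ 𝐂[L]) : ∃ a ∈ L, m = a * x * a⁻¹ := by
  obtain ⟨a, ha, z, hz, c⟩ := (h.cls m hm (h1 ▸ one_mem _)).resolve_left h2
  have h3 : a * x * a⁻¹ ∈ L := mul_mem (mul_mem ha h.xL) (inv_mem ha)
  rcases h.two ((mul_mem_cancel_left h3).1 (c ▸ hm)) hz (by
    rw [c, sq_dec h3 hz, conj_mul, h.xx] at h1; simpa using h1) with e | e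
  · exact ⟨a, ha, by rw [c, e, mul_one]⟩
  · obtain ⟨u, hu, e'⟩ := h.exu
    refine ⟨a * u, mul_mem ha hu, ?_⟩
    rw [c, e, mul_assoc, (commute_of_mem (inv_mem ha) h.tK).eq, mul_inv_rev, ← mul_assoc, mul_assoc a x, ← e']
    group

/-- an outer conjugate -/
theorem outer {s : G} (h1 : s ∈ 𝐍[L]) (h2 : s * s = 1) (h3 : ¬ Commute s i) :
    i * s * i⁻¹ = s * t ∧ ∃ l ∈ L, ⁅l, s⁆ ∈ L ∧ ⁅l, s⁆ * ⁅l, s⁆ = 1 ∧ ⁅l, s⁆ ∉ 𝐂[L] ∧ Commute ⁅l, s⁆ s := by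
  have e := (h.pm h1).resolve_left fun e => h3 (mul_inv_eq_iff_eq_mul.1 e)
  have hs : s⁻¹ = s := inv_eq_of_mul_eq_one_right h2
  constructor
  · have : s * (i * s * i⁻¹) = s * (s * t) := by
      rw [← mul_assoc s s, h2, one_mul, ← mul_assoc, ← mul_assoc]
      nth_rewrite 2 [← hs]
      rw [e, ← mul_inv_rev, h.sq, inv_eq_iff_mul_eq_one, h.tt]
    exact mul_left_cancel this
  obtain ⟨l, hl, h4, h5⟩ : ∃ l ∈ L, ⁅l, s⁆ * ⁅l, s⁆ = 1 ∧ ⁅l, s⁆ ∉ 𝐂[L] := by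
    rcases h.tri s h1 with c | c | c | c
    exacts [absurd (h.Ji c) h3, absurd (h.cc s c) h3, h.F1 s c (h2 ▸ one_mem _), h.F2 s c (h2 ▸ one_mem _)]
  refine ⟨l, hl, ?_, h4, h5, ?_⟩
  · rw [commutatorElement_def, mul_assoc, mul_assoc, ← mul_assoc s]
    exact mul_mem hl (conj_mem_of_mem_normalizer h1 (inv_mem hl))
  · have : s * ⁅l, s⁆ * s⁻¹ = ⁅l, s⁆⁻¹ := by
      rw [commutatorElement_def, mul_assoc, mul_assoc _ s⁻¹, ← mul_inv_rev, h2]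
      simp [mul_assoc, hs]
    rw [inv_eq_of_mul_eq_one_right h4] at this
    exact (mul_inv_eq_iff_eq_mul.1 this : Commute s _).symm

/-- one of two elements centralizes the root of `t^g` -/
theorem par {g a b : G} (ha : Commute a (g * t * g⁻¹)) (hb : Commute b (g * t * g⁻¹))
    (h1 : ¬ Commute a (g * i * g⁻¹)) (h2 : ¬ Commute b (g * i * g⁻¹)) : Commute (a * b) (g * i * g⁻¹) := by
  have e1 := (h.pm (h.nN.2 (comm_of_conj ha))).resolve_left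
    fun e => h1 (comm_to_conj (mul_inv_eq_iff_eq_mul.1 e))
  have e2 := (h.pm (h.nN.2 (comm_of_conj hb))).resolve_left
    fun e => h2 (comm_to_conj (mul_inv_eq_iff_eq_mul.1 e))
  refine comm_to_conj (mul_inv_eq_iff_eq_mul.1 ?_)
  rw [← conj_mul, mul_inv_rev, mul_assoc, mul_assoc, ← mul_assoc i, ← mul_assoc _ (i * _), ← mul_assoc _ i,
    e2, ← mul_assoc, ← conj_inv, e1, inv_inv]

theorem flip {g : G} (hi : Commute t (g * i * g⁻¹)) : Commute (g * t * g⁻¹) i := by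
  simpa using h.Ji (h.sym (comm_of_conj hi))

theorem exists_g [IsSimpleGroup G] (hG : ¬ IsMulCommutative G) :
    (∃ g, g * t * g⁻¹ = x) ∧ ¬ Bad L t x := by
  obtain ⟨g, hg, hi⟩ : ∃ g, g * t * g⁻¹ ≠ t ∧ Commute (g * t * g⁻¹) i := by
    obtain ⟨g, hg, hc⟩ := exists_conj' hG h.std h.ot h.tL h.tK
    by_cases hi : Commute (g * t * g⁻¹) i
    · exact ⟨g, hg, hi⟩
    have ss : g * t * g⁻¹ * (g * t * g⁻¹) = 1 := by rw [conj_mul, h.tt]; simp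
    obtain ⟨e, l, hl, h1, h2, h3, h4⟩ := h.outer (h.nN.2 hc.symm) ss hi
    have e1 : l * g * t * (l * g)⁻¹ = ⁅l, g * t * g⁻¹⁆ * (g * t * g⁻¹) := by
      rw [commutatorElement_def]; group
    have e2 : i * l * g * t * (i * l * g)⁻¹ = ⁅l, g * t * g⁻¹⁆ * (g * t * g⁻¹) * t := by
      rw [mul_assoc ⁅_, _⁆ _ t, ← e, ← mul_assoc, ← mul_assoc, (commute_of_mem h1 h.iK).eq,
        mul_assoc i _ (_ * g⁻¹), ← e1]
      group
    have c1 := h4.mul_left (Commute.refl _)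
    have key : ∀ a, a * g * t * (a * g)⁻¹ ≠ g * t * g⁻¹ → Commute (a * g * t * (a * g)⁻¹) (g * i * g⁻¹) →
        ∃ g, g * t * g⁻¹ ≠ t ∧ Commute (g * t * g⁻¹) i := fun a c d =>
      ⟨g⁻¹ * a * g, fun c' => c (by rw [← congrArg (g * · * g⁻¹) c']; group), by
        simpa [mul_assoc] using comm_of_conj d⟩
    by_cases c : Commute (⁅l, g * t * g⁻¹⁆ * (g * t * g⁻¹)) (g * i * g⁻¹)
    · exact key l (by rw [e1]; exact fun c => h3 ((mul_eq_right.1 c).symm ▸ one_mem _)) (e1 ▸ c)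
    · refine key (i * l) (by
        rw [e2, mul_assoc, ← hc.eq, ← mul_assoc]
        exact fun c => h3 ((mul_mem_cancel_right h.tK).1 ((mul_eq_right.1 c).symm ▸ one_mem _))) ?_
      exact e2 ▸ h.par c1 hc c fun c => hi (h.flip c)
  obtain ⟨h1, h2⟩ := h.inL hi
  have ss : g * t * g⁻¹ * (g * t * g⁻¹) = 1 := by rw [conj_mul, h.tt]; simp
  obtain ⟨a, -, e⟩ := h.cls' h1 ss fun c => (h.two h1 c ss).elim
    (by rw [conj_eq_one_iff]; exact h.t1) hg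
  exact ⟨⟨a⁻¹ * g, by rw [mul_inv_rev, mul_assoc, mul_assoc, ← mul_assoc t, ← mul_assoc g, ← mul_assoc g, e]; group⟩,
    h2 hg⟩

end Dat

end Cfsg.Agent.Std.ON
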