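import Mathlib
import Cfsg.Agent.Std.OnT
import Cfsg.Agent.ONT.K330
import Cfsg.Agent.ONT.K340
import Cfsg.Agent.ONT.K350
import Cfsg.Agent.ONT.K430
import Cfsg.Agent.ONT.K440
import Cfsg.Agent.ONT.K450

/-! Standard subgroups `4.L₃(4)`: the six models. -/

set_option autoImplicit false
set_option maxRecDepth 100000
set_option synthInstance.maxSize 4000

namespace Cfsg.Agent.Std.ON

open Cfsg Subgroup PLocal PLocal.Amb ONT
open Cfsg.Agent.Comp (dig)
open Cfsg.Agent.Comp.BN (ev ev_cons ev_nil Sat subT nth gen gen_le selfT)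

variable {G : Type*} [Group G] {L : Subgroup G} {K : Type} [Group K]
  {F : Type*} [Field F] [Fintype F] {σ : ℕ → X →* X} {τ : X →* L3 F}

/-- The normalized covering map. -/
structure Cov (τ : X →* L3 F) (s : L →* L3 F) (φ : X →* L) (r : ℕ) : Prop where
  card : Nat.card L = 80640
  ker : s.ker = center L
  surj : Function.Surjective φ
  comp : ∀ g, s (φ g) = τ g
  ord : orderOf (φ (xX 3)) = 4
  cen : center L = zpowers (φ (xX 3))
  rr : r = 1 ∨ r = 3
  pw : φ (xX 5) = φ (xX 3) ^ r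

/-- `L` inside a model -/
structure Th (σ : X →* X) (φ : X →* L) (x : ℕ → K) (θ : L →* K) : Prop where
  inj : Function.Injective θ
  idx : θ.range.index = 2
  gen : ∀ k < 7, θ (φ (xX k)) = x k
  out : x 7 ∉ θ.range
  act : ∀ g, θ (φ (σ g)) = x 7 * θ (φ g) * (x 7)⁻¹

variable {s : L →* L3 F} {φ : X →* L} {r : ℕ}

omit [Fintype F] in
theorem Cov.theta (c : Cov τ s φ r) (hτ : Tau τ) (hσ : Sig σ) {j : ℕ} (hj : j < 12) {y : ℕ → K}
    (hK : Nat.card K = 161280) (hy : Sat (Pc ((9 - r) / 2) j 0) y) (top : gen y = ⊤) :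
    ∃ θ, Th (σ j) φ y θ := by
  obtain ⟨κ, hκ⟩ := link_X.hom K (fun i => if i < 7 then y i else 1) (by
    have h0 : ∀ k, PX.inv.length ≤ k → (if k < 7 then y k else 1) = 1 := fun k hk => if_neg (not_lt.2 hk)
    refine ⟨h0, Comp.BN.inv_of_lt h0 fun i hi => ?_, fun r hr => ?_⟩
    · change i < 7 at hi
      rw [if_pos hi, if_pos (low_AW j hj i hi).1, ← hy.inv i]
      interval_cases i <;> rfl
    · refine Eq.trans ?_ (hy.rel r (List.mem_append_left _ hr))
      have := low_rel r hr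
      clear hr
      induction r with
      | nil => rfl
      | cons k W ih => rw [ev_cons, ev_cons, if_pos (this k (by simp)), ih fun l hl => this l (by simp [hl])])
  have h1 : ∀ k < 7, y k = κ (xX k) := fun k hk => by rw [hκ, if_pos hk]
  have h2 : y 8 = (y 7)⁻¹ := eq_inv_of_mul_eq_one_left (hy.inv 7)
  have h3 : ∀ g, κ (σ j g) = y 7 * κ g * (y 7)⁻¹ := DFunLike.congr_fun (hom_ext (f := κ.comp (σ j))
    (g := (MulAut.conj (y 7)).toMonoidHom.comp κ) fun i hi => by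
      have := hy.rel _ (List.mem_append_right _ (List.mem_cons_of_mem _ (List.mem_cons_of_mem _
        (List.mem_map_of_mem (List.mem_range.2 hi)))))
      rw [ev_cons, ev_cons, ev_cons, ev_low h1 (low_AW j hj i hi).2, h1 i hi, h2, ← mul_assoc,
        ← mul_assoc, mul_eq_one_iff_eq_inv] at this
      refine Eq.trans ?_ this.symm
      rw [← map_inv, show ev xX _ = σ j (xX (PX.I i)) from (hσ.map j hj _).symm, ← map_inv,
        inv_eq_of_mul_eq_one_right (link_X.sat.inv i)]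
      rfl)
  have h4 : y 7 * y 7 = 1 := by
    simpa [Comp.BN.ev_powW] using hy.rel _ (List.mem_append_right _ (List.mem_cons_of_mem _ List.mem_cons_self))
  have e1 : κ (xX 3) ^ 4 = 1 := by rw [← map_pow, u4, map_one]
  have e3 : κ (xX 5) = κ (xX 3) ^ r := by
    have e2 := hy.rel _ (List.mem_append_right _ List.mem_cons_self)
    rcases c.rr with rfl | rfl <;> rw [ev_low h1 (by decide), ev_cons, ev_cons, ev_nil, mul_one, map_mul,
      mul_eq_one_iff_eq_inv] at e2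
    · rw [e2, U_eq, map_inv, inv_inv, pow_one]
    · rw [e2, inv_eq_iff_mul_eq_one, ← pow_succ', e1]
  let θ := φ.liftOfRightInverse _ (Function.rightInverse_surjInv c.surj) ⟨κ, fun g hg => by
    obtain ⟨a, -, b, -, rfl⟩ := (hτ.ker g).1 (by rw [← c.comp, show φ g = 1 from hg, map_one])
    rw [MonoidHom.mem_ker, map_zz _ (pow_one _).symm c.pw, ← orderOf_dvd_iff_pow_eq_one, c.ord] at hg
    obtain ⟨n, hn⟩ := hg
    rw [MonoidHom.mem_ker, map_zz _ (pow_one _).symm e3, hn, pow_mul, e1, one_pow]⟩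
  have h5 : ∀ g, θ (φ g) = κ g := fun g => φ.liftOfRightInverse_comp_apply _ _ _ g
  have h6 : θ.range ⊔ zpowers (y 7) = ⊤ := eq_top_iff.2 (top ▸ gen_le fun i => by
    rcases lt_or_ge i 7 with hi | hi
    · exact mem_sup_left ⟨_, (h5 _).trans (h1 i hi).symm⟩
    rcases lt_or_ge i 9 with hi' | hi'
    · interval_cases i
      exacts [mem_sup_right (mem_zpowers _), h2 ▸ mem_sup_right (inv_mem (mem_zpowers _))]
    · rw [hy.out i hi']; exact one_mem _)
  have : Finite L := Nat.finite_of_card_ne_zero (by rw [c.card]; decide)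
  have h7 := θ.ker.card_mul_index
  rw [index_ker, c.card] at h7
  have h8 : 0 < Nat.card θ.ker := Nat.card_pos
  have h9 : y 7 ∉ θ.range := fun h => by
    rw [sup_eq_left.2 (zpowers_le.2 h)] at h6
    rw [h6, card_top, hK] at h7
    omega
  have h10 := Comp.card_adjoin (A := θ.range) (x := y 7) (by
    rintro _ ⟨a, rfl⟩
    obtain ⟨a, rfl⟩ := c.surj a
    exact ⟨φ (σ j a), by rw [h5, h5, h3]⟩) (h4 ▸ one_mem _) h9
  have h11 := θ.range.card_mul_index
  rw [h6, card_top, hK] at h10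
  rw [show Nat.card θ.range = 80640 by omega] at h7 h11
  exact ⟨θ, (MonoidHom.ker_eq_bot_iff θ).1 (card_eq_one.1 (by omega)), by omega,
    fun k hk => (h5 _).trans (h1 k hk).symm, h9, fun g => by rw [h5, h5, h3]⟩

theorem Cov.tri (c : Cov τ s φ r) (hτ : Tau τ) (hσ : Sig σ) (hF : Fintype.card F = 4) {n : G} (hn : n ∈ 𝐍[L]) :
    n ∈ L ⊔ 𝐂[L] ∨ ∃ j, (j = 3 ∨ j = 4 ∨ j = 5) ∧
      ∀ {K : Type} [Group K] {y : ℕ → K} {θ : L →* K}, Th (σ j) φ y θ → AK θ n := by
  have : Finite (L3 F) := Nat.finite_of_card_ne_zero (by rw [(exists_tau hF).1]; norm_num)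
  have hs : Function.Surjective s := fun a => (hτ.surj a).elim fun g hg => ⟨φ g, (c.comp g).trans hg⟩
  let β : MulAut L := L.normalizerMonoidHom ⟨n, hn⟩
  let f := s.liftOfRightInverse _ (Function.rightInverse_surjInv hs) ⟨s.comp β.toMonoidHom, fun g hg =>
    c.ker.ge (characteristic_iff_le_comap.1 inferInstance β (c.ker.le hg))⟩
  have hf : ∀ g, f (s g) = s (β g) := fun g => s.liftOfRightInverse_comp_apply _ _ _ g
  obtain ⟨j, hj, l, hl⟩ := hσ.all hτ hF (MulEquiv.ofBijective f (Finite.surjective_iff_bijective.1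
    fun a => (hs a).elim fun g hg => ⟨s (β.symm g), by rw [hf, β.apply_symm_apply, hg]⟩))
  have h7 : ∀ a, β (φ a) = φ (l * σ j a * l⁻¹) := lift_eq c.ker.le (f := β.toMonoidHom.comp φ)
    (g := φ.comp ((MulAut.conj l).toMonoidHom.comp (σ j))) fun a =>
      (hf _).symm.trans ((congrArg f (c.comp a)).trans ((hl a).trans (c.comp _).symm))
  have h8 : ∀ a, n * φ a * n⁻¹ = φ l * φ (σ j a) * (φ l : G)⁻¹ := fun a => by
    refine Eq.trans (rfl : _ = (β (φ a) : G)) ?_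
    simp [h7]
  by_cases h0 : j = 0
  · refine Or.inl (Dat.memJ.2 ⟨_, (φ l).2, (φ l : G)⁻¹ * n, mem_centralizer_iff.2 fun a ha => ?_, by simp⟩)
    obtain ⟨b, e⟩ := c.surj ⟨a, ha⟩
    have := h8 b
    rw [h0, hσ.zero, e] at this
    replace this : n * a * n⁻¹ = φ l * a * (φ l : G)⁻¹ := this
    calc a * ((φ l : G)⁻¹ * n) = (φ l : G)⁻¹ * (φ l * a * (φ l : G)⁻¹) * n := by group
      _ = _ := by rw [← this]; group
  have h6 : ∀ p q, l * zz p q * l⁻¹ = zz p q := fun p q => by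
    rw [mem_center_iff.1 (zz_cent p q), mul_inv_cancel_right]
  have h13 := h7 (xX 3)
  have h14 := h7 (xX 5)
  rw [hσ.u j hj, h6, map_zz φ (pow_one _).symm c.pw] at h13
  rw [hσ.v j hj, h6, map_zz φ (pow_one _).symm c.pw, c.pw, map_pow, h13, ← pow_mul, pow_eq4 c.ord] at h14
  have k1 : ∀ j < 12, ∀ r < 4, (r = 1 ∨ r = 3) → j ≠ 0 →
      (1 * za j + r * zb j) * r % 4 = (1 * zc j + r * zd j) % 4 → j = 3 ∨ j = 4 ∨ j = 5 := by decide +kernel
  refine Or.inr ⟨j, k1 j hj r (by have := c.rr; omega) c.rr h0 h14, fun {K} _ y θ t => ⟨hn, θ (φ l) * y 7,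
    fun e => t.out ((mul_mem_cancel_left (MonoidHom.mem_range.2 ⟨_, rfl⟩)).1 e), fun a d e => ?_⟩⟩
  obtain ⟨a, rfl⟩ := c.surj a
  rw [show d = φ l * φ (σ j a) * (φ l)⁻¹ from Subtype.ext (e.trans (h8 a)), map_mul, map_mul, t.act, map_inv]
  group

/-- parity of a word -/
def parW (W : List ℕ) : Bool := W.foldr (fun k b => xor (k == 7 || k == 8) b) false

/-- parity of a code -/
def parF (m : ℕ) : ℕ → ℕ → ℕ → Bool
  | 0, _, _ => false
  | f + 1, i, k => xor (parF m f (i + 1) (k / 2)) (k % 2 != 0 && m.testBit i)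

theorem par_el {H : Subgroup K} (h : H.index = 2) {y : ℕ → K} {m : ℕ} (hy : ∀ i < 9, y i ∈ H ↔ ¬ m.testBit i = true)
    (f i k : ℕ) (e : i + f ≤ 9) : elF y f i k ∈ H ↔ ¬ parF m f i k = true := by
  induction f generalizing i k with
  | zero => simp [elF, parF]
  | succ f ih =>
    rw [elF, parF, mul_mem_iff_of_index_two h, ih _ _ (by omega)]
    split_ifs with c
    · simp [c]
    · rw [hy i (by omega)]
      cases parF m f (i + 1) (k / 2) <;> simp [show k % 2 = 1 by omega]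

omit [Fintype F] in
theorem Cov.mod (c : Cov τ s φ r) (hτ : Tau τ) (hσ : Sig σ) {j : ℕ} (hj : j < 12) {x : ℕ → K} {ws : List (List ℕ)}
    {ap : ℕ → ℕ → ℕ} {κ KT m ci c' u0 a0 : ℕ} {mu : ℕ → ℕ → ℕ} {iv rp : ℕ → ℕ} {os WL : List ℕ}
    (h : ∃ pk, KD (Pc ((9 - r) / 2) j 0) x (subT x ws) ap pk κ KT mu rp os)
    (h1 : (∀ i < 9, parW (nth [] ws i) = m.testBit i) ∧ nth [] ws 1 = [0] ∧ nth [] ws c' = [3])
    (h2 : ∀ y : ℕ → K, elF y 9 0 ci = y c') (h3 : (TD.mk mu iv (parF m 9 0) ci WL).baseC u0 a0 = true) :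
    ∃ θ, Th (σ j) φ x θ ∧ Mod θ (φ (xX 3)) (φ (xX 0)) (elF (subT x ws) 9 0) ⟨mu, iv, parF m 9 0, ci, WL⟩
      rp os u0 a0 := by
  obtain ⟨pk, h⟩ := h
  obtain ⟨θ, t⟩ := c.theta hτ hσ hj h.card h.link.sat h.link.top
  have h4 : ∀ W, ev x W ∈ θ.range ↔ ¬ parW W = true := fun W => by
    induction W with
    | nil => simp [parW]
    | cons k W ih =>
      have : x k ∈ θ.range ↔ ¬ (k == 7 || k == 8) = true := by
        rcases lt_or_ge k 7 with hk | hk
        · exact iff_of_true ⟨_, t.gen k hk⟩ (by simp; omega)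
        rcases lt_or_ge k 9 with hk' | hk'
        · interval_cases k
          exacts [iff_of_false t.out (by simp), iff_of_false (fun e => t.out ((mul_mem_cancel_left e).1
            (show x 8 * x 7 ∈ _ from h.link.sat.inv 7 ▸ one_mem _))) (by simp)]
        · exact iff_of_true (h.link.sat.out k hk' ▸ one_mem _) (by simp; omega)
      rw [ev_cons, mul_mem_iff_of_index_two t.idx, ih, this,
        show parW (k :: W) = xor (k == 7 || k == 8) (parW W) from rfl]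
      cases (k == 7 || k == 8) <;> simp
  have h5 : ∀ a : L, (a : G) ∈ 𝐂[L] ↔ a ∈ center L := fun a =>
    ⟨fun e => mem_center_iff.2 fun b => Subtype.ext (e b b.2),
      fun e b hb => congrArg Subtype.val (mem_center_iff.1 e ⟨b, hb⟩)⟩
  refine ⟨θ, t, h.cod, (orderOf_coe _).trans c.ord, (h5 _).2 (c.cen ▸ mem_zpowers _), fun a ha e => ?_, t.inj,
    t.idx, fun k _ => par_el t.idx (fun i hi => h1.1 i hi ▸ h4 _) 9 0 k le_rfl, ?_, ?_, ?_, h3⟩
  · obtain ⟨n, hn⟩ := c.cen ▸ (h5 ⟨a, ha⟩).1 e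
    exact ⟨n, congrArg Subtype.val hn⟩
  · rw [t.gen 3 (by decide), h2, subT, h1.2.2]; simp
  · rw [t.gen 0 (by decide), show elF (subT x ws) 9 0 2 = subT x ws 1 by simp [elF], subT, h1.2.1]; simp
  · rw [map_mul, t.gen 3 (by decide), h.t]

noncomputable def D430 : TD := ⟨muC K430.MT, dig 9 511 (nat_lit 0xe6f339dcfe472797caf3f9bc9e5f178fc3e0eff7bb9dded76fb3d8fbfdbe9f5f97cfe3f0f7fbbd9edf57afd3e8e2f138dc7e070787c2fe7f7fffefcfe3f5fbea757afd6e8f43a5d3df6ff7bbcddeeb71b9cb65f2b94c9e4b2191d7ebb59add56af53a8c2e130d87c06070782cf67f3b9ccde6b3199db6df6bb4d9ecb61b1c763f1b8cc5e2b1189d26974fa6d0e8345a38dc6a31198fc7a391da351e8b44a1d0a81419dcea71399fcfa793db3d9ac965b158ec36084426170a864361f0eabd5aa955a954ea350944a6572a964b65f2ebb5deeb74b9dcae171b5daad169b7dbad96d9b4de6b3499cca6131a4d22954ba6d329d4f8ac522d17884462712bddeaf179bfdfaf97d924964f2690c824523acd62b55baed72bd5f83c1a09058140e030065b2992c867b399acc4321d088541a090280743a5d4e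b763b5dcef52a914ea65028544a36c365b4db6e375bcdf4ba592a944924d20917dbe9f2f87fbf9fafc5a2d56cb758ac166b244225148b462351c8f623158cc760b0186c254aa156aa56ab15eae72b91cee670385c4e34ca61369a4ea713e9e6bb59aad46934da0d15c2e574bb5e2f57cbf7b3dde8f579bc9e2f03e1f4fc7f3c9e0f67a3a1d4ec77389c0e672369b0de6e341a4d46b33998ca643118cc0612f978ba5c2d16cb0592b958aa542914ca051279389a4c2512c9049229108e462010484431e8f07e3e1c0e4743b1b8d86a34190cc6031170bc582d158a852281309c48251188842200e0743c1f0c860361a0b05c28150984822100703c180d0582812080301c0805018080200),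
  parF 136 9 0, 4, [136]⟩

theorem mod430 (c : Cov τ s φ 1) (hτ : Tau τ) (hσ : Sig σ) : ∃ θ, Th (σ 3) φ (selfT K430.π) θ ∧
    Mod θ (φ (xX 3)) (φ (xX 0)) (elF (subT (selfT K430.π) K430.ws) 9 0) D430 (dig 9 511 K430.RP) [8, 9] 256 8 :=
  c.mod hτ hσ (by decide) K430.kd (c' := 2) (by decide +kernel) (fun y => by simp [elF]) (by decide +kernel)

noncomputable def D440 : TD := ⟨muC K440.MT, dig 9 511 (nat_lit 0xd86c767b2daed36db7f57afd3e8f77bfdbecf97cfe3f0fb7dfebf4d46a757aad6eb35dafeff7bb9dded76fb3d8c2e130d87c0e030583cee733d9fcce63359be3f1b89c5e170f83c0d168f43a0d369f4ba4fc7e7f7fafeff3fdfff0787c7e2f2f93cde7dd6ef73b8df6ff7bbce67379fcee472797cacb65f2b94c9e4b2191c763f1b8cc5e2b1189ea757afd6e8747a7d2bfdfaf97dbd5eef378aed72bd5facd62b55ba25168f46a05068742b359ecb64b1d8ac161ba5d6ef76b85c6e772ab55eab54a9d4aa151a7d3a994da552e9348b6db2dd6fb4da2d56b84c22150b864361f0e94ca2552b96cb25d2f984c667329a4d66f368844627128ac522d1780406070282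4160f0690486472292c924d279cce2753b9e4f67f3e8cc62351b8ec723d1f41a0902804321d08857b3dde8f579bc9e2f077bb9daec753add0e94d26d30994fa793a9c6c365b4db6e375bcdf5b2dd68b5592cd60b157ab95aac55aa952a860b0186c262b118ec65c2e574bb5e2f57cbf6b35da8d56934da0d167b399acc65b2992c850a8146a252a914ea671b89c2e07339dc8e54b25d289549a49229047a391a8c4522d10897d3edf0f97fbf9fafc3e1f4fc7f3c9e0f67a3b9d8ea74399c8e270379b8da6c359a8d26832194cc6730980c6622f978ba5c2d968b2582713c984d2592892482b15ca85529948a250239188a442190882401f8f87a3c1d8e87238160b45c2f148a0562a1a0d46c37188c06632138984a241188842200f07c381d0d86832180b8582a14098482210078381a0c0582812080301c0805018080200),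
  parF 248 9 0, 4, [40, 136]⟩

theorem mod440 (c : Cov τ s φ 1) (hτ : Tau τ) (hσ : Sig σ) : ∃ θ, Th (σ 4) φ (selfT K440.π) θ ∧
    Mod θ (φ (xX 3)) (φ (xX 0)) (elF (subT (selfT K440.π) K440.ws) 9 0) D440 (dig 9 511 K440.RP) [8, 12] 256 8 :=
  c.mod hτ hσ (by decide) K440.kd (c' := 2) (by decide +kernel) (fun y => by simp [elF]) (by decide +kernel)

noncomputable def D450 : TD := ⟨muC K450.MT, dig 9 511 (nat_lit 0xa150e8340a2d128d47a5d2a9149a65369f4eb55aed368b6db2dd6fb158ec360b2d92cd67aad52ad57a954ea350ae576bf5eadd6ab159bedf2fd7fbd5eef378badd2ed77b95cee370df6ff7bbcdd6ef73b8dbedb69b5d9ecb61b1d76bf5bacd56af53a8d3e9b49a5d1e8b41a1c964f2390cb65f2b94cd66f3398cf67f3b9cc160f0380c361f0b84c562f1388c763f1b8ce67379fcee572f93c8e27178fc6e170f83c0f47a7d7eaf77bfdbecf0787c7e2f379fcbe4eaf53add7e9f4ba1d1ee777bfdeed76fb3d8f8fc3e5f3fbfdbe9f5fc7e7f7faff7fffbfc984c667329acd26d379c4e6773a9ecf27d3f97cba592d954ae53289349e4b2491c8a412188c422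5138a4562f168cc62351b8e4763f1e8743e1b0c85c2a110983c1a09058140e03007e3f5fcff7dbe9f2f87a3d5ecf779bc9e2f06a355acd769b49a2d06eb71bede6d36db0d972b91cee67138dc0e1763b5dcef75ba9d2e8663359ccf65b2992c8623158cc761b0982c05a2d56cb758ac166b25e2f57cbf5cae176ba57ab95aac552ad50a95329d48a551a8942a04f27d389d4da6932984ba592a944924d2091422150c8740a010682462351c8f44a21168a3e9f0fe7e3d9e8f2783a9d0ee76399c8e2702c960b65a2f978ba5c28940a6522b958aa54359a8d268369b0de6e31988c26032990ce66279389a4c24920964a239188a442090086421e0f47c3f1c0e4743b1a8d06e36188c06632148a0562a168b05e2e100844423120944c270d86832180f8783a1c0904c20110b05c28150703c180d0502c1009038180a04018080200),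
  parF 64 9 0, 8, [128, 4, 256, 432, 260, 436]⟩

theorem mod450 (c : Cov τ s φ 1) (hτ : Tau τ) (hσ : Sig σ) : ∃ θ, Th (σ 5) φ (selfT K450.π) θ ∧
    Mod θ (φ (xX 3)) (φ (xX 0)) (elF (subT (selfT K450.π) K450.ws) 9 0) D450 (dig 9 511 K450.RP) [68] 256 64 :=
  c.mod hτ hσ (by decide) K450.kd (c' := 3) (by decide +kernel) (fun y => by simp [elF]) (by decide +kernel)

noncomputable def D330 : TD := ⟨muC K330.MT, dig 9 511 (nat_lit 0xe67379fcee4f2395cbf3f9bc9e5f1f8bc1e1eff7bb9dded76fb3d8fbfdbe9f5f9fcbe1f1f7fbbd9edf57afd3e8e27178fc6e070787c2feff3fdfffc7e7f7faeaf53add7e8f43a5d3df6ff7bbcddeeb71b9cbe5b2995c9e4b2191d7ebb59add56af53a8c2e130d87c0e030583cf67f3b9ccde6b3199dbedb69b5d9ecb61b1c763f1b8cc5e2b1189d26974fa6d068747a28dc6a31198f47e3b1ca3d1a8945a150e83409d4ee73389fcfa793db3d9ac965b158ec36084426170a86c321d0fabd5aa955a954ea35094ca2552b964b65f2ebbddae975b95cee370b5daad169b75bedb6c9b4de6b3499cca6131a4d22954ba65369f4e8ac522d1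7884462712bd5eef378bfdfaf97d924964f2690c824523ac566b75aaed72bd5f83c1a09058140e03006532d90c96733d98cd43a190a8441a09028074ba1d6ea76bb1deee522954ca75028544a36cb61b6da6eb71bede4ba592a9449a4922907d3edf0f97f3fdf8fd5a2d56cb7582c564b344a21168a46a311e8e623158cc76030584c354aa156aa56ab15eae72395cce770385c4e34ca61369a4ea713e9e6bb59aad469b49a2d05cae176ba5eaf17ebe7bbd9eaf479bc9e2f03e9f0fe7e3c9e0f67a3a9d0ee76381c4e473361b4dc6f341a4d46b33998ca643118cc0612f978ba5c2d968b2582b958aa542914ca051279389a4c259289248221148c472090086421e8f07e3e1c8e0763a1b8d86a34190cc6031178b85a2c158a852281309c48251188842200e0743c1f0c064341b0b05c2815098482210078381a0c0582812080301c0805018080200),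
  parF 136 9 0, 4, [48]⟩

theorem mod330 (c : Cov τ s φ 3) (hτ : Tau τ) (hσ : Sig σ) : ∃ θ, Th (σ 3) φ (selfT K330.π) θ ∧
    Mod θ (φ (xX 3)) (φ (xX 0)) (elF (subT (selfT K330.π) K330.ws) 9 0) D330 (dig 9 511 K330.RP) [8, 12] 256 8 :=
  c.mod hτ hσ (by decide) K330.kd (c' := 2) (by decide +kernel) (fun y => by simp [elF]) (by decide +kernel)

noncomputable def D340 : TD := ⟨muC K340.MT, dig 9 511 (nat_lit 0xd86c767b2da6d76fb6f57afd3e8f77bfdbecf97cfe3f0fb7dfebf4d46a757aad66b75faeeff7bb9dded76fb3d8c2e130d87c06070782cee733d9fcc667379ae3f1b89c5e170f83c0d1e8b41a1d3e9b49a5fcfe3f5fbfeff3fdfff0f83c5e3f2f93cde7ddeeb71b9dfefb79bde67379fcee4f2395cbcb65f2b94c9e4b2191c763f1b8cc5e2b1189ea757afd6e8f43a5d3bfdfaf97dbd5eef378ae576bf5eacd62b55ba2d128d47a05068742b359ecb64b1d8ac161badd2ed77b85c6e772ab55eab54a9d4aa151a7d3a994da552e9348b65b6df6eb4da2d56b84c22150b86c321d0f94ca2552b96cb25d2f984c667329a4d66f368844627128a4562f1680c02050382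c120d0790c82452392c924d279c4e6773a9e4f67f3e8c466371a8e4763f1e4120d00814321d08857b3dde8f579bc9e2f077bb9daec753add0e94da6932984fa793a9c6c365b4db6e375bcdf5b2dd68b559ac962b057ab95aac552ad50a960b0186c262b118ec65cae176ba5eaf17ebe6b35da8d569b49a2d067b399acc6532d90c95028544a3522954ca771b89c2e073b99cae44b25d289549a49229047a391a8c4522d10897d3edf0f97f3fdf8fd3e9f0fe7e3c1e4f47b3b9d8ea74391cce071379b8da6c351acd06932990ce6630184c4632f17cb85d2d968b258279389a4c2512c90492b958aa542914ca0512311c88452190882401f0fc783d1d8e87238168b05e2e140a4542b1a8d06e36180c464331309c48251188842200f07c381d0d86832180b05c28150984822100703c180d0582812080301c0805018080200),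
  parF 248 9 0, 4, [136]⟩

theorem mod340 (c : Cov τ s φ 3) (hτ : Tau τ) (hσ : Sig σ) : ∃ θ, Th (σ 4) φ (selfT K340.π) θ ∧
    Mod θ (φ (xX 3)) (φ (xX 0)) (elF (subT (selfT K340.π) K340.ws) 9 0) D340 (dig 9 511 K340.RP) [8, 9] 256 8 :=
  c.mod hτ hσ (by decide) K340.kd (c' := 2) (by decide +kernel) (fun y => by simp [elF]) (by decide +kernel)

noncomputable def D350 : TD := ⟨muC K350.MT, dig 9 511 (nat_lit 0xcb65f2b94c964f2390fbfdbe9f5f97cfe3f0c361f0b84c160f0380f3f9bc9e5f178fc3e0d0e8345a3d2e934da7e070787c2e2f138dc7d8ec365b3daed36db7e8747a7d2eaf53add7d4ea355abd66b75faee472797cae67379fcedcee375bbde6f77fbeec767b7daee777bfdecfe7b399dcd66f3398ff7fffbfcfd7eff3f8c7e3b198dc562f1388f77bfdbecf57afd3e8bfdfaf97dbd5eef3789acd26d3798cc265338a4562f1688c422513ae576bf5eac566b75ab2d92cd67b0d82c56394ca2552b96cb25d2f84426170a86c321d0fa351e8b44a1d0a81419fcfa793d9d4ee7338ba5d6ef76b85c6e772a8546a752aa556af568cc62351b8e4763f1e90c82452392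4964f26b6db2dd6fb45a6d76aa4526974aa6d329d4f83c1a09058140e03006bb59aad469b49a2d044225148b462351c8f5faf97abc5dae972b873b99cae47138dc0e153a994aa45128d40a17fbf9fafc7dbe9f2f86733d98cd65b2992c84824524934aa512e9677bb9daec75ba9d2e85bad96ab4592cd60b140a010682422150c876fb79badc6d36db0d94fa793a9c4d26d309960b0186c2623158cc7783c5e4f37a3d5ecf7542a554ab56ab15eae3f9f8fa7c3d1ecf0793b9d8ea74399c8e270341a4d46b361b4dc6f32194cc6730184c4632e970be5e2c960b65a2a154ac5728940a652261349c4f24124944b201048443221148c471c8e0763a1e8f07e3e1b8d86a34198c86230160b45c2f148a0562a138984a241188842200f8783a1c0d86832180804424130a0542c17068301e0e04820160a0301c0805018080200),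
  parF 168 9 0, 4, [136, 120, 256, 312, 320, 376]⟩

theorem mod350 (c : Cov τ s φ 3) (hτ : Tau τ) (hσ : Sig σ) : ∃ θ, Th (σ 5) φ (selfT K350.π) θ ∧
    Mod θ (φ (xX 3)) (φ (xX 0)) (elF (subT (selfT K350.π) K350.ws) 9 0) D350 (dig 9 511 K350.RP) [24] 256 8 :=
  c.mod hτ hσ (by decide) K350.kd (c' := 2) (by decide +kernel) (fun y => by simp [elF]) (by decide +kernel)

variable [Finite G] {K1 K2 K3 : Type} [Group K1] [Group K2] [Group K3]

theorem main [IsSimpleGroup G] (hG : ¬ IsMulCommutative G) (hL : IsStandardSubgroup L) (c : Cov τ s φ r)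
    (hτ : Tau τ) (hσ : Sig σ) (hF : Fintype.card F = 4) :
    orderOf (φ (xX 3) * φ (xX 3) : G) = 2 ∧ (φ (xX 3) * φ (xX 3) : G) ∈ 𝐂[L] ∧
      𝐂[L] ≤ L ∧ L.relIndex (centralizer {(φ (xX 3) * φ (xX 3) : G)}) = 2 := by
  rcases c.rr with rfl | rfl
  · obtain ⟨θ3, t3, m3⟩ := mod430 c hτ hσ
    obtain ⟨θ4, t4, m4⟩ := mod440 c hτ hσ
    obtain ⟨θ5, t5, m5⟩ := mod450 c hτ hσ
    have h : Dat L _ (φ (xX 3)) (φ (xX 0)) (AK θ3) (AK θ4) (AK θ5) :=
      ⟨hL, (φ _).2, m5.iK, m5.ord, rfl, m5.cen, (φ _).2, by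
        rw [← m5.E2.2, ← (m5.Emul m5.E2.1 m5.E2.1).2, ← m5.Eone (m5.Emul m5.E2.1 m5.E2.1).1]; decide +kernel,
        by rw [← m5.E2.2, ← m5.Ez m5.E2.1]; decide +kernel, fun n hn => (c.tri hτ hσ hF hn).imp_right (by
          rintro ⟨j, rfl | rfl | rfl, e⟩
          exacts [Or.inl (e t3), Or.inr (Or.inl (e t4)), Or.inr (Or.inr (e t5))]),
        AK.sq t3.inj t3.idx, AK.sq t4.inj t4.idx, AK.sq t5.inj t5.idx, AK.mul, m3.cc (by decide +kernel),
        m4.inv (by decide +kernel), m5.inv (by decide +kernel), m5.cls (by decide +kernel),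
        m5.exp (by decide +kernel), m5.sep (by decide +kernel), m5.exu, m5.zc (by decide +kernel),
        m5.e1 (by decide +kernel), m3.O1 (by decide +kernel), m4.F (by decide +kernel), m5.F (by decide +kernel)⟩
    have a4 : D440.admC [96, 97, 98, 99] [124, 125, 126, 127] = true := by decide +kernel
    have a5 : D450.admC [48, 49, 50, 51] [60, 61, 62, 63] = true := by decide +kernel
    refine ⟨h.ot, h.tK, h.main hG (Or.inr ⟨m3.O2 (by decide +kernel), m4.B4 (b := 8) (v := 96) (w := 40) a4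
      (by decide +kernel) ⟨by decide, by decide +kernel⟩ ⟨by decide, by decide +kernel⟩ (by decide +kernel),
      fun n l l' h1 h2 h3 h4 h5 h6 => ?_, fun n l l' h1 h2 h3 h4 h5 h6 => ?_, m5.B3 (by decide +kernel)⟩)⟩
    · obtain ⟨a, e1, e2⟩ := m4.B12 (f := fun a => D440.z (D440.mu a a)) a4 (by decide +kernel) h1 h2 h3 h4 h5 h6
      exact inv_mem_iff.1 ((mul_mem_cancel_right ((m4.Ez (m4.Esq e1).1).1 e2)).1 (m4.Esq e1).2)
    · obtain ⟨a, -, e⟩ := m5.B12 (f := fun _ => false) a5 (by decide +kernel) h1 h2 h3 h4 h5 h6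
      exact absurd e (by decide)
  · obtain ⟨θ3, t3, m3⟩ := mod330 c hτ hσ
    obtain ⟨θ4, t4, m4⟩ := mod340 c hτ hσ
    obtain ⟨θ5, t5, m5⟩ := mod350 c hτ hσ
    have h : Dat L _ (φ (xX 3)) (φ (xX 0)) (AK θ4) (AK θ3) (AK θ5) :=
      ⟨hL, (φ _).2, m5.iK, m5.ord, rfl, m5.cen, (φ _).2, by
        rw [← m5.E2.2, ← (m5.Emul m5.E2.1 m5.E2.1).2, ← m5.Eone (m5.Emul m5.E2.1 m5.E2.1).1]; decide +kernel,
        by rw [← m5.E2.2, ← m5.Ez m5.E2.1]; decide +kernel, fun n hn => (c.tri hτ hσ hF hn).imp_right (by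
          rintro ⟨j, rfl | rfl | rfl, e⟩
          exacts [Or.inr (Or.inl (e t3)), Or.inl (e t4), Or.inr (Or.inr (e t5))]),
        AK.sq t4.inj t4.idx, AK.sq t3.inj t3.idx, AK.sq t5.inj t5.idx, AK.mul, m4.cc (by decide +kernel),
        m3.inv (by decide +kernel), m5.inv (by decide +kernel), m5.cls (by decide +kernel),
        m5.exp (by decide +kernel), m5.sep (by decide +kernel), m5.exu, m5.zc (by decide +kernel),
        m5.e1 (by decide +kernel), m4.O1 (by decide +kernel), m3.F (by decide +kernel), m5.F (by decide +kernel)⟩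
    exact ⟨h.ot, h.tK, h.main hG (Or.inl (m5.bad (by decide +kernel)))⟩

end Cfsg.Agent.Std.ON
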