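import Mathlib
import Cfsg.Agent.Std.OnA
import Cfsg.Agent.Comp.Cent

/-! Standard subgroups `2.O₈⁺(2)`: actions on roots and models. -/

set_option autoImplicit false

namespace Cfsg.Agent.Std.O8

open Cfsg Subgroup PLocal PLocal.Amb ON

variable {M Ω : Type*} [Group M] [MulAction M Ω] {ν : M}

/-- The roots negated by `w`. -/
def Ng (Ω : Type*) [MulAction M Ω] (ν w : M) : Set Ω := {v | w • v = ν • v ∧ ν • v ≠ v}

theorem card_dvd (H : Subgroup M) {S : Set Ω} (h1 : ∀ h ∈ H, ∀ v ∈ S, h • v ∈ S)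
    (h2 : ∀ h ∈ H, ∀ v ∈ S, h • v = v → h = 1) : Nat.card H ∣ S.ncard := by
  let T : SubMulAction H Ω := ⟨S, fun h v hv => h1 h h.2 v hv⟩
  have := Nat.card_congr (MulAction.selfEquivOrbitsQuotientProd (G := H) (X := T) fun v =>
    eq_bot_iff.2 fun h e => Subtype.ext (h2 h h.2 v v.2 (congrArg Subtype.val e)))
  rw [Nat.card_prod] at this
  exact Dvd.intro_left _ this.symm

theorem dvd16 (hc : ∀ w, Commute w ν) (hν : ν * ν = 1) {S : Set Ω} {P Q X : M} (hP : P * P = ν)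
    (hQ : Q * Q = ν) (hPQ : P * Q = Q * P * ν) (hX : X * X = 1) (h1 : Commute X P) (h2 : Commute X Q)
    (h3 : ∀ v ∈ S, P • v ∈ S ∧ Q • v ∈ S ∧ X • v ∈ S ∧ ν • v ≠ v ∧ X • v ≠ v ∧ X • v ≠ ν • v)
    (hS : S.Finite) : 16 ∣ S.ncard := by
  rcases S.eq_empty_or_nonempty with rfl | ⟨v, hv⟩
  · simp
  have n1 : ν ≠ 1 := fun e => (h3 v hv).2.2.2.1 (by rw [e, one_smul])
  have m0 := fun x => mem_zpowers_two hν (x := x)
  have a1 : ∀ a ∈ zpowers ν, P * a * P⁻¹ ∈ zpowers ν := fun a ha => by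
    rcases (m0 a).1 ha with rfl | rfl <;> simp [(hc P).eq]
  have b1 : P * P ∈ zpowers ν := hP ▸ mem_zpowers ν
  have m1 : ∀ x ∈ zpowers ν ⊔ zpowers P, (x = 1 ∨ x = ν ∨ x * x = ν) ∧ Commute x P ∧ Commute x X ∧
      (x = 1 ∨ x = ν ∨ x * Q = Q * x * ν) := fun x hx => by
    have e1 : P⁻¹ = P * ν := by rw [inv_eq_iff_mul_eq_one, ← mul_assoc, hP, hν]
    rw [Comp.mem_adjoin a1 b1, m0, m0, ← eq_mul_inv_iff_mul_eq, ← eq_mul_inv_iff_mul_eq, one_mul, e1,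
      ← mul_assoc, ← (hc P).eq, mul_assoc, hν, mul_one] at hx
    rcases hx with (rfl | rfl) | rfl | rfl
    · simp
    · simp [(hc P).symm, (hc X).symm]
    · refine ⟨Or.inr (Or.inr ?_), (Commute.refl P).mul_left (hc P).symm, h1.symm.mul_left (hc X).symm,
        Or.inr (Or.inr ?_)⟩
      · rw [(hc P).symm.mul_mul_mul_comm, hP, hν, mul_one]
      · rw [mul_assoc, ← (hc Q).eq, ← mul_assoc, hPQ, mul_assoc Q P, mul_assoc Q]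
    · exact ⟨Or.inr (Or.inr hP), Commute.refl _, h1.symm, Or.inr (Or.inr hPQ)⟩
  have a2 : ∀ a ∈ zpowers ν ⊔ zpowers P, Q * a * Q⁻¹ ∈ zpowers ν ⊔ zpowers P := fun a ha => by
    rcases (m1 a ha).2.2.2 with rfl | rfl | e
    · simp
    · simpa [(hc Q).eq] using ha
    · rw [show Q * a * Q⁻¹ = a * ν by
        rw [mul_inv_eq_iff_eq_mul, mul_assoc, ← (hc Q).eq, ← mul_assoc, e, mul_assoc, hν, mul_one]]
      exact mul_mem ha (mem_sup_left (mem_zpowers ν))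
  have b2 : Q * Q ∈ zpowers ν ⊔ zpowers P := by rw [hQ]; exact mem_sup_left (mem_zpowers ν)
  have m2 : ∀ x ∈ (zpowers ν ⊔ zpowers P) ⊔ zpowers Q, (x = 1 ∨ x = ν ∨ x * x = ν) ∧ Commute x X :=
    fun x hx => by
    rcases (Comp.mem_adjoin a2 b2).1 hx with c | c
    · exact ⟨(m1 x c).1, (m1 x c).2.2.1⟩
    obtain ⟨y, rfl⟩ : ∃ y, x = y * Q⁻¹ := ⟨x * Q, by simp⟩
    rw [inv_mul_cancel_right] at c
    refine ⟨Or.inr (Or.inr ?_), (m1 y c).2.2.1.mul_left h2.symm.inv_left⟩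
    have e1 : Q⁻¹ = Q * ν := by rw [inv_eq_iff_mul_eq_one, ← mul_assoc, hQ, hν]
    rw [e1, ← mul_assoc y Q, (hc _).symm.mul_mul_mul_comm, hν, mul_one]
    obtain ⟨d, -, -, rfl | rfl | e⟩ := m1 y c
    · simpa using hQ
    · rw [(hc Q).mul_mul_mul_comm, hν, hQ, one_mul]
    rcases d with rfl | rfl | d
    · simpa using hQ
    · rw [(hc Q).mul_mul_mul_comm, hν, hQ, one_mul]
    · nth_rewrite 1 [e]
      rw [mul_assoc, ← (hc _).eq, mul_assoc, ← mul_assoc y (y * Q), ← mul_assoc y y, d, ← (hc Q).eq,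
        mul_assoc Q ν, hν, mul_one, hQ]
  have a3 : ∀ a ∈ (zpowers ν ⊔ zpowers P) ⊔ zpowers Q, X * a * X⁻¹ ∈ (zpowers ν ⊔ zpowers P) ⊔ zpowers Q :=
    fun a ha => by rwa [← (m2 a ha).2.eq, mul_inv_cancel_right]
  have b3 : X * X ∈ (zpowers ν ⊔ zpowers P) ⊔ zpowers Q := hX ▸ one_mem _
  have fr : ∀ k : M, k * k = ν → ∀ u ∈ S, k • u ≠ u := fun k e u hu c =>
    (h3 u hu).2.2.2.1 (by rw [← e, mul_smul, c, c])
  have := card_dvd (((zpowers ν ⊔ zpowers P) ⊔ zpowers Q) ⊔ zpowers X) (S := S) (fun h hh => by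
    have hP := (MulAction.mem_stabilizer_set' hS).2 fun v hv => (h3 v hv).1
    exact (MulAction.mem_stabilizer_set' hS).1 (sup_le (sup_le (sup_le (zpowers_le.2 (‹P * P = ν› ▸ mul_mem hP hP))
      (zpowers_le.2 hP)) (zpowers_le.2 ((MulAction.mem_stabilizer_set' hS).2 fun v hv => (h3 v hv).2.1)))
      (zpowers_le.2 ((MulAction.mem_stabilizer_set' hS).2 fun v hv => (h3 v hv).2.2.1)) hh))
    fun h hh u hu e => by
      rcases (Comp.mem_adjoin a3 b3).1 hh with c | c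
      · rcases (m2 h c).1 with d | d | d
        exacts [d, absurd (d ▸ e) (h3 u hu).2.2.2.1, absurd e (fr h d u hu)]
      obtain ⟨k, rfl⟩ : ∃ k, h = k * X := ⟨h * X, by rw [mul_assoc, hX, mul_one]⟩
      rw [mul_assoc, hX, mul_one] at c
      obtain ⟨rfl | rfl | d, d'⟩ := m2 k c
      · exact absurd (by simpa using e) (h3 u hu).2.2.2.2.1
      · refine absurd ?_ (h3 u hu).2.2.2.2.2
        nth_rewrite 2 [← e]
        rw [← mul_smul, ← mul_assoc, hν, one_mul]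
      · exact absurd e (fr _ (by rw [d'.symm.mul_mul_mul_comm, d, hX, mul_one]) u hu)
  rwa [Comp.card_adjoin a3 b3 (fun c => by
    rcases (m2 X c).1 with d | d | d
    exacts [(h3 v hv).2.2.2.2.1 (by rw [d, one_smul]), (h3 v hv).2.2.2.2.2 (by rw [d]), n1 (d.symm.trans hX)]),
    Comp.card_adjoin a2 b2 (fun c => n1 (by simpa [← (m1 Q c).2.1.eq] using hPQ)),
    Comp.card_adjoin a1 b1 (fun c => n1 (by rcases (m0 P).1 c with d | d <;> rw [← hP, d] <;> simp [hν])),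
    Nat.card_zpowers, orderOf_eq_prime (p := 2) (by rwa [pow_two]) n1] at this

theorem Ng.smul (hc : ∀ w, Commute w ν) {w u : M} (h : Commute w u) {v : Ω} (hv : v ∈ Ng Ω ν u) :
    w • v ∈ Ng Ω ν u :=
  ⟨by rw [← mul_smul, ← h.eq, mul_smul, hv.1, ← mul_smul, (hc w).eq, mul_smul], fun e => hv.2 (by
    rwa [← mul_smul, ← (hc w).eq, mul_smul, smul_left_cancel_iff] at e)⟩

theorem Ng.conj (hc : ∀ w, Commute w ν) (g u : M) : Ng Ω ν (g * u * g⁻¹) = (g • ·) '' Ng Ω ν u := by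
  ext v
  obtain ⟨v, rfl⟩ := MulAction.surjective g v
  simp only [Ng, Set.mem_ofPred_eq, (MulAction.injective g).mem_set_image, ← mul_smul, inv_mul_cancel_right,
    ← (hc g).eq]
  simp [mul_smul]

theorem Ng.card_conj (hc : ∀ w, Commute w ν) (g u : M) :
    (Ng Ω ν (g * u * g⁻¹)).ncard = (Ng Ω ν u).ncard := by
  rw [Ng.conj hc, Set.ncard_image_of_injective _ (MulAction.injective g)]

theorem fix5 (hc : ∀ w, Commute w ν) (hν : ν * ν = 1) {w u : M} (h5 : w ^ 5 = 1) (h : Commute w u)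
    (hf : (Ng Ω ν u).Finite) (hn : (Ng Ω ν u).ncard < 10) {v : Ω} (hv : v ∈ Ng Ω ν u) : w • v = v := by
  have h1 : (ν * w) ^ 10 = 1 := by
    rw [(hc w).symm.mul_pow, show 10 = 2 * 5 from rfl, pow_mul, pow_two, hν, mul_comm 2, pow_mul, h5]; simp
  have h2 := Function.IsPeriodicPt.minimalPeriod_dvd (f := ((ν * w) • ·)) (n := 10) (x := v)
    (by rw [Function.IsPeriodicPt, smul_iterate, h1]; exact one_smul M v)
  have h3 : Function.minimalPeriod ((ν * w) • ·) v ≤ (Ng Ω ν u).ncard := by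
    simpa using Set.ncard_le_ncard_of_injOn (s := Set.Iio (Function.minimalPeriod ((ν * w) • ·) v))
      (fun n => ((ν * w) • ·)^[n] v) (fun n _ => by
        rw [smul_iterate]; exact Ng.smul hc (((hc u).symm.mul_left h).pow_left n) hv)
      Function.iterate_injOn_Iio_minimalPeriod hf
  have h4 : Function.minimalPeriod ((ν * w) • ·) v ∣ 2 ∨ Function.minimalPeriod ((ν * w) • ·) v ∣ 5 := by
    generalize Function.minimalPeriod ((ν * w) • ·) v = m at *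
    have : m < 10 := by omega
    interval_cases m <;> simp_all
  simp only [← Function.isPeriodicPt_iff_minimalPeriod_dvd, Function.IsPeriodicPt, Function.IsFixedPt,
    smul_iterate, (hc w).symm.mul_pow, h5] at h4
  rcases h4 with e | e
  · rw [pow_two, hν, one_mul] at e
    calc w • v = w • w ^ 2 • w ^ 2 • v := by rw [e, e]
      _ = v := by rw [← mul_smul, ← mul_smul, ← pow_succ', ← pow_add, h5, one_smul]
  · simp only [pow_succ, hν, pow_zero, mul_one, one_mul] at e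
    exact absurd e hv.2

/-- products of elements of odd order centralizing `u` -/
def Od (n : ℕ) (u : M) : Subgroup M := closure {f | f ^ n = 1 ∧ Commute f u}

theorem Od.comm {n : ℕ} {u x : M} (h : x ∈ Od n u) : Commute x u :=
  mem_centralizer_singleton_iff.1 ((closure_le _).2 (fun _ h => mem_centralizer_singleton_iff.2 h.2) h)

/-- Facts about the Weyl group of type `E₈`. -/
structure Fa (E : Subgroup M) (ν j : M) (ρ : ℕ → M) (r : ℕ → Ω) : Prop where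
  idx : E.index = 2
  νE : ν ∈ E
  cν : ∀ w, Commute w ν
  νν : ν * ν = 1
  fin : {v : Ω | ν • v ≠ v}.Finite
  cen : ∀ w, (∀ x ∈ E, Commute w x) → w = 1 ∨ w = ν
  cls : ∀ w, w * w = 1 ∨ w * w = ν → w = 1 ∨ w = ν ∨ ∃ g, ∃ u ∈ [ρ 1 * ρ 2, ρ 1 * ρ 2 * ρ 3 * ρ 4,
    ρ 1 * ρ 2 * ρ 3 * ρ 5, j, ρ 1, ρ 1 * ρ 2 * ρ 3], w = g * u * g⁻¹ ∨ w = ν * (g * u * g⁻¹)
  rf : ∀ i < 9, ∃ l ∈ E, l • r 1 = r i ∧ l * ρ 1 * l⁻¹ = ρ i
  ρE : ρ 1 ∉ E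
  ρρ : ρ 1 * ρ 1 = 1
  jE : j ∈ E
  jj : j * j = ν
  N1 : Ng Ω ν (ρ 1) = {r 1, ν • r 1}
  st : ∀ w : M, w • r 1 = r 1 → Commute w (ρ 1)
  cnt : (Ng Ω ν (ρ 1 * ρ 2)).ncard = 4 ∧ (Ng Ω ν (ν * (ρ 1 * ρ 2))).ncard = 60 ∧
    (Ng Ω ν (ρ 1 * ρ 2 * ρ 3 * ρ 4)).ncard = 24 ∧ (Ng Ω ν (ρ 1 * ρ 2 * ρ 3 * ρ 5)).ncard = 8 ∧
    (Ng Ω ν (ρ 1 * ρ 2 * ρ 3)).ncard = 6 ∧ (Ng Ω ν (ν * ρ 1)).ncard = 126
  nb : ∃ g, g * (ρ 1 * ρ 2 * ρ 3 * ρ 4) * g⁻¹ = ν * (ρ 1 * ρ 2 * ρ 3 * ρ 4)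
  nc : ∃ g ∈ E, g * (ρ 1 * ρ 2 * ρ 3 * ρ 5) * g⁻¹ = ν * (ρ 1 * ρ 2 * ρ 3 * ρ 5)
  fB : ∀ b, b = ρ 1 * ρ 2 * ρ 3 * ρ 4 → ∃ P ∈ Od 3 b, ∃ Q ∈ Od 3 b, ∃ X ∈ Od 3 b, ∃ Y ∈ Od 3 b, P * P = b ∧
    Q * Q = b ∧ P * Q = Q * P * b ∧ X * X = 1 ∧ Y * Y = 1 ∧ X * Y = Y * X * (ν * b) ∧ Commute X P ∧
    Commute X Q ∧ Commute Y P ∧ Commute Y Q
  fJ : j ∈ Od 5 j ∧ ν ∈ Od 5 j
  fa : ∀ a, a = ρ 1 * ρ 2 → ν * a ∈ Od 5 a ∧ ∃ x ∈ Od 3 a, x * x = 1 ∧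
    (∃ y ∈ Od 3 a, ∃ v ∈ Ng Ω ν x, y * y = 1 ∧ y • v = v ∧ a • v = v ∧
      ∀ u ∈ Ng Ω ν x, y • u = u → u = v ∨ u = ν • v) ∧
    ∃ g ∈ E, ∃ g' ∈ E, ∃ y f f' m, y = g * a * g⁻¹ ∧ y * a = g' * a * g'⁻¹ ∧ Commute y a ∧ y ≠ a ∧
      f ^ 5 = 1 ∧ Commute f a ∧ Commute f y ∧ ¬ Commute x f ∧ f' ^ 5 = 1 ∧ Commute f' a ∧
      m = y * f' * y⁻¹ * f'⁻¹ ∧ m * m = 1 ∧ m ≠ 1 ∧ m ≠ a
  fC : ∀ c, c = ρ 1 * ρ 2 * ρ 3 * ρ 5 → ∃ x ∈ Od 3 c, x * x = 1 ∧ x ≠ 1 ∧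
    (∃ g, x = g * (ρ 1 * ρ 2 * ρ 3 * ρ 4) * g⁻¹) ∧ ∃ g ∈ E, x * c = g * c * g⁻¹
  fT : ∃ m m', ∀ x ∈ [m, m', m * m'], x ≠ 1 ∧ Commute x (ρ 1 * ρ 2 * ρ 3) ∧
    ∃ l ∈ E, l * (ρ 1 * ρ 2 * ρ 3) * l⁻¹ * (ρ 1 * ρ 2 * ρ 3)⁻¹ = x
  bC : ∀ w : M, w • r 1 = r 1 → w • r 2 = r 2 → w • r 3 = r 3 → w • r 4 = r 4 → w • r 5 = r 5 →
    w • r 6 = r 6 → w • r 7 = r 7 → w • r 8 = r 8 → w = 1
  ch2 : ∀ v : Ω, ν • v ≠ v → ρ 1 • v = v → ∃ h : M, h • r 1 = r 1 ∧ h • r 2 = v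
  ch3 : ∀ v : Ω, ν • v ≠ v → ρ 1 • v = v → ρ 2 • v = v → ∃ h : M, h • r 1 = r 1 ∧ h • r 2 = r 2 ∧ h • r 3 = v
  st3 : ∀ w : M, w ^ 5 = 1 → w • r 1 = r 1 → w • r 2 = r 2 → w • r 3 = r 3 → w = 1
  fx : ∀ v : Ω, (ρ 1 * ρ 2) • v = v → ρ 1 • v = v ∧ ρ 2 • v = v
  ort : ∀ i k, 0 < i ∧ i < 9 ∧ 0 < k ∧ k < 9 ∧ i ≠ k → ρ i • r k = r k
  geo1 : ∀ v : Ω, ν • v ≠ v → ρ 1 • v = v → ρ 2 • v = v → ρ 3 • v = v →
    v = r 4 ∨ v = ν • r 4 ∨ ρ 4 • v = v ∧ ρ 0 • v = v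
  geo2 : ∀ v : Ω, ρ 4 • v = v ∨ ρ 4 • v = ν • v → ρ 1 • v = v ∨ ρ 2 • v = v ∨ ρ 3 • v = v
  br : ¬ Commute (ρ 0) (ρ 1) ∧ ¬ Commute (ρ 0) (ρ 2) ∧ ¬ Commute (ρ 0) (ρ 3)

variable {G : Type*} [Group G]

/-- `Δ` is the graph of an isomorphism from the component of `C(t)` onto `E`. -/
structure St (E : Subgroup M) (ν : M) (Δ : Subgroup (G × M)) (t : G) : Prop where
  inj1 : ∀ g, (g, 1) ∈ Δ → g = 1
  inj2 : ∀ x, (1, x) ∈ Δ → x = 1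
  ex : ∀ x ∈ E, ∃ g, (g, x) ∈ Δ
  mem : ∀ g x, (g, x) ∈ Δ → x ∈ E
  tν : (t, ν) ∈ Δ
  act : ∀ n, Commute n t → ∃ w, (n, w) ∈ 𝐍[Δ]
  inv : ∀ k, (k, 1) ∈ 𝐍[Δ] → k * k = 1 → k = 1 ∨ k = t
  odd : ∀ k k', (k, 1) ∈ 𝐍[Δ] → (k', 1) ∈ 𝐍[Δ] → Odd (orderOf k) → Odd (orderOf k') →
    Odd (orderOf (k * k'))

variable {E : Subgroup M} {j : M} {ρ : ℕ → M} {r : ℕ → Ω} {Δ Γ : Subgroup (G × M)} {t s : G}

namespace St

theorem conj (h : St E ν Δ t) (F : Fa E ν j ρ r) (a : G) (g : M) :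
    St E ν cj((a, g), Δ) (a * t * a⁻¹) := by
  have := normal_of_index_eq_two F.idx
  refine ⟨fun x e => ?_, fun x e => ?_, fun x hx => ?_, fun y x e => ?_, ?_, fun n e => ?_, fun k e e' => ?_,
    fun k k' e e' o o' => ?_⟩
  · simpa [mul_assoc, inv_mul_eq_one] using h.inj1 (a⁻¹ * x * a) (by simpa using mem_cj.1 e)
  · simpa [mul_assoc, inv_mul_eq_one] using h.inj2 (g⁻¹ * x * g) (by simpa using mem_cj.1 e)
  · obtain ⟨y, e⟩ := h.ex _ (this.conj_mem' x hx g)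
    exact ⟨a * y * a⁻¹, mem_cj.2 (by simpa [mul_assoc] using e)⟩
  · simpa [mul_assoc] using this.conj_mem _ (h.mem _ _ (mem_cj.1 e)) g
  · simpa [(F.cν g).eq] using conj_mem_cj (a, g) h.tν
  · obtain ⟨w, e⟩ := h.act _ (comm_of_conj e)
    exact ⟨g * w * g⁻¹, by rw [normalizer_cj, mem_cj]; simpa [mul_assoc] using e⟩
  · rw [normalizer_cj] at e
    refine (h.inv (a⁻¹ * k * a⁻¹⁻¹) (by simpa using mem_cj.1 e) (by rw [conj_mul, e']; simp)).imp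
      conj_eq_one_iff.1 fun c => by rw [← c]; group
  · rw [normalizer_cj] at e e'
    rw [← orderOf_conj' a⁻¹] at o o' ⊢
    rw [← conj_mul]
    exact h.odd _ _ (by simpa using mem_cj.1 e) (by simpa using mem_cj.1 e') o o'

theorem tw (h : St E ν Δ t) (F : Fa E ν j ρ r) (g : M) : ∃ Γ, St E ν Γ t ∧
    (∀ y x, (y, x) ∈ Γ ↔ (y, g * x * g⁻¹) ∈ Δ) ∧ ∀ y x, (y, x) ∈ 𝐍[Γ] ↔ (y, g * x * g⁻¹) ∈ 𝐍[Δ] :=
  ⟨cj((1, g⁻¹), Δ), by simpa only [one_mul, inv_one, mul_one] using h.conj F 1 g⁻¹,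
    fun y x => by rw [mem_cj]; simp, fun y x => by rw [normalizer_cj, mem_cj]; simp⟩

variable (h : St E ν Δ t)
include h

theorem eq1 {g g' : G} {x : M} (e : (g, x) ∈ Δ) (e' : (g', x) ∈ Δ) : g = g' :=
  mul_inv_eq_one.1 (h.inj1 _ (by simpa using mul_mem e (inv_mem e')))

theorem eq2 {g : G} {x x' : M} (e : (g, x) ∈ Δ) (e' : (g, x') ∈ Δ) : x = x' :=
  mul_inv_eq_one.1 (h.inj2 _ (by simpa using mul_mem e (inv_mem e')))

theorem iff {g g' : G} {x x' : M} (e : (g, x) ∈ Δ) (e' : (g', x') ∈ Δ) : g = g' ↔ x = x' :=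
  ⟨fun c => h.eq2 e (c ▸ e'), fun c => h.eq1 e (c ▸ e')⟩

theorem comm {n g : G} {w x : M} (e : (n, w) ∈ 𝐍[Δ]) (e' : (g, x) ∈ Δ) : Commute n g ↔ Commute w x := by
  rw [commute_iff_eq, commute_iff_eq, ← mul_inv_eq_iff_eq_mul, ← mul_inv_eq_iff_eq_mul]
  exact h.iff (conj_mem_of_mem_normalizer e e') e'

theorem cent {k g : G} {x : M} (e : (k, 1) ∈ 𝐍[Δ]) (e' : (g, x) ∈ Δ) : Commute k g :=
  (h.comm e e').2 (Commute.one_left x)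

theorem cjs {g m : G} {l w : M} (e : (s, w) ∈ 𝐍[Δ]) (e' : (g, l) ∈ Δ) (e'' : (m, l * w * l⁻¹ * w⁻¹) ∈ Δ) :
    g * s * g⁻¹ = m * s := by
  rw [← h.eq1 (g := g * s * g⁻¹ * s⁻¹) (by
    simpa [mul_assoc] using mul_mem e' (conj_mem_of_mem_normalizer e (inv_mem e'))) e'']
  simp

variable (F : Fa E ν j ρ r)
include F

theorem tt : t * t = 1 := h.inj1 _ (F.νν ▸ mul_mem h.tν h.tν)

theorem ct {n : G} {w : M} (e : (n, w) ∈ 𝐍[Δ]) : Commute n t := (h.comm e h.tν).2 (F.cν w)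

omit h in
theorem nν : (1, ν) ∈ 𝐍[Δ] := centralizer_le_normalizer' Δ fun x _ => Prod.ext (by simp) (F.cν x.2)

omit h in
theorem neg {n : G} {w : M} (e : (n, w) ∈ 𝐍[Δ]) : (n, ν * w) ∈ 𝐍[Δ] := by simpa using mul_mem (nν F) e

theorem uniq1 {w : M} (e : (1, w) ∈ 𝐍[Δ]) : w = 1 ∨ w = ν := F.cen w fun x hx =>
  (h.ex x hx).elim fun g c => (h.comm e c).1 (Commute.one_left g)

theorem uniq {n : G} {w w' : M} (e : (n, w) ∈ 𝐍[Δ]) (e' : (n, w') ∈ 𝐍[Δ]) : w' = w ∨ w' = ν * w := by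
  simpa [mul_inv_eq_iff_eq_mul] using h.uniq1 F (w := w' * w⁻¹) (by simpa using mul_mem e' (inv_mem e))

theorem par {n : G} {w w' : M} (e : (n, w) ∈ 𝐍[Δ]) (e' : (n, w') ∈ 𝐍[Δ]) : w' ∈ E ↔ w ∈ E := by
  rcases h.uniq F e e' with rfl | rfl
  exacts [Iff.rfl, mul_mem_cancel_left F.νE]

omit F in
theorem inner {w : M} (e : (s, w) ∈ 𝐍[Δ]) (h1 : w ∈ E) (h2 : w * w = 1) (h3 : s * s = 1) :
    (s, w) ∈ Δ ∨ (s, ν * w) ∈ Δ := by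
  obtain ⟨g, c⟩ := h.ex w h1
  obtain ⟨k, rfl⟩ : ∃ k, s = k * g := ⟨s * g⁻¹, by simp⟩
  have e1 : (k, 1) ∈ 𝐍[Δ] := by simpa using mul_mem e (inv_mem (le_normalizer c))
  rw [(h.cent e1 c).symm.mul_mul_mul_comm, h.inj1 (g * g) (h2 ▸ mul_mem c c), mul_one] at h3
  rcases h.inv k e1 h3 with rfl | rfl
  exacts [Or.inl (by simpa using c), Or.inr (mul_mem h.tν c)]

theorem ty (h1 : s * s = 1) (h2 : s ≠ 1) (h3 : s ≠ t) (h4 : Commute s t) : ∃ g, ∃ u ∈ [ρ 1 * ρ 2,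
    ρ 1 * ρ 2 * ρ 3 * ρ 4, ρ 1 * ρ 2 * ρ 3 * ρ 5, j, ρ 1, ρ 1 * ρ 2 * ρ 3], (s, g * u * g⁻¹) ∈ 𝐍[Δ] := by
  obtain ⟨w, e⟩ := h.act s h4
  have c : ∀ w, (s, w) ∈ 𝐍[Δ] → w ≠ 1 := fun w e c => (h.inv s (c ▸ e) h1).elim h2 h3
  rcases F.cls w (h.uniq1 F (h1 ▸ mul_mem e e)) with d | d | ⟨g, u, hu, rfl | rfl⟩
  · exact absurd d (c w e)
  · exact absurd (by rw [d, F.νν]) (c _ (neg F e))
  · exact ⟨g, u, hu, e⟩
  · exact ⟨g, u, hu, by simpa [← mul_assoc, F.νν] using neg F e⟩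

omit F in
/-- projection of `O²(C(t))` to the component -/
def Dc : Subgroup (G × M) where
  carrier := {p | ∃ o, (o, 1) ∈ 𝐍[Δ] ∧ Odd (orderOf o) ∧ (p.1 * o, p.2) ∈ Δ}
  one_mem' := ⟨1, one_mem _, by simp, by rw [mul_one]; exact one_mem Δ⟩
  mul_mem' := fun {p q} ⟨o, a, b, c⟩ ⟨o', a', b', c'⟩ => ⟨o' * o, by simpa using mul_mem a' a,
    h.odd _ _ a' a b' b, by
      have := mul_mem c c'
      rwa [Prod.mk_mul_mk, mul_assoc, (h.cent a c').eq, ← mul_assoc, ← mul_assoc, mul_assoc _ o'] at this⟩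
  inv_mem' := fun {p} ⟨o, a, b, c⟩ => ⟨o⁻¹, by simpa using inv_mem a, by simpa using b, by
    have := inv_mem c
    rwa [← (show o * p.1 = p.1 * o by simpa [← mul_assoc] using (h.cent a c).eq), Prod.inv_mk,
      mul_inv_rev] at this⟩

omit F in
theorem Dc_le : h.Dc ≤ 𝐍[Δ] := fun p ⟨o, a, _, c⟩ => by simpa using mul_mem (le_normalizer c) (inv_mem a)

theorem Dc_odd {f : G} {n : ℕ} (hn : Odd n) (h1 : f ^ n = 1) (h2 : Commute f t) :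
    ∃ w, (f, w) ∈ h.Dc ∧ w ^ n = 1 := by
  obtain ⟨w, e⟩ := h.act f h2
  obtain ⟨m, hm⟩ := hn.add_one
  have e1 : (f, w ^ (n + 1)) ∈ 𝐍[Δ] := by simpa [pow_succ f, h1] using pow_mem e (n + 1)
  have e2 : (w ^ (n + 1)) ^ n = 1 := by
    rw [← pow_mul, mul_comm, pow_mul, hm, pow_add, ← (Commute.refl _).mul_pow]
    rcases h.uniq1 F (w := w ^ n) (by simpa [h1] using pow_mem e n) with c | c <;> simp [c, F.νν]
  obtain ⟨l, c⟩ := h.ex (w ^ (n + 1)) (by rw [hm, pow_add]; exact mul_self_mem_of_index_two F.idx _)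
  obtain ⟨o, rfl⟩ : ∃ o, l = f * o := ⟨f⁻¹ * l, by simp⟩
  have e3 : (o, 1) ∈ 𝐍[Δ] := by simpa using mul_mem (inv_mem e1) (le_normalizer c)
  refine ⟨_, ⟨o, e3, hn.of_dvd_nat (orderOf_dvd_of_pow_eq_one ?_), c⟩, e2⟩
  have := h.inj1 ((f * o) ^ n) (by simpa only [Prod.pow_mk, e2] using pow_mem c n)
  rwa [(show Commute f o by simpa [commute_iff_eq, ← mul_assoc, eq_comm] using (h.cent e3 c).eq).mul_pow,
    h1, one_mul] at this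

theorem Dc_two {g : G} {w : M} (e : (g, w) ∈ h.Dc) (h1 : g ^ 4 = 1) : (g, w) ∈ Δ := by
  have e1 : w ^ 8 = 1 := by
    rw [show 8 = 4 + 4 from rfl, pow_add]
    rcases h.uniq1 F (w := w ^ 4) (by simpa [h1] using pow_mem (h.Dc_le e) 4) with c | c <;> simp [c, F.νν]
  obtain ⟨o, a, b, c⟩ := e
  have := h.inj1 ((g * o) ^ 8) (by simpa only [Prod.pow_mk, e1] using pow_mem c 8)
  rw [(show Commute g o by simpa [commute_iff_eq, ← mul_assoc, eq_comm] using (h.cent a c).eq).mul_pow,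
    show 8 = 4 * 2 from rfl, pow_mul, h1, one_pow, one_mul] at this
  rwa [orderOf_eq_one_iff.1 (((Nat.coprime_two_right.2 b).pow_right 3).eq_one_of_dvd
    (orderOf_dvd_of_pow_eq_one this)), mul_one] at c

end St

end Cfsg.Agent.Std.O8
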