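import Mathlib
import Cfsg.Agent.Std.O8A

/-! Standard subgroups `2.O₈⁺(2)`: inner involutions. -/

set_option autoImplicit false

namespace Cfsg.Agent.Std.O8

open Cfsg Subgroup PLocal PLocal.Amb ON

variable {M Ω : Type*} [Group M] [MulAction M Ω] {ν : M} {G : Type*} [Group G] {E : Subgroup M} {j : M}
  {ρ : ℕ → M} {r : ℕ → Ω} {Δ Γ : Subgroup (G × M)} {t s z : G}

local notation "𝐚" => ρ 1 * ρ 2
local notation "𝐛" => ρ 1 * ρ 2 * ρ 3 * ρ 4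
local notation "𝐜" => ρ 1 * ρ 2 * ρ 3 * ρ 5
local notation "𝐝" => ρ 1 * ρ 2 * ρ 3

/-- `w` is the reflection in `v` -/
def Rf (ρ : ℕ → M) (r : ℕ → Ω) (w : M) (v : Ω) : Prop := ∃ g : M, g • r 1 = v ∧ g * ρ 1 * g⁻¹ = w

namespace Fa

variable (F : Fa E ν j ρ r)
include F

theorem νs (g : M) (v : Ω) : g • ν • v = ν • g • v := by rw [← mul_smul, (F.cν g).eq, mul_smul]

theorem νν' (v : Ω) : ν • ν • v = v := by rw [← mul_smul, F.νν, one_smul]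

theorem fin' (u : M) : (Ng Ω ν u).Finite := F.fin.subset fun _ h => h.2

theorem rfl' (i : ℕ) (h : i < 9 := by decide) : Rf ρ r (ρ i) (r i) := (F.rf i h).imp fun _ c => c.2

variable {w w' g : M} {v v' : Ω}

theorem ng (h : Rf ρ r w v) : Ng Ω ν w = {v, ν • v} := by
  obtain ⟨g, rfl, rfl⟩ := h
  rw [Ng.conj F.cν, F.N1, Set.image_pair, F.νs]

theorem neg (h : Rf ρ r w v) : w • v = ν • v ∧ ν • v ≠ v := (F.ng h).ge (Or.inl rfl)

theorem nr (i : ℕ) (h : i < 9 := by decide) : ν • r i ≠ r i := (F.neg (F.rfl' i h)).2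

theorem ρr (i : ℕ) (h : i < 9 := by decide) : ρ i • r i = ν • r i := (F.neg (F.rfl' i h)).1

theorem a1 : 𝐚 ≠ 1 := fun c => F.nr 1 (by decide) (by simpa [mul_smul, F.ort, F.ρr 1] using congrArg (· • r 1) c)

theorem aν : 𝐚 ≠ ν := fun c => F.nr 3 (by decide) (by simpa [mul_smul, F.ort, eq_comm] using congrArg (· • r 3) c)

theorem oddE {n : ℕ} (hn : Odd n) (h : w ^ n = 1) : w ∈ E := by
  obtain ⟨m, hm⟩ := hn.add_one
  rw [← one_mul w, ← h, ← pow_succ, hm, pow_add]; exact mul_self_mem_of_index_two F.idx _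

theorem ν1 : ν ≠ 1 := fun e => (F.neg (F.rfl' 1)).2 (by rw [e, one_smul])

theorem pm (h : Rf ρ r w v) (e : Commute g w) : g • v = v ∨ g • v = ν • v :=
  (F.ng h).le (Ng.smul F.cν e (F.neg h))

theorem st' (h : Rf ρ r w v) (e : g • v = v ∨ g • v = ν • v) : Commute g w := by
  obtain ⟨k, rfl, rfl⟩ := h
  refine comm_to_conj ?_
  rcases e with e | e
  · exact F.st _ (by simp [mul_smul, e])
  · simpa [← mul_assoc, F.νν] using (F.cν _).symm.mul_left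
      (F.st (ν * (k⁻¹ * g * k⁻¹⁻¹)) (by simp [mul_smul, e, F.νs, F.νν']))

theorem un (h : Rf ρ r w v) (h' : Rf ρ r w' v') (e : v' = v ∨ v' = ν • v) : w' = w := by
  obtain ⟨k, c, rfl⟩ := h'
  obtain ⟨l, d, d'⟩ := id h
  have := F.st' (g := k * l⁻¹) h (by rwa [← d, mul_smul, inv_smul_smul, c, d])
  calc k * ρ 1 * k⁻¹ = k * l⁻¹ * w * (k * l⁻¹)⁻¹ := by rw [← d']; group
    _ = w := by rw [this.eq, mul_inv_cancel_right]

theorem nn (h : Rf ρ r w v) : g * w * g⁻¹ ≠ ν * w := fun e => by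
  have h1 := Ng.card_conj (Ω := Ω) F.cν g w
  have h2 := Set.ncard_pair (F.neg h).2.symm
  obtain ⟨k, -, c⟩ := id h
  have h3 := Ng.card_conj (Ω := Ω) F.cν k (ν * ρ 1)
  rw [← mul_assoc, (F.cν k).eq, mul_assoc ν, mul_assoc ν, c, F.cnt.2.2.2.2.2, ← e, h1, F.ng h] at h3
  omega

theorem out (h : Rf ρ r w v) : w ∉ E := fun e => by
  obtain ⟨k, -, rfl⟩ := h
  exact F.ρE (by simpa [mul_assoc] using (normal_of_index_eq_two F.idx).conj_mem' _ e k)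

theorem sq (h : Rf ρ r w v) : w * w = 1 := by
  obtain ⟨k, -, rfl⟩ := h
  rw [conj_mul, F.ρρ]; simp

theorem orth (h : Rf ρ r w v) (h' : Rf ρ r w' v') (e : w' • v = v) : w • v' = v' :=
  (F.pm h' (F.st' h (Or.inl e)).symm).resolve_right fun c => (F.neg h).2 (by
    rw [← (F.neg h).1, F.un h' h ?_, e]
    rcases (F.ng h).le ⟨c, (F.neg h').2⟩ with d | d
    exacts [Or.inl d.symm, Or.inr (by rw [d, F.νν'])])

theorem cm (i k : ℕ) (h : 0 < i ∧ i < 9 ∧ 0 < k ∧ k < 9 ∧ i ≠ k := by decide) : Commute (ρ i) (ρ k) :=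
  F.st' (F.rfl' k h.2.2.2.1) (Or.inl (F.ort i k h))

theorem ev (h : w ∉ E) (h' : w' ∉ E) : w * w' ∈ E := (mul_mem_iff_of_index_two F.idx).2 (by tauto)

theorem aE : 𝐚 ∈ E := F.ev F.ρE (F.out (F.rfl' 2))

theorem dE : 𝐝 ∉ E := fun e => F.out (F.rfl' 3) ((mul_mem_cancel_left F.aE).1 e)

theorem aa : 𝐚 * (𝐚) = 1 := by rw [(F.cm 1 2).symm.mul_mul_mul_comm, F.ρρ, F.sq (F.rfl' 2), mul_one]

theorem dd : 𝐝 * (𝐝) = 1 := by
  rw [((F.cm 1 3).mul_left (F.cm 2 3)).symm.mul_mul_mul_comm, F.aa, F.sq (F.rfl' 3), mul_one]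

theorem bb : 𝐛 * (𝐛) = 1 := by
  rw [(((F.cm 1 4).mul_left (F.cm 2 4)).mul_left (F.cm 3 4)).symm.mul_mul_mul_comm, F.dd, F.sq (F.rfl' 4), mul_one]

theorem cc : 𝐜 * (𝐜) = 1 := by
  rw [(((F.cm 1 5).mul_left (F.cm 2 5)).mul_left (F.cm 3 5)).symm.mul_mul_mul_comm, F.dd, F.sq (F.rfl' 5), mul_one]

theorem νsq : ν * w * (ν * w) = w * w := by rw [(F.cν w).mul_mul_mul_comm, F.νν, one_mul]

theorem cntc : (Ng Ω ν (ν * (𝐜))).ncard = 8 := by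
  obtain ⟨g, -, e⟩ := F.nc
  rw [← e, Ng.card_conj F.cν, F.cnt.2.2.2.1]

theorem n16 (h1 : w ∈ E) (h2 : w * w = 1) (h3 : w ≠ 1) (h4 : w ≠ ν) : ¬ 16 ∣ (Ng Ω ν w).ncard := by
  obtain ⟨g, u, hu, e⟩ := ((F.cls w (Or.inl h2)).resolve_left h3).resolve_left h4
  have hn := normal_of_index_eq_two F.idx
  obtain ⟨c1, c2, c3⟩ : u ∈ E ∧ u * u = 1 ∧ ((Ng Ω ν w).ncard = (Ng Ω ν u).ncard ∨
      (Ng Ω ν w).ncard = (Ng Ω ν (ν * u)).ncard) := by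
    rcases e with rfl | rfl
    · exact ⟨by simpa [mul_assoc] using hn.conj_mem' _ h1 g, by simpa [conj_mul] using h2,
        Or.inl (Ng.card_conj F.cν _ _)⟩
    · exact ⟨by simpa [mul_assoc] using hn.conj_mem' _ ((mul_mem_cancel_left F.νE).1 h1) g,
        by simpa [F.νsq, conj_mul] using h2, Or.inr (by
          rw [← Ng.card_conj F.cν g (ν * u), ← mul_assoc, ← mul_assoc, ← (F.cν g).eq, mul_assoc g])⟩
  obtain ⟨k, hk⟩ := F.nb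
  have := Ng.card_conj (Ω := Ω) F.cν k (𝐛)
  have := F.cntc
  have := F.cnt
  simp only [List.mem_cons, List.not_mem_nil, or_false] at hu
  rcases hu with rfl | rfl | rfl | rfl | rfl | rfl
  exacts [by omega, by rw [← hk] at c3; omega, by omega, absurd (F.jj.symm.trans c2) F.ν1, absurd c1 F.ρE,
    absurd c1 F.dE]

theorem d16 {P Q X Y : M} (hP : P * P = ν) (hQ : Q * Q = ν) (hPQ : P * Q = Q * P * ν) (hX : X * X = 1)
    (hY : Y * Y = 1) (e : X * Y = Y * X * w) (h1 : Commute X P) (h2 : Commute X Q) (h3 : Commute Y P)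
    (h4 : Commute Y Q) (c1 : Commute P w) (c2 : Commute Q w) (c3 : Commute X w) (c4 : Commute Y w) :
    16 ∣ (Ng Ω ν w).ncard := by
  have k : ∀ v ∈ Ng Ω ν w, X • Y • v = ν • Y • X • v := fun v hv => by
    rw [← mul_smul, e, mul_smul, hv.1, F.νs, mul_smul]
  have k1 : ∀ {P : M} {v : Ω}, Commute X P → ((X • P • v = P • v ∨ X • P • v = ν • P • v) ↔
      (X • v = v ∨ X • v = ν • v)) := fun {P v} h => by
    rw [← mul_smul, h.eq, mul_smul, ← F.νs, smul_left_cancel_iff, smul_left_cancel_iff]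
  rw [← Set.ncard_inter_add_ncard_sdiff_eq_ncard _ {v | X • v = v ∨ X • v = ν • v} (F.fin' w)]
  refine dvd_add (dvd16 F.cν F.νν hP hQ hPQ hY h3 h4 (fun v ⟨hv, c⟩ => ⟨⟨Ng.smul F.cν c1 hv, (k1 h1).2 c⟩,
    ⟨Ng.smul F.cν c2 hv, (k1 h2).2 c⟩, ⟨Ng.smul F.cν c4 hv, ?_⟩, hv.2, fun d => hv.2 ?_, fun d => hv.2 ?_⟩)
    ((F.fin' w).subset Set.inter_subset_left)) (dvd16 F.cν F.νν hP hQ hPQ hX h1 h2 (fun v ⟨hv, c⟩ =>
      ⟨⟨Ng.smul F.cν c1 hv, mt (k1 h1).1 c⟩, ⟨Ng.smul F.cν c2 hv, mt (k1 h2).1 c⟩,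
        ⟨Ng.smul F.cν c3 hv, mt (k1 (Commute.refl X)).1 c⟩, hv.2, fun d => c (Or.inl d), fun d => c (Or.inr d)⟩)
      ((F.fin' w).subset Set.sdiff_subset))
  all_goals have k := k v hv
  · rcases c with c | c <;> rw [c] at k
    exacts [Or.inr k, Or.inl (by rwa [F.νs, F.νν'] at k)]
  · rw [d] at k
    rcases c with c | c <;> rw [c] at k
    exacts [by rw [d] at k; exact k.symm, by rw [F.νs, F.νν', d] at k; exact k]
  · rw [d, F.νs] at k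
    rcases c with c | c <;> rw [c] at k
    exacts [by rwa [d, F.νν'] at k, by rw [F.νs Y, d, F.νν'] at k; exact k.symm]

end Fa

/-- the common part of two models -/
def Tr (Δ Γ : Subgroup (G × M)) : Subgroup (M × M) where
  carrier := {p | ∃ g, (g, p.1) ∈ Δ ∧ (g, p.2) ∈ Γ}
  one_mem' := ⟨1, one_mem Δ, one_mem Γ⟩
  mul_mem' := fun ⟨_, a, b⟩ ⟨_, c, d⟩ => ⟨_, mul_mem a c, mul_mem b d⟩
  inv_mem' := fun ⟨_, a, b⟩ => ⟨_, inv_mem a, inv_mem b⟩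

namespace St

variable (h : St E ν Δ t) (k : St E ν Γ s)
include h k

theorem tr {x x' w w' : M} (e : (x, w) ∈ Tr Δ Γ) (e' : (x', w') ∈ Tr Δ Γ) : x = x' ↔ w = w' := by
  obtain ⟨g, a, b⟩ := e
  obtain ⟨g', c, d⟩ := e'
  exact (h.iff a c).symm.trans (k.iff b d)

theorem trc {x x' w w' : M} (e : (x, w) ∈ Tr Δ Γ) (e' : (x', w') ∈ Tr Δ Γ) (c : Commute x x') : Commute w w' :=
  (h.tr k (mul_mem e e') (mul_mem e' e)).1 c

variable (F : Fa E ν j ρ r) {u x : M} {n : ℕ}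
include F

omit h in
theorem Dc_comm {f y : G} {w : M} (hn : Odd n) (e : (f, w) ∈ k.Dc) (h1 : w ^ n = 1) (e' : (y, u) ∈ 𝐍[Γ])
    (c : Commute y f) : Commute w u := by
  rcases k.uniq F (k.Dc_le e) (w' := u * w * u⁻¹) (by
    simpa [c.eq] using mul_mem (mul_mem e' (k.Dc_le e)) (inv_mem e')) with d | d
  · exact (mul_inv_eq_iff_eq_mul.1 d).symm
  obtain ⟨m, rfl⟩ := hn
  have := congrArg (· ^ (2 * m + 1)) d
  simp only [conj_pow, (F.cν w).symm.mul_pow, h1, pow_succ ν, pow_mul ν, pow_zero, one_mul, F.νν] at this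
  exact absurd (by simpa using this.symm) F.ν1

omit h in
theorem fx5 {f y : G} {w : M} {v : Ω} (e : (f, w) ∈ k.Dc) (h1 : w ^ 5 = 1) (e' : (y, u) ∈ 𝐍[Γ])
    (c : Commute y f) {m : ℕ} (hm : (Ng Ω ν u).ncard = m) (hv : v ∈ Ng Ω ν u) (h4 : m < 10 := by decide) :
    w • v = v := fix5 F.cν F.νν h1 (k.Dc_comm F (by decide) e h1 e' c) (F.fin' _) (hm ▸ h4) hv

omit k in
theorem ne1 : t ≠ 1 := fun e => F.ν1 (h.inj2 ν (e ▸ h.tν))

omit k in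
theorem twN {g : M} (e : (s, g * u * g⁻¹) ∈ 𝐍[Δ]) : ∃ Γ, St E ν Γ t ∧ (s, u) ∈ 𝐍[Γ] :=
  (h.tw F g).imp fun _ c => ⟨c.1, (c.2.2 _ _).2 e⟩

theorem lift (e : (s, u) ∈ 𝐍[Δ]) (hn : Odd n) (hx : x ∈ Od n u) (U : Subgroup M)
    (hU : ∀ f w, Commute t f → (f, w) ∈ k.Dc → w ^ n = 1 → w ∈ U) :
    ∃ g w, (g, x) ∈ Δ ∧ (g, w) ∈ k.Dc ∧ w ∈ U := by
  induction hx using closure_induction with
  | mem f hf =>
    obtain ⟨g, c⟩ := h.ex f (F.oddE hn hf.1)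
    obtain ⟨w, d, d'⟩ := k.Dc_odd F hn (h.inj1 (g ^ n) (hf.1 ▸ pow_mem c n)) ((h.comm e c).2 hf.2.symm).symm
    exact ⟨g, w, c, d, hU g w (h.ct F (le_normalizer c)).symm d d'⟩
  | one => exact ⟨1, 1, one_mem _, one_mem _, one_mem _⟩
  | mul _ _ _ _ a b =>
    obtain ⟨g, w, a1, a2, a3⟩ := a
    obtain ⟨g', w', b1, b2, b3⟩ := b
    exact ⟨g * g', w * w', mul_mem a1 b1, mul_mem a2 b2, mul_mem a3 b3⟩
  | inv _ _ a =>
    obtain ⟨g, w, a1, a2, a3⟩ := a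
    exact ⟨g⁻¹, w⁻¹, inv_mem a1, inv_mem a2, inv_mem a3⟩

theorem lift2 (e : (s, u) ∈ 𝐍[Δ]) (hn : Odd n) (hx : x ∈ Od n u) (h4 : x * x * (x * x) = 1) :
    ∃ w, (x, w) ∈ Tr Δ Γ := by
  obtain ⟨g, w, a, b, -⟩ := h.lift k F e hn hx ⊤ fun _ _ _ _ _ => trivial
  rw [← pow_two, ← pow_two, ← pow_mul] at h4
  exact ⟨w, g, a, k.Dc_two F b (h.inj1 _ (h4 ▸ pow_mem a 4))⟩

theorem nfix {u' w : M} (e : (s, u) ∈ 𝐍[Δ]) (e' : (t, u') ∈ 𝐍[Γ]) (hx : x ∈ Od 5 u) (h2 : x * x = 1)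
    (c : (x, w) ∈ Tr Δ Γ) (h3 : w = u' ∨ w = ν) {m : ℕ} (hm : (Ng Ω ν u').ncard = m)
    (h4 : 0 < m ∧ m < 10 := by decide) : False := by
  obtain ⟨v, hv⟩ := Set.nonempty_of_ncard_ne_zero (hm ▸ h4.1.ne')
  obtain ⟨g, w', a, b, d⟩ := h.lift k F e (by decide) hx (MulAction.stabilizer M v) fun f w c d d' =>
    k.fx5 F d d' e' c hm hv h4.2
  have := (h.tr k c ⟨g, a, k.Dc_two F b (by
    rw [show 4 = 2 * 2 from rfl, pow_mul, pow_two g, h.inj1 (g * g) (h2 ▸ mul_mem a a), one_pow])⟩).1 rfl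
  refine hv.2 (Eq.trans ?_ d)
  rcases h3 with rfl | rfl
  exacts [this ▸ hv.1.symm, this ▸ rfl]

end St

variable (F : Fa E ν j ρ r) (H : ∀ s, IsConj z s → ∃ Δ, St E ν Δ s)
include F H

theorem noB (h : St E ν Δ t) (hs : IsConj z s) (e : (s, 𝐛) ∈ 𝐍[Δ]) : False := by
  obtain ⟨Γ, k⟩ := H s hs
  obtain ⟨Δ, h, e⟩ : ∃ Δ, St E ν Δ t ∧ (s, 𝐛) ∈ Δ := by
    rcases h.inner e (F.ev F.dE (F.out (F.rfl' 4))) F.bb (k.tt F) with c | c
    · exact ⟨Δ, h, c⟩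
    obtain ⟨g, hg⟩ := F.nb
    obtain ⟨Δ', h', c1, -⟩ := h.tw F g
    exact ⟨Δ', h', (c1 _ _).2 (hg ▸ c)⟩
  obtain ⟨P, p, Q, q, X, x, Y, y, h1, h2, h3, h4, h5, h6, h7, h8, h9, h10⟩ := F.fB _ rfl
  obtain ⟨P', p'⟩ := h.lift2 k F (le_normalizer e) (by decide) p (by rw [h1, F.bb])
  obtain ⟨Q', q'⟩ := h.lift2 k F (le_normalizer e) (by decide) q (by rw [h2, F.bb])
  obtain ⟨X', x'⟩ := h.lift2 k F (le_normalizer e) (by decide) x (by rw [h4, mul_one])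
  obtain ⟨Y', y'⟩ := h.lift2 k F (le_normalizer e) (by decide) y (by rw [h5, mul_one])
  have b' : (𝐛, ν) ∈ Tr Δ Γ := ⟨s, e, k.tν⟩
  have z' : (ν * (𝐛), (Y' * X')⁻¹ * (X' * Y')) ∈ Tr Δ Γ := by
    simpa [h6, mul_assoc] using mul_mem (inv_mem (mul_mem y' x')) (mul_mem x' y')
  have c : ∀ {P P'}, P ∈ Od 3 (𝐛) → (P, P') ∈ Tr Δ Γ → Commute P' ((Y' * X')⁻¹ * (X' * Y')) := fun p p' =>
    h.trc k p' z' ((F.cν _).mul_right (Od.comm p))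
  refine F.n16 (z'.elim fun g c => k.mem _ _ c.2) ((h.tr k (mul_mem z' z') (one_mem _)).1 (F.νsq.trans F.bb))
    (mt (h.tr k z' (one_mem _)).2 fun d => (F.neg (F.rfl' 5)).2 ?_)
    (mt (h.tr k z' b').2 fun d => F.ν1 (by simpa using d))
    (F.d16 ((h.tr k (mul_mem p' p') b').1 h1) ((h.tr k (mul_mem q' q') b').1 h2)
      ((h.tr k (mul_mem p' q') (mul_mem (mul_mem q' p') b')).1 h3) ((h.tr k (mul_mem x' x') (one_mem _)).1 h4)
      ((h.tr k (mul_mem y' y') (one_mem _)).1 h5) (by group) (h.trc k x' p' h7) (h.trc k x' q' h8)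
      (h.trc k y' p' h9) (h.trc k y' q' h10) (c p p') (c q q') (c x x') (c y y'))
  simpa [mul_smul, F.ort] using congrArg (· • r 5) (show ν * (𝐛) = 1 from d)

theorem ty' (h : St E ν Δ t) (hs : IsConj z s) (h3 : s ≠ t) (h4 : Commute s t) :
    ∃ g, ∃ u ∈ [𝐚, 𝐛, 𝐜, j, ρ 1, 𝐝], (s, g * u * g⁻¹) ∈ 𝐍[Δ] :=
  (H s hs).elim fun _ k => h.ty F (k.tt F) (k.ne1 F) h3 h4

theorem inn (h : St E ν Δ t) (hs : IsConj z s) (h3 : s ≠ t) {w : M} (e : (s, w) ∈ Δ) :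
    ∃ Γ, St E ν Γ t ∧ ((s, 𝐚) ∈ Γ ∨ (s, ν * (𝐚)) ∈ Γ ∨ (s, 𝐜) ∈ Γ) := by
  obtain ⟨g, u, hu, c⟩ := ty' F H h hs h3 (h.ct F (le_normalizer e))
  obtain ⟨Γ, k, c1, c2⟩ := h.tw F g
  replace c := (c2 _ _).2 c
  replace e := (c1 s (g⁻¹ * w * g)).2 (by simpa [mul_assoc] using e)
  generalize g⁻¹ * w * g = w at e
  have p := (k.par F c (le_normalizer e)).1 (k.mem _ _ e)
  have q := k.uniq F c (le_normalizer e)
  simp only [List.mem_cons, List.not_mem_nil, or_false] at hu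
  rcases hu with rfl | rfl | rfl | rfl | rfl | rfl
  · exact ⟨Γ, k, by rcases q with rfl | rfl <;> simp [e]⟩
  · exact (noB F H k hs c).elim
  · rcases q with rfl | rfl
    · exact ⟨Γ, k, by simp [e]⟩
    obtain ⟨l, -, hl⟩ := F.nc
    obtain ⟨Γ', k', c1, -⟩ := k.tw F l
    exact ⟨Γ', k', Or.inr (Or.inr ((c1 _ _).2 (hl ▸ e)))⟩
  · have := k.inj2 (w * w) ((H s hs).elim fun _ k => k.tt F ▸ mul_mem e e)
    exact absurd (by rcases q with rfl | rfl <;> simpa [F.νsq, F.jj] using this) F.ν1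
  exacts [absurd p F.ρE, absurd p F.dE]

theorem noJ (h : St E ν Δ t) (ht : IsConj z t) (hs : IsConj z s) (h3 : t ≠ s) (e : (s, j) ∈ 𝐍[Δ]) : False := by
  have key : ∀ {Γ}, St E ν Γ s → ∃ w, (j, w) ∈ Tr Δ Γ ∧ (t, w * w) ∈ Γ := fun k => by
    obtain ⟨w, g, a, b⟩ := h.lift2 k F e (by decide) F.fJ.1 (by rw [F.jj, F.νν])
    exact ⟨w, ⟨g, a, b⟩, h.eq1 (g := g * g) (by simpa [F.jj] using mul_mem a a) h.tν ▸ mul_mem b b⟩
  obtain ⟨Γ, k⟩ := H s hs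
  obtain ⟨w, -, c⟩ := key k
  obtain ⟨Γ, k, c | c | c⟩ := inn F H k ht h3 c
  · exact h.nfix k F e (le_normalizer c) F.fJ.2 F.νν ⟨t, h.tν, c⟩ (Or.inl rfl) F.cnt.1
  · obtain ⟨w, a, b⟩ := key k
    obtain ⟨-, x, hx, xx, ⟨y, hy, v, hv, yy, h1, h2, h4⟩, -⟩ := F.fa _ rfl
    have cm : ∀ {x}, x ∈ Od 3 (𝐚) → x * x = 1 → Commute w x := fun hx xx => by
      obtain ⟨x', g, a1, a2⟩ := k.lift2 h F (by simpa [← mul_assoc, F.νν] using St.neg F (le_normalizer c))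
        (by decide) hx (by rw [xx, mul_one])
      exact h.trc k a ⟨g, a2, a1⟩ ((h.comm e a2).1 (k.ct F (le_normalizer a1)).symm)
    have := h4 _ (Ng.smul F.cν (cm hx xx) hv) (by rw [← mul_smul, ← (cm hy yy).eq, mul_smul, h1])
    refine hv.2 ?_
    rw [← h2, ← mul_smul, ← k.eq2 b c, mul_smul, h2]
    rcases this with d | d
    exacts [by rw [d, d], by rw [d, F.νs, d, F.νν']]
  · exact h.nfix k F e (le_normalizer c) F.fJ.2 F.νν ⟨t, h.tν, c⟩ (Or.inl rfl) F.cnt.2.2.2.1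

theorem noA' (h : St E ν Δ t) (ht : IsConj z t) (hs : IsConj z s) (e : (s, ν * (𝐚)) ∈ Δ) : False := by
  obtain ⟨Γ, k⟩ := H s hs
  have ne : t ≠ s := fun c => F.a1 (mul_eq_left.1 (h.eq2 e (c ▸ h.tν)))
  obtain ⟨g, u, hu, c⟩ := ty' F H k ht ne (h.ct F (le_normalizer e)).symm
  obtain ⟨Γ, k, c⟩ := k.twN F c
  have := fun m hm h4 => h.nfix k F (by simpa [← mul_assoc, F.νν] using St.neg F (le_normalizer e)) c
    (F.fa _ rfl).1 (F.νsq.trans F.aa) ⟨s, e, k.tν⟩ (Or.inr rfl) (m := m) hm h4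
  simp only [List.mem_cons, List.not_mem_nil, or_false] at hu
  rcases hu with rfl | rfl | rfl | rfl | rfl | rfl
  exacts [this _ F.cnt.1 (by decide), noB F H k ht c, this _ F.cnt.2.2.2.1 (by decide),
    noJ F H k hs ht ne.symm c, this 2 (F.N1 ▸ Set.ncard_pair (F.nr 1).symm) (by decide),
    this _ F.cnt.2.2.2.2.1 (by decide)]

end Cfsg.Agent.Std.O8
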