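import Mathlib
import Cfsg.Agent.Std.O8B

/-! Standard subgroups `2.O₈⁺(2)`: commuting conjugates act as reflections. -/

set_option autoImplicit false

namespace Cfsg.Agent.Std.O8

open Cfsg Subgroup PLocal PLocal.Amb ON

variable {M Ω : Type*} [Group M] [MulAction M Ω] {ν : M} {G : Type*} [Group G] {E : Subgroup M} {j : M}
  {ρ : ℕ → M} {r : ℕ → Ω} {Δ Γ : Subgroup (G × M)} {t s z : G}

local notation "𝐚" => ρ 1 * ρ 2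
local notation "𝐛" => ρ 1 * ρ 2 * ρ 3 * ρ 4
local notation "𝐜" => ρ 1 * ρ 2 * ρ 3 * ρ 5
local notation "𝐝" => ρ 1 * ρ 2 * ρ 3

theorem dc (hs : IsConj z s) (g : G) : IsConj z (g * s * g⁻¹) := hs.trans (isConj_iff.2 ⟨g, rfl⟩)

theorem pm {a b : G} {x y : M} (h : (a, x) ∈ Δ) (k : (b, y) ∈ Δ) : (a * b, x * y) ∈ Δ := mul_mem h k

theorem pc {a b : G} {x y : M} (h : (a, x) ∈ Δ) (k : (b, y) ∈ Δ) : (a * b * a⁻¹, x * y * x⁻¹) ∈ Δ :=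
  mul_mem (mul_mem h k) (inv_mem h)

variable (F : Fa E ν j ρ r) (H : ∀ s, IsConj z s → ∃ Δ, St E ν Δ s)
include F H

theorem noA (h : St E ν Δ t) (ht : IsConj z t) (hs : IsConj z s) (e : (s, 𝐚) ∈ Δ) : False := by
  have e' := le_normalizer e
  have ne : t ≠ s := fun c => F.aν (h.eq2 e (c ▸ h.tν))
  obtain ⟨h0, x, hx, xx, -, g, hg, g', hg', y, f, f', m, hy, hy', ya, yn, f5, fa, fy, xf, f5', fa', hm, mm,
    m1, ma⟩ := F.fa _ rfl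
  have ts : (t * s, ν * (𝐚)) ∈ Δ := mul_mem h.tν e
  obtain ⟨Γ, k⟩ := H s hs
  obtain ⟨w, l, c1, c2⟩ := h.lift2 k F e' (by decide) h0 (by rw [F.νsq, F.aa, mul_one])
  obtain rfl := h.eq1 ts c1
  obtain ⟨Γ, k, c | c | c⟩ := inn F H k ht ne (w := w * ν) (by
    simpa [mul_assoc, k.tt F] using mul_mem c2 k.tν)
  rotate_left
  · exact noA' F H k hs ht c
  · exact h.nfix k F e' (St.neg F (le_normalizer c)) h0 (F.νsq.trans F.aa) ⟨_, ts, mul_mem c k.tν⟩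
      (Or.inl (F.cν _).eq) F.cntc
  obtain ⟨g0, hg0⟩ := h.ex g hg
  obtain ⟨g1, hg1⟩ := h.ex g' hg'
  obtain ⟨f0, hf⟩ := h.ex f (F.oddE (by decide) f5)
  obtain ⟨f1, hf'⟩ := h.ex f' (F.oddE (by decide) f5')
  have y0 : (g0 * s * g0⁻¹, y) ∈ Δ := hy ▸ pc hg0 e
  have d0 := dc hs g0
  have d1 := dc hs g1
  rw [h.eq1 (pc hg1 e) (hy' ▸ pm y0 e)] at d1
  generalize g0 * s * g0⁻¹ = y' at y0 d0 d1
  have cs := (h.comm (le_normalizer y0) e).2 ya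
  have cf := (h.comm (le_normalizer y0) hf).2 fy.symm
  have key : ∀ {Γ} (k : St E ν Γ s), ∃ w, (f0, w) ∈ k.Dc ∧ w ^ 5 = 1 ∧ w ≠ 1 := fun k => by
    obtain ⟨w, a, b⟩ := k.Dc_odd F (n := 5) (by decide) (h.inj1 (f0 ^ 5) (f5 ▸ pow_mem hf 5))
      ((h.comm (le_normalizer hf) e).2 fa)
    obtain ⟨x', x0, a1, a2⟩ := h.lift2 k F e' (by decide) hx (by rw [xx, mul_one])
    exact ⟨w, a, b, fun c => xf ((h.comm (le_normalizer hf) a1).1 (k.cent (c ▸ k.Dc_le a) a2)).symm⟩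
  obtain ⟨g, u, hu, c'⟩ := ty' F H k d0 (mt (h.iff y0 e).1 yn) cs
  simp only [List.mem_cons, List.not_mem_nil, or_false] at hu
  have hu' : u = ρ 1 ∨ u = 𝐚 ∨ u = 𝐛 ∨ u = 𝐜 ∨ u = j ∨ u = 𝐝 := by tauto
  rcases hu' with rfl | hu
  · have rv : Rf ρ r (g * ρ 1 * g⁻¹) (g • r 1) := ⟨g, rfl, rfl⟩
    have fa : ∀ {f w v}, (f, w) ∈ k.Dc → w ^ 5 = 1 → Commute t f → v ∈ Ng Ω ν (𝐚) → w • v = v :=
      fun a b d hv => k.fx5 F a b (le_normalizer c) d F.cnt.1 hv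
    rcases F.pm rv ((k.comm c' c).1 (h.ct F (le_normalizer y0))).symm with d | d
    · obtain ⟨l, l1, l2, l3⟩ := F.ch3 _ (F.neg rv).2 (F.fx _ d).1 (F.fx _ d).2
      obtain ⟨w, a, b, b'⟩ := key k
      have fa := fun {v} => fa (v := v) a b (h.ct F (le_normalizer hf)).symm
      refine b' (conj_eq_one_iff.1 (F.st3 (l⁻¹ * w * l⁻¹⁻¹) (by rw [conj_pow, b]; simp) ?_ ?_ ?_)) <;>
        rw [inv_inv, mul_smul, mul_smul, inv_smul_eq_iff]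
      · rw [l1, fa ⟨by simp [mul_smul, F.ort, F.ρr 1], F.nr 1⟩]
      · rw [l2, fa ⟨by simp [mul_smul, F.ort, F.ρr 2, F.νs], F.nr 2⟩]
      · rw [l3, k.fx5 F a b c' cf (F.ng rv ▸ Set.ncard_pair (F.neg rv).2.symm) (F.neg rv)]
    · obtain ⟨w, a, b⟩ := k.Dc_odd F (n := 5) (by decide) (h.inj1 (f1 ^ 5) (f5' ▸ pow_mem hf' 5))
        ((h.comm (le_normalizer hf') e).2 fa')
      have c1 := (F.st' rv (Or.inl (fa a b (h.ct F (le_normalizer hf')).symm ⟨d, (F.neg rv).2⟩))).symm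
      have c2 : (y' * f1 * y'⁻¹ * f1⁻¹, m) ∈ Δ := hm ▸ mul_mem (mul_mem (mul_mem y0 hf') (inv_mem y0)) (inv_mem hf')
      have c3 := mul_mem (mul_mem (mul_mem c' (k.Dc_le a)) (inv_mem c')) (inv_mem (k.Dc_le a))
      simp only [Prod.mk_mul_mk, Prod.inv_mk, c1.eq, mul_inv_cancel_right, mul_inv_cancel] at c3
      exact (k.inv _ c3 (h.inj1 _ (mm ▸ mul_mem c2 c2))).elim (mt (h.iff c2 (one_mem _)).1 m1)
        (mt (h.iff c2 e).1 ma)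
  obtain ⟨Γ, k, c⟩ := k.twN F c'
  obtain ⟨w, a, b, b'⟩ := key k
  rcases hu with rfl | rfl | rfl | rfl | rfl
  · rcases k.inner c F.aE F.aa ((H _ d0).elim fun _ k => k.tt F) with d | d
    exacts [noA' F H k hs d1 ((F.cν _).eq ▸ mul_mem d k.tν), noA' F H k hs d0 d]
  · exact noB F H k d0 c
  · have p := fun i (h : i < 9) e => k.fx5 F a b c cf F.cnt.2.2.2.1 (v := r i) ⟨e, F.nr i h⟩
    have q := fun i (h : i < 9) e => k.fx5 F a b (St.neg F c) cf F.cntc (v := r i) ⟨e, F.nr i h⟩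
    refine b' (F.bC w (p 1 ?_ ?_) (p 2 ?_ ?_) (p 3 ?_ ?_) (q 4 ?_ ?_) (p 5 ?_ ?_) (q 6 ?_ ?_) (q 7 ?_ ?_)
      (q 8 ?_ ?_)) <;> simp [mul_smul, F.ort, F.ρr _ _, F.νs]
  · exact noJ F H k hs d0 (Ne.symm (mt (h.iff y0 e).1 yn)) c
  · have p := fun i (h : i < 9) e => k.fx5 F a b c cf F.cnt.2.2.2.2.1 (v := r i) ⟨e, F.nr i h⟩
    refine b' (F.st3 w b (p 1 ?_ ?_) (p 2 ?_ ?_) (p 3 ?_ ?_)) <;> simp [mul_smul, F.ort, F.ρr _ _, F.νs]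

theorem noC (h : St E ν Δ t) (hs : IsConj z s) (e : (s, 𝐜) ∈ 𝐍[Δ]) : False := by
  obtain ⟨Γ, k⟩ := H s hs
  obtain ⟨l, hl, hl'⟩ := F.nc
  obtain ⟨Δ, h, e⟩ : ∃ Δ, St E ν Δ t ∧ (s, 𝐜) ∈ Δ := by
    rcases h.inner e (F.ev F.dE (F.out (F.rfl' 5))) F.cc (k.tt F) with c | c
    · exact ⟨Δ, h, c⟩
    obtain ⟨Δ', h', c1, -⟩ := h.tw F l
    exact ⟨Δ', h', (c1 _ _).2 (hl' ▸ c)⟩
  obtain ⟨x, hx, xx, x1, ⟨g, hg⟩, g', hg', hg''⟩ := F.fC _ rfl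
  obtain ⟨w, y, a, b⟩ := h.lift2 k F (le_normalizer e) (by decide) hx (by rw [xx, mul_one])
  obtain ⟨g0, c⟩ := h.ex g' hg'
  have d := dc hs g0
  rw [h.eq1 (pc c e) (hg'' ▸ pm a e)] at d
  obtain ⟨Γ, k, c | c | c⟩ := inn F H k d (fun c => x1 (h.inj2 _ (mul_eq_right.1 c ▸ a))) (mul_mem b k.tν)
  exacts [noA F H k hs d c, noA' F H k hs d c, by
    obtain ⟨l0, c'⟩ := k.ex l hl
    have d' := dc d l0
    rw [k.eq1 (pc c' c) (g' := y) (by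
      rw [hl', ← (F.cν _).eq]; simpa [mul_assoc, k.tt F] using mul_mem c k.tν)] at d'
    obtain ⟨Δ, h, e⟩ := h.twN F (hg ▸ le_normalizer a)
    exact noB F H h d' e]

theorem ty2 (h : St E ν Δ t) (ht : IsConj z t) (hs : IsConj z s) (h3 : s ≠ t) (h4 : Commute s t) :
    ∃ g, (s, g * ρ 1 * g⁻¹) ∈ 𝐍[Δ] ∨ (s, g * (𝐝) * g⁻¹) ∈ 𝐍[Δ] := by
  obtain ⟨g, u, hu, c⟩ := ty' F H h hs h3 h4
  obtain ⟨Γ, k, c'⟩ := h.twN F c
  simp only [List.mem_cons, List.not_mem_nil, or_false] at hu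
  rcases hu with rfl | rfl | rfl | rfl | rfl | rfl
  exacts [((k.inner c' F.aE F.aa ((H _ hs).elim fun _ k => k.tt F)).elim (noA F H k ht hs)
    (noA' F H k ht hs)).elim, (noB F H k hs c').elim, (noC F H k hs c').elim, (noJ F H k ht hs h3.symm c').elim,
    ⟨g, Or.inl c⟩, ⟨g, Or.inr c⟩]

theorem out (h : St E ν Δ t) (ht : IsConj z t) (hs : IsConj z s) (h3 : s ≠ t) {w : M} (e : (s, w) ∈ 𝐍[Δ]) :
    w ∉ E := fun hw => by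
  have hn := normal_of_index_eq_two F.idx
  obtain ⟨g, c | c⟩ := ty2 F H h ht hs h3 (h.ct F e)
  exacts [F.ρE (by simpa [mul_assoc] using hn.conj_mem' _ ((h.par F c e).1 hw) g),
    F.dE (by simpa [mul_assoc] using hn.conj_mem' _ ((h.par F c e).1 hw) g)]

theorem par3 {x y : G} (ht : IsConj z t) (hx : IsConj z x) (hy : IsConj z y) (h1 : x ≠ t) (h2 : y ≠ t)
    (h3 : Commute x t) (h4 : Commute y t) (h5 : IsConj z (x * y)) : x * y = t := by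
  obtain ⟨Δ, h⟩ := H t ht
  obtain ⟨w, e⟩ := h.act x h3
  obtain ⟨w', e'⟩ := h.act y h4
  exact by_contra fun c => out F H h ht h5 c (mul_mem e e') (F.ev (out F H h ht hx h1 e) (out F H h ht hy h2 e'))

theorem noT (h : St E ν Δ t) (hs : IsConj z s) (e : (s, 𝐝) ∈ 𝐍[Δ]) : False := by
  obtain ⟨Γ, k⟩ := H s hs
  obtain ⟨m, m', hm⟩ := F.fT
  have key : ∀ x ∈ [m, m', m * m'], ∃ y w, (y, x) ∈ Δ ∧ (y, w) ∈ 𝐍[Γ] ∧ w ∉ E := fun x hx => by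
    obtain ⟨x1, c, l, hl, rfl⟩ := hm x hx
    obtain ⟨l0, a⟩ := h.ex l hl
    have b := mul_mem a (conj_mem_of_mem_normalizer e (inv_mem a))
    simp only [Prod.mk_mul_mk, Prod.inv_mk, ← mul_assoc] at b c x1 ⊢
    obtain ⟨w, d⟩ := k.act _ ((h.comm e b).2 c.symm).symm
    refine ⟨_, w, b, d, fun c => out F H k hs (dc hs l0) (fun c => x1 (h.inj2 _ ?_)) (w := w * ν)
      (by simpa using mul_mem d (le_normalizer k.tν)) (mul_mem c F.νE)⟩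
    rwa [c, mul_inv_cancel] at b
  obtain ⟨y, w, a, b, c⟩ := key m (by simp)
  obtain ⟨y', w', a', b', c'⟩ := key m' (by simp)
  obtain ⟨y'', w'', a'', b'', c''⟩ := key (m * m') (by simp)
  exact c'' ((k.par F (pm b b') (h.eq1 a'' (pm a a') ▸ b'')).2 (F.ev c c'))

theorem rf1 (h : St E ν Δ t) (ht : IsConj z t) (hs : IsConj z s) (h3 : s ≠ t) (h4 : Commute s t) :
    ∃ w v, Rf ρ r w v ∧ (s, w) ∈ 𝐍[Δ] := by
  obtain ⟨g, c | c⟩ := ty2 F H h ht hs h3 h4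
  · exact ⟨_, _, ⟨g, rfl, rfl⟩, c⟩
  obtain ⟨Γ, k, c⟩ := h.twN F c
  exact (noT F H k hs c).elim

variable {x y : G} {w w' : M} {v v' : Ω}

omit H in
theorem rf2 (h : St E ν Δ t) (a : (x, w) ∈ 𝐍[Δ]) (b : (x, w') ∈ 𝐍[Δ]) (c : Rf ρ r w v) (d : Rf ρ r w' v') :
    w' = w := (h.uniq F a b).resolve_right fun e => by
  obtain ⟨k, -, rfl⟩ := d
  obtain ⟨l, -, d⟩ := id c
  exact F.nn c (g := k * l⁻¹) (by rw [← e, ← d]; group)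

omit H in
theorem rfc (h : St E ν Δ t) (a : (x, w) ∈ 𝐍[Δ]) (b : (y, w') ∈ 𝐍[Δ]) (d : Rf ρ r w' v') (c : Commute x y) :
    Commute w w' := mul_inv_eq_iff_eq_mul.1 ((h.uniq F b (by simpa [c.eq] using pc a b)).resolve_right (F.nn d))

theorem rfo {u : G} (h : St E ν Δ t) (a : (x, w) ∈ 𝐍[Δ]) (b : (y, w') ∈ 𝐍[Δ]) (c : Rf ρ r w v)
    (d : Rf ρ r w' v') (ht : IsConj z t) (hx : IsConj z x) (hy : IsConj z y) (hu : IsConj z u) (h1 : x ≠ y)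
    (h2 : x ≠ u) (h3 : y ≠ u) (h4 : t ≠ u) (c1 : Commute x y) (c2 : Commute x u) (c3 : Commute y u) :
    w • v' = v' := (F.pm d (rfc F h a b d c1)).resolve_right fun e => by
  obtain rfl := F.un c d ((F.ng c).le ⟨e, (F.neg d).2⟩)
  have yy : y * y = 1 := (H y hy).elim fun _ k => k.tt F
  rcases h.inv (x * y) (F.sq c ▸ pm a b) (by
    rw [c1.symm.mul_mul_mul_comm, yy, mul_one]; exact (H x hx).elim fun _ k => k.tt F) with e | e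
  · exact h1 (mul_right_cancel (e.trans yy.symm))
  · exact h4 (e.symm.trans (par3 F H hu hx hy h2 h3 c2 c3 (e ▸ ht)))

omit H in
theorem mk (h : St E ν Δ t) (hs : IsConj z s) (e : (s, ρ 1) ∈ 𝐍[Δ]) (i : ℕ) (hi : i < 9 := by decide) :
    ∃ d, IsConj z d ∧ (d, ρ i) ∈ 𝐍[Δ] ∧
      ∀ y w, (y, w) ∈ 𝐍[Δ] → Commute y s → Commute w (ρ 1) → Commute w (ρ i) → Commute y d := by
  obtain ⟨l, hl, -, c⟩ := F.rf i hi
  obtain ⟨g, a⟩ := h.ex l hl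
  refine ⟨_, dc hs g, c ▸ pc (le_normalizer a) e, fun y w b c1 c2 c3 => ?_⟩
  have := mul_mem a (conj_mem_of_mem_normalizer e (inv_mem a))
  simp only [Prod.mk_mul_mk, Prod.inv_mk, ← mul_assoc, c] at this
  simpa using ((h.comm b this).2 (c3.mul_right c2.inv_right)).mul_right c1

omit H in
theorem ch {w1 w2 w3 : M} {v1 v2 v3 : Ω} (a : Rf ρ r w1 v1) (b : Rf ρ r w2 v2) (c : Rf ρ r w3 v3)
    (e1 : w1 • v2 = v2) (e2 : w1 • v3 = v3) (e3 : w2 • v3 = v3) :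
    ∃ g : M, w1 = g * ρ 1 * g⁻¹ ∧ w2 = g * ρ 2 * g⁻¹ ∧ w3 = g * ρ 3 * g⁻¹ := by
  have cj : ∀ {w v} (g : M) i, i < 9 → Rf ρ r w v → g • r i = v → w = g * ρ i * g⁻¹ := fun g i hi h e => by
    obtain ⟨l, c, d⟩ := F.rfl' i hi
    exact F.un ⟨g * l, by rw [mul_smul, c], by rw [← d]; group⟩ h (Or.inl e.symm)
  have nz : ∀ {w v} (g : M), Rf ρ r w v → ν • g • v ≠ g • v := fun g h e =>
    (F.neg h).2 (by rwa [← F.νs, smul_left_cancel_iff] at e)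
  have fx : ∀ {g w : M} {v : Ω}, (g * w * g⁻¹) • v = v → w • g⁻¹ • v = g⁻¹ • v := fun e => by
    rwa [mul_smul, mul_smul, ← eq_inv_smul_iff] at e
  obtain ⟨g, h1, rfl⟩ := id a
  obtain ⟨h, h2, h3⟩ := F.ch2 _ (nz g⁻¹ b) (fx e1)
  replace h1 : (g * h) • r 1 = v1 := by rw [mul_smul, h2, h1]
  replace h3 : (g * h) • r 2 = v2 := by rw [mul_smul, h3, smul_inv_smul]
  obtain ⟨l, l1, l2, l3⟩ := F.ch3 _ (nz (g * h)⁻¹ c) (fx (cj _ 1 (by decide) a h1 ▸ e2))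
    (fx (cj _ 2 (by decide) b h3 ▸ e3))
  exact ⟨g * h * l, cj _ 1 (by decide) a (by rw [mul_smul, l1, h1]),
    cj _ 2 (by decide) b (by rw [mul_smul, l2, h3]), cj _ 3 (by decide) c (by rw [mul_smul, l3, smul_inv_smul])⟩

theorem view {S : Set G} (hD : ∀ x ∈ S, IsConj z x) (hC : ∀ x ∈ S, ∀ y ∈ S, Commute x y)
    (hM : ∀ d, IsConj z d → (∀ y ∈ S, Commute y d) → d ∈ S) {p1 p2 p3 u : G} (h1 : p1 ∈ S) (h2 : p2 ∈ S)
    (h3 : p3 ∈ S) (hu : u ∈ S) (n12 : p1 ≠ p2) (n13 : p1 ≠ p3) (n23 : p2 ≠ p3) (n1 : p1 ≠ u) (n2 : p2 ≠ u)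
    (n3 : p3 ≠ u) : ∃! x, x ≠ u ∧ (x ∈ S ∧ x ≠ p1 ∧ x ≠ p2 ∧ x ≠ p3) ∧ ∃ d, IsConj z d ∧
      (∀ y, (y ∈ S ∧ y ≠ p1 ∧ y ≠ p2 ∧ y ≠ p3) → y ≠ x → Commute y d) ∧
      ¬ Commute d p1 ∧ ¬ Commute d p2 ∧ ¬ Commute d p3 := by
  have o : ∀ {Δ : Subgroup (G × M)} {x y : G} {w w' : M} {v v' : Ω} (u' : G), St E ν Δ u → (x, w) ∈ 𝐍[Δ] →
      (y, w') ∈ 𝐍[Δ] → Rf ρ r w v → Rf ρ r w' v' →
      x ∈ S → y ∈ S → u' ∈ S → x ≠ y → x ≠ u' → y ≠ u' → u' ≠ u → w • v' = v' :=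
    fun u' h a b c d hx hy hu' e1 e2 e3 e4 => rfo F H h a b c d (hD _ hu) (hD _ hx) (hD _ hy) (hD _ hu') e1 e2 e3
      e4.symm (hC _ hx _ hy) (hC _ hx _ hu') (hC _ hy _ hu')
  have q := fun {Δ} (h : St E ν Δ u) {x} (hx : x ∈ S) e => rf1 F H h (hD _ hu) (hD _ hx) e (hC _ hx _ hu)
  obtain ⟨Γ, k, a1, a2, a3⟩ : ∃ Γ, St E ν Γ u ∧ (p1, ρ 1) ∈ 𝐍[Γ] ∧ (p2, ρ 2) ∈ 𝐍[Γ] ∧ (p3, ρ 3) ∈ 𝐍[Γ] := by
    obtain ⟨Δ, h⟩ := H u (hD _ hu)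
    obtain ⟨w1, v1, a1, b1⟩ := q h h1 n1
    obtain ⟨w2, v2, a2, b2⟩ := q h h2 n2
    obtain ⟨w3, v3, a3, b3⟩ := q h h3 n3
    obtain ⟨g, rfl, rfl, rfl⟩ := ch F a1 a2 a3 (o p3 h b1 b2 a1 a2 h1 h2 h3 n12 n13 n23 n3)
      (o p2 h b1 b3 a1 a3 h1 h3 h2 n13 n12 n23.symm n2) (o p1 h b2 b3 a2 a3 h2 h3 h1 n23 n12.symm n13.symm n1)
    obtain ⟨Γ, k, -, c⟩ := h.tw F g
    exact ⟨Γ, k, (c _ _).2 b1, (c _ _).2 b2, (c _ _).2 b3⟩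
  have tri : ∀ y, (y ∈ S ∧ y ≠ p1 ∧ y ≠ p2 ∧ y ≠ p3) → y ≠ u → (y, ρ 4) ∈ 𝐍[Γ] ∨
      ∃ w, (y, w) ∈ 𝐍[Γ] ∧ Commute w (ρ 1) ∧ Commute w (ρ 4) ∧ Commute w (ρ 0) := fun y ⟨hy, e1, e2, e3⟩ e => by
    obtain ⟨w, v, a, b⟩ := q k hy e
    have c := o p2 k a1 b (F.rfl' 1) a h1 hy h2 e1.symm n12 e2 n2
    rcases or_assoc.2 (F.geo1 v (F.neg a).2 c (o p1 k a2 b (F.rfl' 2) a h2 hy h1 e2.symm n12.symm e1 n1)
      (o p1 k a3 b (F.rfl' 3) a h3 hy h1 e3.symm n13.symm e1 n1)) with d | d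
    exacts [Or.inl (F.un (F.rfl' 4) a d ▸ b), Or.inr ⟨w, b, (F.st' a (Or.inl c)).symm,
      (F.st' a (Or.inl d.1)).symm, (F.st' a (Or.inl d.2)).symm⟩]
  obtain ⟨x, hx, a4⟩ : ∃ x ∈ S, (x, ρ 4) ∈ 𝐍[Γ] := by_contra fun c => by
    obtain ⟨d, d1, d2, d3⟩ := mk F k (hD _ h1) a1 4
    refine c ⟨d, hM d d1 fun y hy => by_contra fun e => ?_, d2⟩
    rcases tri y ⟨hy, fun f => e (f ▸ d3 _ _ a1 (.refl _) (.refl _) (F.cm 1 4)),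
      fun f => e (f ▸ d3 _ _ a2 (hC _ h2 _ h1) (F.cm 2 1) (F.cm 2 4)),
      fun f => e (f ▸ d3 _ _ a3 (hC _ h3 _ h1) (F.cm 3 1) (F.cm 3 4))⟩
      (fun f => e (f ▸ (k.ct F d2).symm)) with f | ⟨w, f1, f2, f3, -⟩
    exacts [c ⟨y, hy, f⟩, e (d3 _ _ f1 (hC _ hy _ h1) f2 f3)]
  have xp : ∀ {p} i, 0 < i ∧ i < 4 → (p, ρ i) ∈ 𝐍[Γ] → x ≠ p := fun i hi a e => F.nr 4 (by decide) (by
    rw [← F.ρr 4, rf2 F k (e ▸ a) a4 (F.rfl' i (by omega)) (F.rfl' 4), F.ort i 4 (by omega)])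
  have xs := And.intro hx (And.intro (xp 1 (by decide) a1) (And.intro (xp 2 (by decide) a2) (xp 3 (by decide) a3)))
  obtain ⟨d, d1, d2, d3⟩ := mk F k (hD _ h1) a1 0
  refine ⟨x, ⟨fun e => F.out (F.rfl' 4) ((k.par F (le_normalizer k.tν) (e ▸ a4)).2 F.νE), xs, d, d1,
    fun y hy e => by_contra fun c => ?_, mt (rfc F k d2 a1 (F.rfl' 1)) F.br.1,
    mt (rfc F k d2 a2 (F.rfl' 2)) F.br.2.1, mt (rfc F k d2 a3 (F.rfl' 3)) F.br.2.2⟩,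
    fun x' ⟨e, _, d, d1, d2, d3⟩ => by_contra fun c => ?_⟩
  · rcases tri y hy (fun f => c (f ▸ (k.ct F d2).symm)) with f | ⟨w, f1, f2, -, f3⟩
    exacts [F.nr 4 (by decide) ((F.ρr 4).symm.trans (o p1 k f a4 (F.rfl' 4) (F.rfl' 4) hy.1 hx h1 e hy.2.1 xs.2.1 n1)),
      c (d3 _ _ f1 (hC _ hy.1 _ h1) f2 f3)]
  obtain ⟨w, v, a, b⟩ := rf1 F H k (hD _ hu) d1 (fun f => d3.1 (f ▸ hC _ hu _ h1))
    (d2 u ⟨hu, n1.symm, n2.symm, n3.symm⟩ e.symm).symm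
  have cx := d2 x xs (Ne.symm c)
  have c4 := rfc F k a4 b a cx
  have key : ∀ {p} i, 0 < i ∧ i < 4 → p ∈ S → (p, ρ i) ∈ 𝐍[Γ] → ρ i • v = v → Commute d p := fun i hi hp a' e => by
    have c' := (F.st' a (Or.inl e)).symm.mul_right c4.symm
    have s := fun {x} (hx : x ∈ S) => (H x (hD x hx)).elim fun _ k => k.tt F
    have := (k.inner (pm a' a4) (F.ev (F.out (F.rfl' i (by omega))) (F.out (F.rfl' 4))) (by
      rw [(F.cm 4 i (by omega)).mul_mul_mul_comm, F.sq (F.rfl' i (by omega)), F.sq (F.rfl' 4), mul_one]) (by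
      rw [(hC _ hx _ hp).mul_mul_mul_comm, s hp, s hx, mul_one])).elim (fun f => (k.comm b f).2 c')
      fun f => (k.comm b f).2 ((F.cν w).mul_right c')
    simpa using this.mul_right cx.symm.inv_right
  rcases F.geo2 v (F.pm a c4) with f | f | f
  exacts [d3.1 (key 1 (by decide) h1 a1 f), d3.2.1 (key 2 (by decide) h2 a2 f), d3.2.2 (key 3 (by decide) h3 a3 f)]

theorem main [Finite G] (ht : IsConj z t) (hs : IsConj z s) (h4 : Commute s t) : s = t := by_contra fun h3 => by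
  obtain ⟨Δ, h⟩ := H t ht
  obtain ⟨w, v, ⟨g, -, rfl⟩, e⟩ := rf1 F H h ht hs h3 h4
  obtain ⟨Δ, h, e⟩ := h.twN F e
  choose d d1 d2 d3 using fun i : Fin 8 => mk F h hs e (i + 1) (by omega)
  have c1 : ∀ i, Commute s (d i) := fun i => d3 i _ _ e (.refl _) (.refl _) (by
    rcases eq_or_ne i 0 with rfl | c
    exacts [.refl _, F.cm 1 _ (by omega)])
  have c2 : ∀ i k, Commute (d i) (d k) := fun i k => by
    rcases eq_or_ne i k with rfl | c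
    exacts [.refl _, d3 k _ _ (d2 i) (c1 i).symm (rfc F h (d2 i) e (F.rfl' 1) (c1 i).symm) (F.cm _ _ (by omega))]
  have n1 : ∀ i, d i ≠ t := fun i c => F.out (F.rfl' (i + 1) (by omega))
    ((h.par F (le_normalizer h.tν) (c ▸ d2 i)).2 F.νE)
  have n2 : ∀ i k, i ≠ k → d i ≠ d k := fun i k c e => F.nr (i + 1) (by omega) (by
    rw [← F.ρr _ (by omega), rf2 F h (d2 k) (e ▸ d2 i) (F.rfl' _ (by omega)) (F.rfl' _ (by omega)),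
      F.ort _ _ (by omega)])
  obtain ⟨S, hS, ⟨hD, hC⟩, hM⟩ := (Set.toFinite {S : Set G | (∀ x ∈ S, IsConj z x) ∧
    ∀ x ∈ S, ∀ y ∈ S, Commute x y}).exists_le_maximal (a := insert t (Set.range d)) ⟨by simp [ht, d1, -isConj_iff], by
      simp [c2, fun i => h.ct F (d2 i), fun i => (h.ct F (d2 i)).symm]⟩
  have m := fun i => hS (Or.inr ⟨i, rfl⟩)
  have V := fun u hu => view F H hD hC (fun d a b => hM (y := insert d S) ⟨by simpa [a, -isConj_iff] using hD, by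
      simpa using And.intro (fun y hy => (b y hy).symm) fun x hx => And.intro (b x hx) (hC x hx)⟩ (Set.subset_insert _ _)
      (Or.inl rfl)) (m 0) (m 1) (m 2) (u := u) hu (n2 0 1 (by decide)) (n2 0 2 (by decide)) (n2 1 2 (by decide))
  have W : ∀ u ∈ S, d 0 ≠ u → d 1 ≠ u → d 2 ≠ u → (u ∈ S ∧ u ≠ d 0 ∧ u ≠ d 1 ∧ u ≠ d 2) ∧ ∃ d', IsConj z d' ∧
      (∀ y, (y ∈ S ∧ y ≠ d 0 ∧ y ≠ d 1 ∧ y ≠ d 2) → y ≠ u → Commute y d') ∧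
      ¬ Commute d' (d 0) ∧ ¬ Commute d' (d 1) ∧ ¬ Commute d' (d 2) := fun u hu a b c => by
    obtain ⟨x, ⟨x1, x2⟩, x3⟩ := V u hu a b c
    obtain ⟨y, ⟨y1, y2⟩, -⟩ := V x x2.1.1 x2.1.2.1.symm x2.1.2.2.1.symm x2.1.2.2.2.symm
    exact (by_contra fun c => y1 (x3 y ⟨c, y2⟩) : y = u) ▸ y2
  exact n2 3 4 (by decide) ((V t (hS (Or.inl rfl)) (n1 0) (n1 1) (n1 2)).unique
    ⟨n1 3, W _ (m 3) (n2 _ _ (by decide)) (n2 _ _ (by decide)) (n2 _ _ (by decide))⟩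
    ⟨n1 4, W _ (m 4) (n2 _ _ (by decide)) (n2 _ _ (by decide)) (n2 _ _ (by decide))⟩)

end Cfsg.Agent.Std.O8
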