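import Cfsg.Agent.Std.O8W
import Cfsg.Agent.Std.O8C
import Cfsg.Agent.Std.RedK2
import Cfsg.Agent.S2607
import Cfsg.Agent.S2098
import Cfsg.Agent.S5387
import Cfsg.Agent.Spor.ModelO8p

/-! Standard subgroups `2.O₈⁺(2)`: the model of the component. -/

set_option autoImplicit false

namespace Cfsg.Agent.Std.O8

open Cfsg Subgroup PLocal PLocal.Amb ON Cfsg.Agent.Comp O8W

section
variable {A S M : Type*} [Group A] [Group S] [Group M] {τ : A →* S}

theorem odd_mul [Finite A] (hR : ∀ R : Sylow 2 A, IsCyclic (R : Subgroup A)) {x y : A} (hx : Odd (orderOf x))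
    (hy : Odd (orderOf y)) : Odd (orderOf (x * y)) := by
  obtain ⟨T⟩ := (inferInstance : Nonempty (Sylow 2 A))
  obtain ⟨N, hN, hc⟩ := Inv.exists_normal_complement_of_cyclic_sylow_two T (hR T)
  obtain ⟨k, hk⟩ := T.isPGroup'.exists_card_eq
  have m : ∀ x : A, Odd (orderOf x) → x ∈ N := fun x hx => zpowers_le.2 (N.pow_index_mem x)
    (mem_zpowers_pow_iff.2 (by
      rw [hc.symm.index_eq_card, hk]; exact (Nat.coprime_two_left.2 hx).pow_left k))
  refine Odd.of_dvd_nat ?_ (N.orderOf_dvd_natCard (mul_mem (m x hx) (m y hy)))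
  rw [← hc.index_eq_card, ← Nat.not_even_iff_odd, even_iff_two_dvd]
  exact T.not_dvd_index

theorem exists_aut (hs : Function.Surjective τ) (hk : τ.ker = center A) (β : MulAut A) :
    ∃ s : MulAut S, ∀ g, s (τ g) = τ (β g) := by
  let e := QuotientGroup.quotientKerEquivOfSurjective τ hs
  refine ⟨e.symm.trans ((QuotientGroup.congr τ.ker τ.ker β
    (by rw [hk]; exact characteristic_iff_map_eq.1 inferInstance β)).trans e), fun g => ?_⟩
  rw [MulEquiv.trans_apply, show e.symm (τ g) = g from e.symm_apply_eq.2 rfl]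
  rfl

theorem lift_eq (hp : commutator A = ⊤) {s : M →* S} (hs : s.ker ≤ center M) {f g : A →* M}
    (h : ∀ a, s (f a) = s (g a)) (a : A) : f a = g a :=
  FGS.eq_on_commutator_of_comp_eq hs (MonoidHom.ext h) (hp ▸ mem_top a)

theorem all_aut (hp : commutator A = ⊤) (hs : Function.Surjective τ) (hk : τ.ker = center A) {n : ℕ}
    (σ : Fin (n + 1) → MulAut A) (h : ∀ i j, (∀ z ∈ center A, σ i z = σ j z) → i = j)
    (hn : Nat.card (Out S) = n + 1) (α : MulAut S) : ∃ j, ∃ l : A, ∀ g, α (τ g) = τ (l * σ j g * l⁻¹) := by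
  have : Finite (Out S) := Nat.finite_of_card_ne_zero (by omega)
  choose s e using fun j => exists_aut hs hk (σ j)
  have key : ∀ (β : MulAut S) j, (s j : Out S) = β → ∃ l : A, ∀ g, β (τ g) = τ (l * σ j g * l⁻¹) :=
    fun β j c => by
    obtain ⟨c, hc⟩ := (QuotientGroup.eq.1 c : (s j)⁻¹ * β ∈ Inn S)
    obtain ⟨l, hl⟩ := hs (s j c)
    refine ⟨l, fun g => ?_⟩
    rw [show β = s j * MulAut.conj c by rw [hc]; simp]
    simp [hl, e]
  obtain ⟨j, hj⟩ := ((Nat.bijective_iff_injective_and_card fun j => (s j : Out S)).2 ⟨fun i j c => by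
    obtain ⟨l, hl⟩ := key _ _ c
    refine h i j fun z hz => ?_
    have := lift_eq hp hk.le (f := (σ j).toMonoidHom) (g := (MulAut.conj l).toMonoidHom.comp (σ i))
      (fun a => (e j a).symm.trans (hl a)) z
    have c : σ i z ∈ center A := characteristic_iff_map_le.1 inferInstance (σ i) ⟨z, hz, rfl⟩
    simpa [mem_center_iff.1 c l] using this.symm,
    by simp [hn]⟩).2 α
  exact ⟨j, key α j hj⟩

theorem exists_cover [Finite A] [Finite M] {C : Type*} [CommGroup C] (hC : HasSchurMultiplier S C)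
    (hp : commutator S = ⊤) (hτ : IsStemExtension τ) (hk : Nat.card C ≤ Nat.card τ.ker)
    {s : M →* S} (hs : Function.Surjective s) (hc : s.ker ≤ center M) : ∃ φ : A →* M, ∀ g, s (φ g) = τ g := by
  let P : Subgroup (A × M) := (τ.comp (MonoidHom.fst _ _)).eqLocus (s.comp (MonoidHom.snd _ _))
  let ξ := τ.comp ((MonoidHom.fst _ _).comp P.subtype)
  have hξ : Function.Surjective ξ := fun x =>
    ⟨⟨((hτ.1 x).choose, (hs x).choose), (hτ.1 x).choose_spec.trans (hs x).choose_spec.symm⟩,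
      (hτ.1 x).choose_spec⟩
  have hc : ξ.ker ≤ center P := fun y hy => mem_center_iff.2 fun w => Subtype.ext (Prod.ext
    (mem_center_iff.1 (hτ.2.1 hy) _) (mem_center_iff.1 (hc (Eq.trans (Eq.symm y.2) hy)) _))
  let π := ξ.comp (commutator P).subtype
  have hπ : Function.Surjective π := fun x => by
    have h1 : x ∈ (commutator P).map ξ := by
      rw [map_commutator_eq, MonoidHom.range_eq_top.2 hξ, ← commutator_def, hp]
      trivial
    obtain ⟨y, hy, rfl⟩ := h1
    exact ⟨⟨y, hy⟩, rfl⟩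
  obtain ⟨f, hf⟩ := FGS.HasSchurMultiplier.exists_surjective hC (σ := π) ⟨hπ, fun y hy => mem_center_iff.2 fun w =>
    Subtype.ext (mem_center_iff.1 (hc hy) w.1), fun y _ => by
    obtain ⟨w, hw, e⟩ := (FGS.commutator_eq_map_of_comp_surjective hc
      (η := (commutator P).subtype) hπ).le y.2
    exact (Subtype.ext e : w = y) ▸ hw⟩
  have := FGS.HasSchurMultiplier.finite hC
  let e := MulEquiv.ofBijective _ (S5387.bij_of (σ := τ) (p := (MonoidHom.fst _ _).comp (P.subtype.comp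
    (commutator P).subtype)) hτ hπ ((Nat.card_le_card_of_surjective f hf).trans hk) rfl)
  exact ⟨((MonoidHom.snd _ _).comp (P.subtype.comp (commutator P).subtype)).comp e.symm.toMonoidHom,
    fun g => (Eq.symm (e.symm g).1.2).trans (congrArg τ (e.apply_symm_apply g))⟩

end

theorem z2X : wp O8X.ns [10] ∈ X := O8X.X_mem _ (by decide)

/-- first central involution -/
noncomputable def za : X := ⟨_, z1X⟩

/-- second central involution -/
noncomputable def zb : X := ⟨_, z2X⟩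

theorem cen (u : List ℕ) (h : wp O8X.ns u ∈ X) (c : symB 1024 10 O8X.ns [] O8X.X_ss0 u = true) :
    (⟨_, h⟩ : X) ∈ center X ∧ (⟨_, h⟩ : X) * ⟨_, h⟩ = 1 :=
  ⟨mem_center_iff.2 fun g => Subtype.ext ((of_symB O8X.ctx c).1 g g.2).symm,
    Subtype.ext ((of_symB O8X.ctx c).2.elim id id)⟩

theorem ca : za ∈ center X ∧ za * za = 1 := cen _ _ (by decide +kernel)

theorem cb : zb ∈ center X ∧ zb * zb = 1 := cen _ _ (by decide +kernel)

theorem cm (z u v : List ℕ) (n : ℕ) (h : wp O8X.ns z ∈ X) (c : and' (and' (inK 3 u) (inK 3 v)) (eqW 1024 10 O8X.ns z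
    (powW (appendR (appendR (appendR u v) (invW u)) (invW v)) n)) = true) : (⟨_, h⟩ : X) ∈ commutator X := by
  simp only [and'_eq_true] at c
  have k : Known O8X.ns X 3 := known_gen (by decide +kernel)
  have := pow_mem (commutator_mem_commutator (mem_top (⟨_, k.word c.1.1⟩ : X)) (mem_top (⟨_, k.word c.1.2⟩ : X))) n
  refine (Subtype.ext ?_ : _ = (⟨_, h⟩ : X)) ▸ this
  simp [wp_eq_of_eqW O8X.ctx c.2, wp_powW, wp_invW, commutatorElement_def, mul_assoc]

theorem exists_tau : ∃ τ : X →* gen Spor.ModelO8p.ns Spor.ModelO8p.G_ss0, IsStemExtension τ ∧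
    4 ≤ Nat.card τ.ker ∧ ∀ x, τ x = 1 → x = 1 ∨ x = za ∨ x = zb ∨ x = za * zb := by
  have h1 : gen O8X.ns [[8], [10]] ≤ X := gen_le_iff.2 fun u hu => O8X.X_mem u (by revert u; decide)
  have h2 : 4 ≤ Nat.card (gen O8X.ns [[8], [10]]) :=
    le_trans (by decide +kernel) (lbVal_le O8X.ctx [(240, 1, [[8], [10]]), (0, 1, [[10]])])
  obtain ⟨τ, a, b, -⟩ := exists_surj_masks O8X.ctx Spor.ModelO8p.ctx (K := X) (us := O8X.X_ss0)
    (ws' := Spor.ModelO8p.G_ss0) (n := 120) (M := O8X.MK) h1 le_rfl [0] 12 (by decide +kernel) (by decide +kernel)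
    (by rw [O8X.X_card, Spor.ModelO8p.G_card]; omega)
  have h3 : ∀ x, τ x = 1 → x = 1 ∨ x = za ∨ x = zb ∨ x = za * zb := fun x hx => by
    have c : x.1 ∈ (zpowers zb ⊔ zpowers za).map X.subtype := gen_le_iff.2 (by
      simp only [List.forall_mem_cons]
      exact ⟨⟨_, mem_sup_right (mem_zpowers _), rfl⟩, ⟨_, mem_sup_left (mem_zpowers _), rfl⟩, by simp⟩) (b.le hx)
    replace c := (mem_map_iff_mem X.subtype_injective).1 c
    rw [mem_adjoin (fun a h => by
      rwa [← mem_center_iff.1 ca.1, mul_inv_cancel_right]) (ca.2 ▸ one_mem _), mem_zpowers_two cb.2,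
      mem_zpowers_two cb.2, ← eq_mul_inv_iff_mul_eq, ← eq_mul_inv_iff_mul_eq, inv_eq_of_mul_eq_one_right ca.2,
      one_mul, mem_center_iff.1 ca.1] at c
    tauto
  have h4 := cm [8] [1, 2] [0, 2, 1] 6 z1X (by decide +kernel)
  have h5 := cm [10] [3, 1, 2] [2, 1, 3] 7 z2X (by decide +kernel)
  refine ⟨τ, ⟨a, fun x hx => ?_, fun x hx => ?_⟩, ?_, h3⟩
  · rcases h3 x hx with rfl | rfl | rfl | rfl
    exacts [one_mem _, ca.1, cb.1, mul_mem ca.1 cb.1]
  · rcases h3 x hx with rfl | rfl | rfl | rfl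
    exacts [one_mem _, h4, h5, mul_mem h4 h5]
  · rwa [b, Nat.card_congr (subgroupOfEquivOfLe h1).toEquiv]

/-- conjugation by a letter -/
noncomputable def γ (a : ℕ) (h : a = 4 ∨ a = 6) : MulAut X :=
  X.normalizerMonoidHom ⟨_, @mem_normalizer_fintype _ _ _ finX _ (cjX a h)⟩

theorem γ_eq (a : ℕ) (h : a = 4 ∨ a = 6) {u v : List ℕ} {x y : X} (hx : x.1 = wp O8X.ns u) (hy : y.1 = wp O8X.ns v)
    (c : eqW 1024 10 O8X.ns (appendR [a] u) (appendR v [a]) = true) : γ a h x = y := by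
  have := wp_eq_of_eqW O8X.ctx c
  rw [appendR_eq, appendR_eq, wp_append, wp_append, ← hx, ← hy, ← mul_inv_eq_iff_eq_mul] at this
  exact Subtype.ext this

local notation "θ" => γ 4 (Or.inl rfl)
local notation "κ" => γ 6 (Or.inr rfl)

theorem γz : θ za = zb ∧ θ zb = za * zb ∧ κ za = za ∧ κ zb = za * zb :=
  ⟨γ_eq _ _ rfl rfl (by decide +kernel), γ_eq _ _ rfl (wp_append _ [8] [10]).symm (by decide +kernel),
    γ_eq _ _ rfl rfl (by decide +kernel), γ_eq _ _ rfl (wp_append _ [8] [10]).symm (by decide +kernel)⟩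

theorem zne : za ≠ 1 ∧ zb ≠ 1 ∧ za ≠ zb := by
  have h : ∀ (u : List ℕ) p q, p < 1024 → mapsW O8X.ns u p q = true → wp O8X.ns u p = q :=
    fun u p q => wp_apply_of_mapsW O8X.ctx.ok
  have h1 := h [8] 240 241 (by decide) (by decide +kernel)
  have h2 := h [10] 240 240 (by decide) (by decide +kernel)
  have h3 := h [10] 0 1 (by decide) (by decide +kernel)
  refine ⟨fun c => ?_, fun c => ?_, fun c => ?_⟩
  · rw [show wp O8X.ns [8] = 1 from congrArg Subtype.val c] at h1; simp at h1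
  · rw [show wp O8X.ns [10] = 1 from congrArg Subtype.val c] at h3; simp at h3
  · rw [show wp O8X.ns [8] = wp O8X.ns [10] from congrArg Subtype.val c, h2] at h1; omega

theorem ident {L S : Type*} [Group L] [Finite L] [Group S] {s : L →* S} (hs : Function.Surjective s)
    (hk : s.ker = center L) [hp : Group.IsPerfect L] [IsSimpleGroup S]
    (e : S ≃* gen Spor.ModelO8p.ns Spor.ModelO8p.G_ss0)
    (hC : HasSchurMultiplier S (Multiplicative (ZMod 2 × ZMod 2))) (ho : Nat.card (Out S) = 6) {t : L}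
    (h1 : t ≠ 1) (h2 : t ∈ center L) (h3 : ∀ x ∈ center L, x = 1 ∨ x = t) :
    ∃ φ : X →* L, Function.Surjective φ ∧ φ zb = t ∧ (∀ x, φ x = 1 ↔ x = 1 ∨ x = za) ∧
      ∀ α : MulAut L, ∃ y : Y, ∀ x x' : X, x'.1 = y * x * y⁻¹ → α (φ x) = φ x' := by
  obtain ⟨τ0, c1, c2, c3⟩ := exists_tau
  have c4 := FGS.IsStemExtension.mulEquiv_comp c1 e.symm
  have pS : commutator S = ⊤ := (Group.IsPerfect.ofSurjective hs).1
  have pX : commutator X = ⊤ := eq_top_iff.2 fun g _ => by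
    obtain ⟨a, rfl⟩ := FGS.surjective_of_stem c4 (η := (commutator X).subtype) (fun y => by
      obtain ⟨y, hy, rfl⟩ : y ∈ (commutator X).map (e.symm.toMonoidHom.comp τ0) := by
        rw [map_commutator_eq, MonoidHom.range_eq_top.2 c4.1, ← _root_.commutator_def, pS]; trivial
      exact ⟨⟨y, hy⟩, rfl⟩) g
    exact a.2
  have zS : center S = ⊥ := ((inferInstance : (center S).Normal).eq_bot_or_eq_top).resolve_right fun c =>
    top_ne_bot (α := Subgroup S) (pS.symm.trans (by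
      rw [_root_.commutator_def, commutator_eq_bot_iff_le_centralizer, coe_top, centralizer_univ, c]))
  have k0 : (e.symm.toMonoidHom.comp τ0).ker = center X := le_antisymm c4.2.1 fun x hx =>
    zS.le (mem_center_iff.2 fun g => by obtain ⟨g, rfl⟩ := c4.1 g; rw [← map_mul, ← map_mul, mem_center_iff.1 hx])
  have cZ : ∀ x ∈ center X, x = 1 ∨ x = za ∨ x = zb ∨ x = za * zb := fun x hx =>
    c3 x (e.symm.map_eq_one_iff.1 (k0.ge hx))
  obtain ⟨φ0, c5⟩ := exists_cover hC pS c4 (by simpa [← MonoidHom.comap_ker] using c2) hs hk.le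
  have s0 := FGS.surjective_of_stem (σ := s) ⟨hs, hk.le, hp.1 ▸ le_top⟩ (η := φ0)
    fun y => (c4.1 y).imp fun x h => (c5 x).trans h
  have k1 : ∀ x, φ0 x ∈ center L ↔ x ∈ center X := fun x => by rw [← hk, ← k0, MonoidHom.mem_ker, c5]; rfl
  have tt : t * t = 1 := (h3 _ (mul_mem h2 h2)).resolve_right (by simpa)
  obtain ⟨z1, z2, z3, z4⟩ := γz
  have ba : zb * (za * zb) = za := by rw [mem_center_iff.1 cb.1, ← mul_assoc, cb.2, one_mul]
  obtain ⟨β, b1, b2⟩ : ∃ β : MulAut X, φ0 (β za) = 1 ∧ φ0 (β zb) = t := by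
    rcases h3 _ ((k1 _).2 ca.1) with a | a <;> rcases h3 _ ((k1 _).2 cb.1) with b | b
    · obtain ⟨x, rfl⟩ := s0 t
      rcases cZ x ((k1 x).1 h2) with rfl | rfl | rfl | rfl <;> simp [a, b] at h1
    exacts [⟨1, a, b⟩, ⟨θ, by simp [z1, b], by simp [z2, a, b]⟩,
      ⟨θ * θ, by simp [z1, z2, a, b, tt], by simp only [MulAut.mul_apply, z2, map_mul θ, z1, ba, a]⟩]
  let φ := φ0.comp β.toMonoidHom
  have s1 : Function.Surjective φ := s0.comp β.surjective
  have k2 : (s.comp φ).ker = center X := by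
    ext x
    rw [← MonoidHom.comap_ker, hk]
    exact (k1 _).trans (SetLike.ext_iff.1 (characteristic_iff_comap_eq.1 centerCharacteristic β) x)
  have k3 : ∀ x, φ x = 1 ↔ x = 1 ∨ x = za := fun x => ⟨fun h => by
    rcases cZ x (k2.le (congrArg s h |>.trans (map_one s))) with rfl | rfl | rfl | rfl
    exacts [Or.inl rfl, Or.inr rfl, absurd (b2.symm.trans h) h1, absurd (by
      rwa [map_mul, show φ za = 1 from b1, show φ zb = t from b2, one_mul] at h) h1],
    by rintro (rfl | rfl); exacts [map_one _, b1]⟩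
  refine ⟨φ, s1, b2, k3, fun α => ?_⟩
  obtain ⟨α', hα⟩ := exists_aut hs hk α
  obtain ⟨n1, n2, n3⟩ := zne
  have n4 : za * zb ≠ za := by simpa
  have n5 : za * zb ≠ zb := by simpa
  let σ : Fin 6 → MulAut X := ![1, κ, θ, θ * κ, θ * θ, θ * θ * κ]
  have hσ : ∀ i, (σ i za, σ i zb) =
      ![(za, zb), (za, za * zb), (zb, za * zb), (zb, za), (za * zb, za), (za * zb, zb)] i := fun i => by
    fin_cases i <;> simp [σ, -map_mul, z1, z2, z3, z4, map_mul θ, ba]
  obtain ⟨j, l, hl⟩ := all_aut pX (hs.comp s1) k2 σ (fun i j h => by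
    have := (hσ i).symm.trans ((Prod.ext (h _ ca.1) (h _ cb.1)).trans (hσ j))
    revert this
    fin_cases i <;> fin_cases j <;> simp [n3, n3.symm, n4, n5, n4.symm, n5.symm]) ho α'
  replace hl := lift_eq pX hk.le (f := α.toMonoidHom.comp φ)
    (g := φ.comp ((MulAut.conj l).toMonoidHom.comp (σ j).toMonoidHom))
    fun a => (hα _).symm.trans (hl a)
  have c6 := (k3 (l * σ j za * l⁻¹)).1 ((hl za).symm.trans (by simp [show φ za = 1 from b1]))
  have c7 : ∀ z ∈ center X, l * z * l⁻¹ = z := fun z hz => by rw [mem_center_iff.1 hz, mul_inv_cancel_right]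
  have c9 := c7 _ (mul_mem ca.1 cb.1)
  have c10 : za * zb ≠ 1 := fun c => n3 (mul_left_cancel (ca.2.trans c.symm))
  rw [show σ j za = _ from congrArg Prod.fst (hσ j)] at c6
  fin_cases j
  · exact ⟨⟨l, XY l.2⟩, fun x x' h => (hl x).trans (congrArg φ (Subtype.ext h.symm))⟩
  · exact ⟨⟨l * wp O8X.ns [6], mul_mem (XY l.2) (wp_mem_gen _ List.mem_cons_self)⟩, fun x x' h =>
      (hl x).trans (congrArg φ (Subtype.ext (h.trans (by simp [σ, γ, mul_assoc])).symm))⟩
  all_goals simp [c7 _ cb.1, c9, n2, n3.symm, n4, c10] at c6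

theorem exists_st {G : Type*} [Group G] [Finite G] {L : Subgroup G} (hL : IsStandardSubgroup L)
    {F : Type*} [Field F] [Fintype F] (hF : Fintype.card F = 2)
    (e : (L ⧸ center L) ≃* POmega F (quadFormPlus 4 F))
    (hR : ∀ R : Sylow 2 𝐂[L], IsCyclic (R : Subgroup 𝐂[L])) {t : G} (ht : orderOf t = 2) (h0 : t ∈ L)
    (h1 : t ∈ 𝐂[L]) (hZ : ∀ a ∈ L, a ∈ 𝐂[L] → a = 1 ∨ a = t) :
    ∃ E Δ, Fa E (V [28]) (V jw) O8W.ρ O8W.r ∧ St E (V [28]) Δ t := by
  obtain ⟨-, π, p1, p2, p3, p4⟩ := exists_pi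
  have := hL.1.1
  have := hL.1.2
  have := e.symm.isSimpleGroup
  obtain ⟨f⟩ := (if_pos rfl).mp (S2607.result (F := F) (f := 1) (m := 4) le_rfl hF le_rfl)
  obtain ⟨φ, f1, f2, f3, f4⟩ := ident (s := e.toMonoidHom.comp (QuotientGroup.mk' _))
    (e.surjective.comp (QuotientGroup.mk'_surjective _))
    (Subgroup.ext fun a => e.map_eq_one_iff.trans (QuotientGroup.eq_one_iff a))
    ((Class.pomegaCongr (Class.ringEquivZMod hF) _ _ (Class.quadFormPlus_comp _ 4)).trans Spor.ModelO8p.equivP)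
    (S2098.result hF) (by rw [Nat.card_congr f.toEquiv]; simp [Fintype.card_perm, Nat.factorial]) (t := ⟨t, h0⟩)
    (fun c => by rw [show t = 1 from congrArg Subtype.val c] at ht; simp at ht)
    (mem_center_iff.2 fun a => Subtype.ext (h1 a a.2)) fun x hx => (hZ x x.2 fun a ha =>
      congrArg Subtype.val (mem_center_iff.1 hx ⟨a, ha⟩)).imp Subtype.ext Subtype.ext
  have v : ∀ u u' (h : wp O8X.ns u ∈ X), and' (inK 134217727 u') (shiftB 1024 10 O8X.ns 256 8 ns 0 240 u u') = true →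
      π (inclusion XY ⟨_, h⟩) = V u' := fun u u' h c =>
    Subtype.ext ((p4 u u' _ ((and'_eq_true _ _).1 c).2).trans (Vc ((and'_eq_true _ _).1 c).1).symm)
  have m : ∀ x : X, π (inclusion XY x) ∈ (X.subgroupOf Y).map π := fun x => ⟨_, x.2, rfl⟩
  let Δ := ((L.subtype.comp φ).prod (π.comp (inclusion XY))).range
  have i1 : ∀ g, (g, 1) ∈ Δ → g = 1 := by
    rintro _ ⟨x, c⟩
    have := (mem_zpowers_two (t := inclusion XY za) (by rw [← map_mul, ca.2, map_one])).1
      (p2.le (congrArg Prod.snd c : π (inclusion XY x) = 1))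
    rw [map_eq_one_iff _ (inclusion_injective XY), (inclusion_injective XY).eq_iff, ← f3] at this
    exact (congrArg Prod.fst c).symm.trans (congrArg Subtype.val this)
  have ce : ∀ k, (k, 1) ∈ 𝐍[Δ] → k ∈ 𝐂[L] := fun k hk a ha => by
    obtain ⟨x, c⟩ := f1 ⟨a, ha⟩
    obtain rfl : φ x = a := congrArg Subtype.val c
    have := i1 (k * φ x * k⁻¹ * (φ x : G)⁻¹) (by
      simpa using mul_mem (conj_mem_of_mem_normalizer hk ⟨x, rfl⟩) (inv_mem (⟨x, rfl⟩ : _ ∈ Δ)))
    rwa [mul_inv_eq_one, mul_inv_eq_iff_eq_mul, eq_comm] at this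
  refine ⟨(X.subgroupOf Y).map π, Δ, fa ((index_map_eq _ p1 (p2 ▸ zpowers_le.2 z1X)).trans p3)
    (v [0] [0] (wp_mem_gen _ (by decide)) (by decide +kernel) ▸ m _)
    (v [2] [2] (wp_mem_gen _ (by decide)) (by decide +kernel) ▸ m _), i1, ?_, ?_, ?_,
    ⟨zb, Prod.ext (congrArg Subtype.val f2) (v [10] [28] _ (by decide +kernel))⟩, fun n hn => ?_,
    fun k hk => eq_of_sq hR ht h0 h1 (ce k hk), fun k k' a b c d => ?_⟩
  · rintro _ ⟨x, c⟩
    refine (congrArg Prod.snd c).symm.trans ?_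
    rcases (f3 x).1 (Subtype.ext (congrArg Prod.fst c)) with rfl | rfl
    exacts [map_one (π.comp (inclusion XY)), p2.ge (mem_zpowers _)]
  · rintro _ ⟨x, hx, rfl⟩
    exact ⟨_, ⟨x, hx⟩, rfl⟩
  · rintro _ _ ⟨x, ⟨⟩⟩
    exact m x
  · obtain ⟨y, hy⟩ := f4 (L.normalizerMonoidHom ⟨n, mem_normalizer_of_commute hL ht h1 hn⟩)
    refine ⟨π y, mem_normalizer_fintype ?_⟩
    rintro _ ⟨x, rfl⟩
    have c : y.1 ∈ 𝐍[X] := gen_le_iff.2 (List.forall_mem_cons.2 ⟨@mem_normalizer_fintype _ _ _ finX _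
      (cjX 6 (Or.inr rfl)), fun u hu => le_normalizer (wp_mem_gen _ hu)⟩) y.2
    refine ⟨⟨_, conj_mem_of_mem_normalizer c x.2⟩, Prod.ext (congrArg Subtype.val (hy x _ rfl).symm) ?_⟩
    exact (map_mul_inv π (y * inclusion XY x) y).trans (congrArg (· * _) (map_mul π _ _))
  · simpa using odd_mul hR (x := ⟨k, ce k a⟩) (y := ⟨k', ce k' b⟩) (by simpa using c) (by simpa using d)

end Cfsg.Agent.Std.O8
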