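import Mathlib
import Cfsg.Agent.Std.CoMono
import Cfsg.Agent.Spor.LeechBasis

/-! Kernel computations with the involutions of `M₂₄` acting on the Golay code. -/

set_option autoImplicit false

namespace Cfsg.Agent.Std.Co

open Cfsg Subgroup PLocal.Amb Cfsg.Agent.Spor Cfsg.Agent.Spor.Leech Cfsg.Agent.Spor.M24C
open Cfsg.Agent.Comp
open scoped symmDiff Pointwise

theorem GC_of {m : ℕ} (h : isCW m = true) : setOf' m ∈ GC := setOf'_mem_codeSets h

theorem comm_setOf' {z f w : ℕ} (hz : okM z = true) (h : f ^^^ imgC z f = w) :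
    setOf' f ∆ (mc z • setOf' f) = setOf' w := by
  rw [mc_smul_setOf' hz, ← setOf'_xor, h]

theorem cnt_fix {z y : ℕ} (hz : okM z = true) (hy : okM y = true) {n : ℕ}
    (h : cntPow 12 (fun a => force (enc a) fun m =>
      and' (Nat.beq (imgC z m) m) (Nat.beq (imgC y m) m)) = n) :
    {c | c ∈ GC ∧ (mc z • c = c ∧ mc y • c = c)}.ncard = n := by
  rw [ncard_codeSets _ (fun m => and' (Nat.beq (imgC z m) m) (Nat.beq (imgC y m) m))
    (fun m hm => by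
      rw [and'_eq_true, beq_iff, beq_iff, Subgroup.smul_def, Subgroup.smul_def,
        smul_setOf'_eq_iff _ (isCW_lt hm), smul_setOf'_eq_iff _ (isCW_lt hm), code_mc hz,
        code_mc hy]), h]

def c1 : ℕ := 216031257977568192633985706410183681

theorem okM_c1 : okM c1 = true := by decide +kernel

theorem fix_z1 : {c | c ∈ GC ∧ mc z1 • c = c}.ncard = 256 := by
  simpa using cnt_fix okM_z1 okM_z1 (n := 256) (by decide +kernel)

theorem fix_z2 : {c | c ∈ GC ∧ mc z2 • c = c}.ncard = 64 := by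
  simpa using cnt_fix okM_z2 okM_z2 (n := 64) (by decide +kernel)

theorem fix_z1_c1 : {c | c ∈ GC ∧ (mc z1 • c = c ∧ mc c1 • c = c)}.ncard = 128 :=
  cnt_fix okM_z1 okM_c1 (by decide +kernel)

/-- The elements centralizing `z` and acting trivially on `[C, z]`. -/
def Quad (z : M24) : Set M24 :=
  {g | g * z * g⁻¹ = z ∧ ∀ f ∈ GC, g • (f ∆ (z • f)) = f ∆ (z • f)}

noncomputable def QF (z : ℕ) (l : List ℕ) (c : ℕ) : Bool :=
  allL l fun f => force (Nat.xor f (imgC z f)) fun w => Nat.beq (imgC c w) w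

def QS (z : ℕ) (l : List ℕ) : Set M24 :=
  {g : M24 | g ∈ (⊤ : Subgroup M24) ∧ code (g * mc z * g⁻¹ : M24) ∈ [z] ∧
      QF z l (code (g : Equiv.Perm GolayPt)) = true}

theorem quad_sub {z : ℕ} (hz : okM z = true) (l : List ℕ) (hl : allL l isCW = true) :
    Quad (mc z) ⊆ QS z l := by
  rintro g ⟨h1, h2⟩
  refine ⟨trivial, by rw [h1, code_mc hz]; simp, ?_⟩
  simp only [QF, allL_iff, force_eq, beq_iff] at hl ⊢
  intro f hf
  have := h2 _ (GC_of (hl f hf))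
  rw [comm_setOf' hz rfl, Subgroup.smul_def, smul_setOf'_eq_iff] at this
  · exact this
  · rw [← code_mc hz]
    exact Nat.xor_lt_two_pow (isCW_lt (hl f hf)) (imgC_lt _ _)

def qL1 : List ℕ := [421910, 5210132, 1302533, 13811730]

theorem ncard_QS1 : (QS z1 qL1).ncard = 16 :=
  chainM.ncard_conj_list okM_z1 [z1] (QF z1 qL1) (N := 16) (by decide +kernel)

theorem quad_z1 : ∃ Q : Set M24, Quad (mc z1) ⊆ Q ∧ Q.ncard = 16 ∧ mc c1 ∈ Q := by
  refine ⟨_, quad_sub okM_z1 qL1 (by decide +kernel), ncard_QS1, trivial, ?_, ?_⟩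
  · rw [code_conj', code_mc okM_z1, code_mc okM_c1]; decide +kernel
  · rw [code_mc okM_c1]; decide +kernel

def qL2 : List (ℕ × ℕ) := [(249487, 1302533), (575743, 8966165), (1174204, 3006551),
  (2476723, 10350689), (4277183, 4800613), (8493631, 10846245)]

theorem quad_z2 {g : M24} (hg : g ∈ Quad (mc z2)) : g = 1 ∨ g = mc z2 := by
  have h1 : ∀ x ∈ qL2, isCW x.2 = true ∧ x.2 ^^^ imgC z2 x.2 = x.1 := by decide +kernel
  have h2 : ∀ i < 24, ∀ j < 24, (∀ x ∈ qL2, x.1.testBit i = x.1.testBit j) →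
      j = i ∨ j = dg z2 i := by decide +kernel
  have h3 : ∀ p : GolayPt, g • p = p ∨ g • p = mc z2 • p := fun p => by
    refine (h2 _ (ix_lt p) _ (ix_lt (g • p)) fun x hx => ?_).imp (fun e => ix_injective e)
      fun e => ix_injective (by rw [e, ix_smul, code_mc okM_z2])
    have := hg.2 _ (GC_of (h1 x hx).1)
    rw [comm_setOf' okM_z2 (h1 x hx).2] at this
    have h4 : g • p ∈ setOf' x.1 ↔ p ∈ setOf' x.1 := by
      conv_lhs => rw [← this]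
      exact Finset.smul_mem_smul_finset_iff g
    rw [mem_setOf', mem_setOf'] at h4
    exact (Bool.eq_iff_iff.2 h4).symm
  by_contra h
  push Not at h
  have h5 := card_fixSet_le g h.1
  have h6 := card_fixSet_le ((mc z2)⁻¹ * g) fun e => h.2 (by rw [inv_mul_eq_one] at e; exact e.symm)
  have h7 : (Finset.univ : Finset GolayPt) ⊆ fixSet g ∪ fixSet ((mc z2)⁻¹ * g : M24) := by
    intro p _
    rw [Finset.mem_union, mem_fixSet, mem_fixSet]
    refine (h3 p).imp id fun e => ?_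
    change ((mc z2)⁻¹ * g) • p = p
    rw [mul_smul, e, inv_smul_smul]
  have := (Finset.card_le_card h7).trans (Finset.card_union_le _ _)
  rw [Finset.card_univ, Spor.card_golayPt] at this
  omega

def fL : List ℕ := [0, 13062145, 4845570, 9347075, 13938692, 1302533, 10305542, 5902343, 10170384,
  6053905, 13811730, 1413139, 5210132, 8966165, 421910, 12656663]

def sL : List ℕ := [813049216221113050196334874390043980, 797406405028360278144348527832350028,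
  804250451702263035595008779325323596]

theorem fixed_aux : and' (and' (allL fL isCW) (allL sL fun s => and' (okM s)
    (Nat.beq (conjC s z1) z1))) (forceL (mapR (fun f => Nat.xor f (imgC z1 f)) fL) fun wL =>
    allB 4096 fun a => force (enc a) fun c => or' (not' (Nat.beq (imgC z1 c) c))
      (or' (anyL wL fun w => or' (Nat.beq w c) (Nat.beq w (Nat.xor c 16777215)))
        (anyL sL fun s => force (Nat.xor (imgC s c) (Nat.xor c 16777215)) fun x =>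
          anyL wL fun w => Nat.beq w x))) = true := by decide +kernel

/-- The words fixed by `z1` modulo `[C, z1]`. -/
theorem fixed_z1 {c : Finset GolayPt} (hc : c ∈ GC) (h : mc z1 • c = c) :
    (∃ f ∈ GC, f ∆ (mc z1 • f) = c ∨ f ∆ (mc z1 • f) = cᶜ) ∨
      ∃ σ : M24, σ * mc z1 * σ⁻¹ = mc z1 ∧ ∃ f ∈ GC, f ∆ (mc z1 • f) = (σ • c) ∆ cᶜ := by
  obtain ⟨a, ha, rfl⟩ := (mem_codeSets_iff_enc c).1 hc
  have h0 := fixed_aux
  simp only [and'_eq_true, allL_iff, forceL_eq, allB_iff, force_eq, or'_eq_true, not'_eq_true,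
    anyL_iff, beq_iff, mapR_eq, List.mem_map, exists_exists_and_eq_and] at h0
  obtain ⟨⟨h1, h2⟩, h3⟩ := h0
  rw [Subgroup.smul_def, smul_setOf'_eq_iff _ (enc_lt ha), code_mc okM_z1] at h
  rcases h3 a ha with h4 | ⟨f, hf, h4⟩ | ⟨s, hs, f, hf, h4⟩
  · simp [h] at h4
  · refine Or.inl ⟨_, GC_of (h1 f hf), h4.imp (comm_setOf' okM_z1) fun e => ?_⟩
    rw [← setOf'_compl]; exact comm_setOf' okM_z1 e
  · refine Or.inr ⟨mc s, ?_, _, GC_of (h1 f hf), ?_⟩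
    · rw [eq_iff_code, code_conj', code_mc okM_z1, code_mc (h2 s hs).1, (h2 s hs).2]
    · rw [← setOf'_compl, mc_smul_setOf' (h2 s hs).1, ← setOf'_xor]; exact comm_setOf' okM_z1 h4

def wL : List (List ℤ) := [[0, 0, 0, 0, 0, 0, 4, 0, 0, 4, 0, 4, 0, 0, 0, 0, 0, 0, 0, 0, 0, 0, 4, 0], [0, 0, 0, 0, 0, 0, 4, 0, 0, 4, 0, -4, 0, 0, 0, 0, 0, 0, 0, 0, 0, 0, -4, 0], [0, 0, 0, 0, 0, 0, 4, 0, 0, -4, 0, 4, 0, 0, 0, 0, 0, 0, 0, 0, 0, 0, -4, 0], [0, 0, 0, 0, 0, 0, 4, 0, 0, -4, 0, -4, 0, 0, 0, 0, 0, 0, 0, 0, 0, 0, 4, 0], [0, 0, 0, 0, 0, 0, 0, 0, 0, 0, 0, 0, 0, 4, 0, 0, 0, 0, 4, 0, 4, 4, 0, 0], [0, 0, 0, 0, 0, 0, 0, 0, 0, 0, 0, 0, 0, 4, 0, 0, 0, 0, 4, 0, -4, -4, 0, 0], [0, 0, 0, 0, 0, 0, 0, 0, 0, 0, 0, 0, 0, 4, 0, 0, 0, 0, -4, 0, 4, -4, 0, 0], [0, 0, 0, 0, 0, 0, 0, 0, 0, 0, 0, 0, 0, 4, 0, 0, 0, 0, -4, 0, -4, 4, 0, 0], [4, 4, 4, 4, 0, 0, 0, 0, 0, 0, 0, 0, 0, 0, 0, 0, 0, 0, 0, 0, 0, 0, 0, 0]]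

def zL : List (List ℤ) := [[0, 0, 0, 0, 0, 0, 0, 0, 0, 0, 0, 0, 0, 0, 0, 0, 0, 0, 0, 0, 0, 0, 0, 0], [0, 0, 0, 0, 0, 0, 0, 0, 0, 0, 0, -4, 0, 0, 0, 0, 0, 0, 0, 0, 0, 0, -4, 0], [0, 0, 0, 0, 0, 0, 0, 0, 0, -4, 0, 0, 0, 0, 0, 0, 0, 0, 0, 0, 0, 0, -4, 0], [0, 0, 0, 0, 0, 0, 0, 0, 0, -4, 0, -4, 0, 0, 0, 0, 0, 0, 0, 0, 0, 0, 0, 0], [0, 0, 0, 0, 0, 0, -2, 0, 0, -2, 0, -2, 0, 2, 0, 0, 0, 0, 2, 0, 2, 2, -2, 0], [0, 0, 0, 0, 0, 0, -2, 0, 0, -2, 0, -2, 0, 2, 0, 0, 0, 0, 2, 0, -2, -2, -2, 0], [0, 0, 0, 0, 0, 0, -2, 0, 0, -2, 0, -2, 0, 2, 0, 0, 0, 0, -2, 0, 2, -2, -2, 0], [0, 0, 0, 0, 0, 0, -2, 0, 0, -2, 0, -2, 0, 2, 0, 0, 0, 0, -2, 0, -2, 2, -2, 0], [2, 2, 2, 2, 0, 0, -2, 0, 0, -2, 0, -2, 0, 0, 0, 0, 0, 0, 0, 0, 0, 0, -2, 0]]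

theorem wL_lee : ∀ i : Fin 9, isLee (getL [] wL i) = true ∧ isLee (getL [] zL i) = true := by
  decide +kernel

/-- The involution `z1` of `M₂₄` is conjugate in `Co₀` to a sign change. -/
theorem conj_z1_sgn : ∃ (g : Co0) (c : Finset GolayPt) (hc : c ∈ GC),
    g * permHom (mc z1) * g⁻¹ = sgn c hc := by
  refine conj_sgn_of_frame _ (fun i => ⟨_, mem_of_isLee (wL_lee i).1⟩) ?_
    (fun i => ⟨⟨_, mem_of_isLee (wL_lee i).2⟩, Subtype.ext (funext ?_)⟩) (fun i => ?_) ?_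
  · decide +kernel
  · revert i; decide +kernel
  · have h1 : ∀ i : Fin 9, ∀ j < 24, getL 0 (getL [] wL i) (dg z1 j) = getL 0 (getL [] wL i) j ∧
        dg z1 j < 24 := by decide +kernel
    refine Subtype.ext (funext fun p => ?_)
    obtain ⟨p, rfl⟩ := (mc z1 : Equiv.Perm GolayPt).surjective p
    rw [permHom_smul']
    change getL 0 _ (ix p) = getL 0 _ (ix (mc z1 • p))
    rw [ix_smul, code_mc okM_z1, (h1 i _ (ix_lt p)).1]
  · intro i j h
    have h1 : ∀ i j : Fin 9, ((∀ p, vecOf (getL [] wL i) p = vecOf (getL [] wL j) p) ∨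
        ∀ p, vecOf (getL [] wL i) p = -vecOf (getL [] wL j) p) → i = j := by decide +kernel
    exact h1 i j (h.imp (fun e => congrFun (congrArg Subtype.val e))
      fun e => congrFun (congrArg Subtype.val e))

end Cfsg.Agent.Std.Co
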