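import Mathlib
import Cfsg.Agent.Std.CoFacts
import Cfsg.Agent.Std.Basic
import Cfsg.Agent.Spor.Co0Center
import Cfsg.Agent.Spor.M24Sub
import Cfsg.Agent.Spor.M24Six

/-! `-1` is weakly closed in `Co₀` with respect to any overgroup in which `Co₀` is standard. -/

set_option autoImplicit false

namespace Cfsg.Agent.Std.Co

open Cfsg Subgroup PLocal.Amb Cfsg.Agent.Spor Cfsg.Agent.Spor.Leech Cfsg.Agent.Spor.M24C
open Cfsg.Agent.Comp
open scoped symmDiff Pointwise

theorem mono_one_empty : mono 1 ∅ GC_empty = 1 := sgn_empty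

theorem of_mono_sq {σ : M24} {c : Finset GolayPt} {hc : c ∈ GC}
    (h : mono σ c hc * mono σ c hc = 1) : σ * σ = 1 ∧ σ • c = c := by
  rw [mono_mul, ← mono_one_empty] at h
  exact ⟨(mono_inj h).1, (symmDiff_eq_bot.1 (mono_inj h).2).symm⟩

theorem neg_central (g : Co0) : g * negOne * g⁻¹ = negOne := by rw [negOne_comm]; group

theorem card_of {m n : ℕ} (h : pop 24 (Nat.land m m) = n) : (setOf' m).card = n := by
  rw [← h, ← card_inter_setOf', Finset.inter_self]

/-- A large elementary abelian subgroup normalized by the sign changes. -/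
structure EA (E : Subgroup Co0) : Prop where
  le : E ≤ monoSub
  comm : ∀ a ∈ E, ∀ b ∈ E, Commute a b
  sq : ∀ a ∈ E, a * a = 1
  card : Nat.card E = 4096
  norm : ∀ f ∈ FF, ∀ a ∈ E, f * a * f⁻¹ ∈ E

theorem EA.cj {E : Subgroup Co0} (h : EA E) {g : Co0} (hg : g ∈ monoSub) : EA cj(g, E) where
  le := by
    rintro _ ⟨a, ha, rfl⟩
    exact mul_mem (mul_mem hg (h.le ha)) (inv_mem hg)
  comm := by
    rintro _ ⟨a, ha, rfl⟩ _ ⟨b, hb, rfl⟩
    exact (h.comm a ha b hb).map _
  sq := by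
    rintro _ ⟨a, ha, rfl⟩
    rw [← map_mul, h.sq a ha, map_one]
  card := by rw [card_map_of_injective (MulAut.conj g).injective, h.card]
  norm := by
    rintro f hf _ ⟨a, ha, rfl⟩
    refine ⟨_, h.norm (g⁻¹ * f * g) ?_ a ha, by simp [mul_assoc]⟩
    simpa using conj_mem_of_mem_normalizer (le_normalizer_FF (inv_mem hg)) hf

theorem EA.quad {E : Subgroup Co0} (h : EA E) {z : M24} (hz : z ∈ im E) {σ : M24}
    (hσ : σ ∈ im E) : σ ∈ Quad z := by
  obtain ⟨e, he, h1⟩ := mem_im.1 hz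
  obtain ⟨c, hc, h2⟩ := mem_im.1 hσ
  refine ⟨?_, fun f hf => ?_⟩
  · have := (h.comm _ h2 _ h1).eq
    rw [mono_mul, mono_mul] at this
    rw [(mono_inj this).1]; group
  · have := mul_mem (h.norm _ (sgn_mem_FF hf) _ h1) (inv_mem h1)
    rw [comm_sgn_mono] at this
    exact commute_sgn_mono.1 (h.comm _ this _ h2)

theorem EA.fix {E : Subgroup Co0} (h : EA E) {σ : M24} (hσ : σ ∈ im E) {c : Finset GolayPt}
    {hc : c ∈ GC} (h1 : sgn c hc ∈ E) : σ • c = c := by
  obtain ⟨e, he, h2⟩ := mem_im.1 hσ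
  exact commute_sgn_mono.1 (h.comm _ h1 _ h2)

theorem EA.not_z2 {E : Subgroup Co0} (h : EA E) : mc z2 ∉ im E := fun hz => by
  have h1 := card_eq h.le
  have h2 := card_inf_FF_le E (Q := fun c => mc z2 • c = c) fun c hc => h.fix hz
  have h3 : Nat.card (im E) ≤ 2 := by
    refine (Set.ncard_le_ncard (s := (im E : Set M24)) (t := {1, mc z2})
      fun σ hσ => quad_z2 (h.quad hz hσ)).trans ?_
    exact (Set.ncard_insert_le _ _).trans (by simp)
  rw [fix_z2] at h2
  rw [h.card] at h1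
  nlinarith

theorem EA.not_z1 {E : Subgroup Co0} (h : EA E) : mc z1 ∉ im E := fun hz => by
  have h1 := card_eq h.le
  have h2 := card_inf_FF_le E (Q := fun c => mc z1 • c = c) fun c hc => h.fix hz
  obtain ⟨Q, q1, q2, q3⟩ := quad_z1
  have q4 : (im E : Set M24) ⊆ Q := fun σ hσ => q1 (h.quad hz hσ)
  have h3 : Nat.card (im E) ≤ 16 := (Set.ncard_le_ncard q4).trans q2.le
  rw [fix_z1] at h2
  rw [h.card] at h1
  have h4 : (im E : Set M24) = Q := Set.eq_of_subset_of_ncard_le q4 (by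
    rw [q2]; change 16 ≤ Nat.card (im E); nlinarith)
  have h5 := card_inf_FF_le E (Q := fun c => mc z1 • c = c ∧ mc c1 • c = c) fun c hc h6 =>
    ⟨h.fix hz h6, h.fix (show mc c1 ∈ (im E : Set M24) from h4 ▸ q3) h6⟩
  rw [fix_z1_c1] at h5
  nlinarith

theorem EA.eq {E : Subgroup Co0} (h : EA E) : E = FF := by
  refine eq_of_le_of_card_ge (fun x hx => ?_) (by rw [h.card, card_FF])
  obtain ⟨σ, e, he, rfl⟩ := mem_monoSub_iff.1 (h.le hx)
  by_cases h1 : σ = 1
  · subst h1; exact sgn_mem_FF he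
  obtain ⟨k, hk⟩ := invol_conj σ h1 (of_mono_sq (h.sq _ hx)).1
  have h2 : k * σ * k⁻¹ ∈ im cj(permHom k, E) :=
    mem_im.2 ⟨_, _, _, hx, perm_conj_mono k σ he⟩
  have h3 := h.cj (permHom_mem k)
  rcases hk with hk | hk <;> rw [hk] at h2
  exacts [absurd h2 h3.not_z1, absurd h2 h3.not_z2]

theorem fix_conj (k z : M24) : {c | c ∈ GC ∧ (k * z * k⁻¹) • c = c}.ncard =
    {c | c ∈ GC ∧ z • c = c}.ncard := by
  rw [← Set.ncard_image_of_injective {c | c ∈ GC ∧ z • c = c} (MulAction.injective k)]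
  congr 1
  ext c
  constructor
  · rintro ⟨h1, h2⟩
    refine ⟨k⁻¹ • c, ⟨smul_GC _ h1, ?_⟩, smul_inv_smul _ _⟩
    rw [mul_smul, mul_smul, smul_eq_iff_eq_inv_smul] at h2
    exact h2
  · rintro ⟨d, ⟨h1, h2⟩, rfl⟩
    exact ⟨smul_GC _ h1, by rw [mul_smul, inv_smul_smul, mul_smul, h2]⟩

theorem card_cent_FF (σ : M24) {e : Finset GolayPt} (he : e ∈ GC) :
    Nat.card ↥(centralizer {mono σ e he} ⊓ FF) = {c | c ∈ GC ∧ σ • c = c}.ncard :=
  card_inf_FF _ fun c hc => by
    rw [mem_centralizer_singleton_iff]; exact commute_sgn_mono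

theorem z1_sq : mc z1 * mc z1 = 1 := by
  rw [eq_iff_code, code_mul', code_mc okM_z1, code_one']; decide +kernel

variable {T : Set Co0}

theorem not_mem_of_comm (h : CentSys negOne T) {f : Finset GolayPt} (hf : f ∈ GC)
    {w : Finset GolayPt} (hw : w ∈ GC) (e0 : f ∆ (mc z1 • f) = w)
    (hs : Nat.card (MulAction.stabilizer M24 w) = 322560) : sgn w hw ∉ T := fun hT => by
  set H : Subgroup Co0 := monoSub ⊓ centralizer {sgn w hw}
  have hFH : FF ≤ H := le_inf FF_le fun a ha => by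
    obtain ⟨c, hc, rfl⟩ := mem_FF.1 ha
    exact mem_centralizer_singleton_iff.2 (sgn_comm _ _)
  have memH : ∀ σ c hc, mono σ c hc ∈ H ↔ σ • w = w := fun σ c hc => by
    rw [← commute_sgn_mono (hc := hw) (he := hc)]
    exact ⟨fun h => (mem_centralizer_singleton_iff.1 h.2).symm,
      fun h => ⟨mono_mem _ _ _, mem_centralizer_singleton_iff.2 h.symm⟩⟩
  have cH : Nat.card H = 322560 * 4096 := by
    rw [card_eq inf_le_left, inf_eq_right.2 hFH, card_FF, ← hs]
    congr 3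
    ext σ
    rw [mem_im, MulAction.mem_stabilizer_iff]
    exact ⟨fun ⟨c, hc, h⟩ => (memH _ _ _).1 h, fun h => ⟨_, GC_empty, (memH _ _ _).2 h⟩⟩
  set x := mono (mc z1) ∅ GC_empty with hx
  have xx : x * x = 1 := by
    rw [hx, mono_mul, ← mono_one_empty]; exact mono_congr _ _ z1_sq (by simp)
  have hxH : x ∈ H := (memH _ _ _).2 (by
    rw [← e0, Finset.smul_finset_symmDiff, ← mul_smul, z1_sq, one_smul, symmDiff_comm])
  obtain ⟨Y, hY, hle⟩ := exists_isSyl_ge (p := 2) (R := FF ⊔ zpowers x) (L := H)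
    (IsPGroup.to_sup_of_normal_left' isPGroup_FF
      (isPGroup_zpowers ⟨1, by rw [pow_one, pow_two, xx]⟩)
      ((zpowers_le.2 hxH.1).trans le_normalizer_FF)) (sup_le hFH (zpowers_le.2 hxH))
  have hFY : FF ≤ Y := le_sup_left.trans hle
  have hxY : x ∈ Y := hle (mem_sup_right (mem_zpowers x))
  have cY : Nat.card Y = 2 ^ 22 := by
    rw [hY.card_eq_pow, cH]; congr 1; decide +kernel
  obtain ⟨φ, φi, φs, -⟩ := h.emb _ hT Y hY.2 fun y hy => mem_centralizer_singleton_iff.1 (hY.1 hy).2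
  obtain ⟨k, hk⟩ := exists_conj_mono (P := φ.range) (hY.2.of_surjective _ φ.rangeRestrict_surjective)
  set ψ : Y →* Co0 := (MulAut.conj k).toMonoidHom.comp φ
  have ψi : Function.Injective ψ := (MulAut.conj k).injective.comp φi
  have ψm : ψ.range ≤ monoSub := by rintro _ ⟨y, rfl⟩; exact hk _ ⟨y, rfl⟩
  have hFS : FF ≤ ψ.range := by
    obtain ⟨S, hS⟩ := exists_isSyl 2 monoSub
    refine (hS.of_card_ge (hY.2.of_surjective _ ψ.rangeRestrict_surjective) ψm ?_).le_of_le_normalizer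
      isPGroup_FF FF_le (ψm.trans le_normalizer_FF)
    rw [sylow_card hS, ← cY, Nat.card_congr (MonoidHom.ofInjective ψi).toEquiv]
  have hE : (FF.subgroupOf Y).map ψ = FF := EA.eq
    { le := (map_le_range _ _).trans ψm
      comm := by
        rintro _ ⟨a, ha, rfl⟩ _ ⟨b, hb, rfl⟩
        obtain ⟨c, hc, e1⟩ := mem_FF.1 ha
        obtain ⟨d, hd, e2⟩ := mem_FF.1 hb
        refine Commute.map (Subtype.ext ?_) ψ
        have := (sgn_comm hc hd).eq
        rwa [← e1, ← e2] at this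
      sq := by
        rintro _ ⟨a, ha, rfl⟩
        obtain ⟨c, hc, e1⟩ := mem_FF.1 ha
        rw [← map_mul, show a * a = 1 from Subtype.ext (by
          have := sgn_sq hc; rwa [← e1] at this), map_one]
      card := by
        rw [card_map_of_injective ψi, Nat.card_congr (subgroupOfEquivOfLe hFY).toEquiv, card_FF]
      norm := by
        rintro g hg _ ⟨a, ha, rfl⟩
        obtain ⟨y, rfl⟩ := hFS hg
        exact ⟨y * a * y⁻¹, conj_mem_of_mem_normalizer (x := (a : Co0))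
          (le_normalizer_FF (hY.1 y.2).1) ha, by simp⟩ }
  have hF : ∀ a : Y, (a : Co0) ∈ FF → ψ a ∈ FF := fun a ha => hE ▸ ⟨a, ha, rfl⟩
  obtain ⟨π, e, he, hπ⟩ := mem_monoSub_iff.1 (ψm ⟨⟨x, hxY⟩, rfl⟩)
  obtain ⟨f', hf', e1⟩ := mem_FF.1 (hF ⟨_, hFY (sgn_mem_FF hf)⟩ (sgn_mem_FF hf))
  have e2 : f' ∆ (π • f') = Finset.univ := by
    rw [← sgn_eq_neg (hc := GC_symmDiff hf' (smul_GC π hf')), ← comm_sgn_mono π hf' he, ← e1, ← hπ,
      ← map_inv, ← map_inv, ← map_mul, ← map_mul, ← map_mul, ← neg_central k]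
    exact congrArg (fun u => k * u * k⁻¹) (φs _ ((comm_sgn_mono _ hf GC_empty).trans
      (sgn_congr _ _ e0)))
  have e3 : fixSet π = ∅ := fixSet_eq_empty_iff.2 fun p hp => by
    have h1 : p ∈ f' ∆ (π • f') := e2 ▸ Finset.mem_univ p
    have h2 : p ∈ π • f' ↔ p ∈ f' := by
      conv_lhs => rw [← show π • p = p from hp]
      exact Finset.smul_mem_smul_finset_iff π
    rw [Finset.mem_symmDiff, h2] at h1
    tauto
  have e4 : π * π = 1 := (of_mono_sq (hc := he) (by
    rw [← hπ, ← map_mul, show (⟨x, hxY⟩ : Y) * ⟨x, hxY⟩ = 1 from Subtype.ext xx, map_one])).1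
  obtain ⟨k2, hk2⟩ := conj_z2 (g := π) (orderOf_two_iff.2 ⟨by
    rintro rfl; exact fixSet_eq_empty_iff.1 e3 none rfl, e4⟩) (by rw [e3]; simp)
  have c1 := card_cent_FF (mc z1) GC_empty
  have c2 := card_cent_FF π he
  rw [fix_z1] at c1
  rw [show {c | c ∈ GC ∧ π • c = c}.ncard = 64 by rw [hk2, fix_conj, fix_z2]] at c2
  have c3 : ∀ a : ↥(centralizer {x} ⊓ FF),
      ψ ⟨a, hFY (mem_inf.1 a.2).2⟩ ∈ centralizer {mono π e he} ⊓ FF := fun a => by
    refine mem_inf.2 ⟨?_, hF _ (mem_inf.1 a.2).2⟩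
    rw [← hπ, mem_centralizer_singleton_iff, ← map_mul, ← map_mul]
    exact congrArg ψ (Subtype.ext (mem_centralizer_singleton_iff.1 (mem_inf.1 a.2).1))
  have := Nat.card_le_card_of_injective (α := ↥(centralizer {x} ⊓ FF))
    (β := ↥(centralizer {mono π e he} ⊓ FF)) (fun a => ⟨_, c3 a⟩)
    fun a b h => Subtype.ext (congrArg (fun y : Y => (y : Co0)) (ψi (congrArg Subtype.val h)))
  rw [c2, hx, c1] at this
  omega

theorem sgn_smul_mem (h : CentSys negOne T) (g : M24) {c d : Finset GolayPt} {hc : c ∈ GC}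
    (hd : d ∈ GC) (e : g • c = d) (hT : sgn c hc ∈ T) : sgn d hd ∈ T := by
  subst e; exact perm_conj_sgn g hc ▸ h.conj _ hT _

theorem dodecad_of_mem (h : CentSys negOne T) {c : Finset GolayPt} {hc : c ∈ GC}
    (hT : sgn c hc ∈ T) (hne : sgn c hc ≠ negOne) : c ∈ dodecads := by
  rcases GC_card hc with e | e | e | e | e
  · exact absurd (sgn_eq_one.2 (Finset.card_eq_zero.1 e)) (h.ne_one hT)
  · obtain ⟨g, hg⟩ := exists_smul_octad (o := c) ⟨hc, e⟩ o0_mem
    exact absurd (sgn_smul_mem h g o0_mem.1 hg hT) (not_mem_of_comm h (f := setOf' 421910)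
      (GC_of (by decide +kernel)) _ (comm_setOf' okM_z1 (by decide +kernel))
      (card_stabilizer_octad o0_mem))
  · exact ⟨hc, e⟩
  · have h1 : setOf' 9164223 ∈ GC := GC_of (by decide +kernel)
    have h2 : (setOf' 9164223)ᶜ ∈ octads := ⟨GC_compl h1, by
      rw [Finset.card_compl, card_of (n := 16) (by decide +kernel), Spor.card_golayPt]⟩
    obtain ⟨g, hg⟩ := exists_smul_octad (o := cᶜ) ⟨GC_compl hc, by
      rw [Finset.card_compl, e, Spor.card_golayPt]⟩ h2
    rw [smul_compl', compl_inj_iff] at hg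
    exact absurd (sgn_smul_mem h g h1 hg hT) (not_mem_of_comm h (f := setOf' 8966165)
      (GC_of (by decide +kernel)) _ (comm_setOf' okM_z1 (by decide +kernel))
      (stabilizer_compl _ ▸ card_stabilizer_octad h2))
  · exact absurd (sgn_eq_neg.2 (Finset.eq_univ_of_card _ (e.trans Spor.card_golayPt.symm))) hne

theorem neg_mul_mem (h : CentSys negOne T) : ∀ u ∈ T, u ≠ negOne → negOne * u ∈ T := by
  set P : Co0 → Prop := fun u => u ∈ T → u ≠ negOne → negOne * u ∈ T with hP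
  have pc : ∀ g u v, g * u * g⁻¹ = v → P v → P u := by
    rintro g u _ rfl h1 hu hne
    refine (h.conj_iff (x := g)).1 ?_
    have := h1 (h.conj _ hu g) fun e => hne (by
      rw [← neg_central g] at e; simpa using e)
    rwa [show g * (negOne * u) * g⁻¹ = g * negOne * g⁻¹ * (g * u * g⁻¹) by group, neg_central]
  have p1 : ∀ c hc, P (sgn c hc) := fun c hc hT hne => by
    have hd := dodecad_of_mem h hT hne
    obtain ⟨g, hg⟩ := exists_smul_dodecad hd (compl_mem_dodecads hd)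
    rw [neg_mul_sgn]; exact sgn_smul_mem h g _ hg hT
  intro u hu
  obtain ⟨k, σ, e, he, e1⟩ := exists_conj_mono' (a := u) (n := 1) (by rw [pow_one, pow_two, h.sq hu])
  refine pc _ _ _ e1 (fun hT => ?_) hu
  by_cases h1 : σ = 1
  · subst h1; exact p1 e he hT
  obtain ⟨k, hk⟩ := invol_conj σ h1 (of_mono_sq (h.sq hT)).1
  refine pc _ _ _ (perm_conj_mono k σ he) ?_ hT
  generalize smul_GC k he = hc
  generalize k • e = c at hc
  obtain ⟨g, d, hd, e2⟩ := conj_z1_sgn
  rcases hk with hk | hk <;> rw [hk] <;> intro hT hne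
  · rcases fixed_z1 hc (of_mono_sq (h.sq hT)).2 with ⟨f, hf, e3 | e3⟩ | ⟨s, hs, f, hf, e3⟩
    · refine pc _ _ _ (sgn_conj_mono _ hf hc) (pc g _ _ ?_ (p1 d hd)) hT hne
      rw [← e2]; congr 2
      exact mono_congr _ GC_empty rfl (by rw [e3, symmDiff_self]; rfl)
    · refine pc _ _ _ (sgn_conj_mono _ hf hc) (pc g _ _ ?_ (p1 dᶜ (GC_compl hd))) hT hne
      rw [← neg_mul_sgn hd, ← e2, ← neg_central g]
      rw [show g * negOne * g⁻¹ * (g * permHom (mc z1) * g⁻¹) =
        g * (negOne * permHom (mc z1)) * g⁻¹ by group]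
      congr 2
      refine .trans (mono_congr _ _ rfl ?_) (neg_mul_mono _ GC_empty).symm
      rw [e3]; simp
    · have h2 := h.conj _ (h.conj _ hT (permHom s)) (sgn f hf)
      rw [perm_conj_mono, mono_congr _ (smul_GC s hc) hs rfl, sgn_conj_mono] at h2
      rw [neg_mul_mono]
      convert h2 using 2
      rw [e3, symmDiff_comm (s • c), symmDiff_assoc, symmDiff_self, symmDiff_bot]
  · have h2 := h.conj _ hT (sgn _ (GC_of (m := 13099110) (by decide +kernel)))
    rw [sgn_conj_mono] at h2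
    rw [neg_mul_mono]
    convert h2 using 2
    rw [comm_setOf' (w := 16777215) okM_z2 (by decide +kernel)]
    have : ∀ p, Nat.testBit 16777215 (ix p) = true := by decide +kernel
    ext p; simp [Finset.mem_symmDiff, this]

theorem two_octads {π : M24} (h1 : π ≠ 1) (h2 : π * π = 1) : ∃ f ∈ GC, ∃ g ∈ GC,
    (f ∆ (π • f)).card = 8 ∧ (g ∆ (π • g)).card = 8 ∧ f ∆ (π • f) ≠ g ∆ (π • g) := by
  obtain ⟨k, hk⟩ := invol_conj π h1 h2
  have key : ∀ f : Finset GolayPt, (k⁻¹ • f) ∆ (π • k⁻¹ • f) = k⁻¹ • (f ∆ ((k * π * k⁻¹) • f)) :=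
    fun f => by rw [Finset.smul_finset_symmDiff, mul_smul, mul_smul, inv_smul_smul]
  have : ∀ z f g v w : ℕ, okM z = true → k * π * k⁻¹ = mc z → (isCW f = true ∧ isCW g = true ∧
      f ^^^ imgC z f = v ∧ g ^^^ imgC z g = w ∧ pop 24 (Nat.land v v) = 8 ∧
      pop 24 (Nat.land w w) = 8 ∧ pop 24 (Nat.land v w) ≠ 8) → ∃ f ∈ GC, ∃ g ∈ GC,
      (f ∆ (π • f)).card = 8 ∧ (g ∆ (π • g)).card = 8 ∧ f ∆ (π • f) ≠ g ∆ (π • g) := by
    rintro z f g v w hz e ⟨a1, a2, a3, a4, a5, a6, a7⟩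
    refine ⟨_, smul_GC k⁻¹ (GC_of a1), _, smul_GC k⁻¹ (GC_of a2), ?_⟩
    rw [key, key, e, comm_setOf' hz a3, comm_setOf' hz a4, Finset.card_smul_finset,
      Finset.card_smul_finset]
    refine ⟨card_of a5, card_of a6, fun h => a7 ?_⟩
    rw [← card_inter_setOf', MulAction.injective _ h, Finset.inter_self, card_of a6]
  rcases hk with hk | hk
  · exact this z1 421910 5210132 5279 180636 okM_z1 hk (by decide +kernel)
  · exact this z2 13938692 10170384 6588684 722544 okM_z2 hk (by decide +kernel)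

theorem not_centSys (T : Set Co0) : ¬ CentSys negOne T := fun h => by
  have oct : ∀ {a b : Co0} {w : Finset GolayPt} {hw : w ∈ GC}, a ∈ T → b ∈ T → a * b = sgn w hw →
      w.card ≠ 8 := fun {a b w hw} ha hb e e8 => by
    have h1 : a ≠ b := by
      rintro rfl
      rw [h.sq ha, eq_comm, sgn_eq_one] at e
      rw [e] at e8; simp at e8
    have h2 : Commute a b := by
      have h3 := sgn_sq hw
      rw [← e, mul_eq_one_iff_eq_inv, mul_inv_rev, inv_eq_of_mul_eq_one_right (h.sq ha),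
        inv_eq_of_mul_eq_one_right (h.sq hb)] at h3
      exact h3
    have h3 := (dodecad_of_mem h (e ▸ h.mul_mem (neg_mul_mem h) ha hb h1 h2) fun e1 => by
      rw [sgn_eq_neg.1 e1, Finset.card_univ, Spor.card_golayPt] at e8; omega).2
    omega
  obtain ⟨u, hu, hne⟩ := h.ex
  obtain ⟨k, σ, e, he, e1⟩ := exists_conj_mono' (a := u) (n := 1) (by rw [pow_one, pow_two, h.sq hu])
  have hT := h.conj _ hu k
  rw [e1] at hT
  by_cases h1 : σ = 1
  · subst h1
    have hd := dodecad_of_mem h hT fun e2 => hne (by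
      have := e1.trans e2
      rw [← neg_central k] at this; simpa using this)
    have d1 : setOf' 11472927 ∈ dodecads := setOf'_mem_dodecads (by decide +kernel)
    obtain ⟨g0, h0⟩ := exists_smul_dodecad hd d0_mem
    obtain ⟨g1, h1⟩ := exists_smul_dodecad hd d1
    refine oct (sgn_smul_mem h g0 d0_mem.1 h0 hT) (sgn_smul_mem h g1 d1.1 h1 hT) (sgn_mul _ _) ?_
    rw [← setOf'_xor]; exact card_of (by decide +kernel)
  · obtain ⟨f, hf, -, -, h2, -⟩ := two_octads h1 (of_mono_sq (h.sq hT)).1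
    refine oct (hw := GC_symmDiff hf (smul_GC σ hf)) (h.conj _ hT (sgn f hf)) hT ?_ h2
    rw [← comm_sgn_mono σ hf he, inv_eq_of_mul_eq_one_right (h.sq hT)]

theorem exists_root_word {π : M24} (h4 : π ^ 4 = 1) (h2 : π * π ≠ 1) :
    ∃ f ∈ GC, (π * π) • f = f ∧ π • f ≠ f := by
  obtain ⟨p, hp⟩ : ∃ p : GolayPt, (π * π) • p ≠ p := by
    by_contra h
    push Not at h
    exact h2 (Subtype.ext (Equiv.ext h))
  obtain ⟨g, hg, g1, g2⟩ := exists_GC_sep hp.symm
  have h5 : (π * π) • g ≠ g := fun e => g2 (e ▸ Finset.smul_mem_smul_finset g1)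
  have h6 : π * π * (π * π) = 1 := by rw [← h4]; simp only [pow_succ, pow_zero, one_mul, mul_assoc]
  by_cases h7 : π • (g ∆ ((π * π) • g)) = g ∆ ((π * π) • g)
  · refine ⟨_, GC_symmDiff hg (smul_GC π hg), ?_, fun e => h5 ?_⟩
    · rw [Finset.smul_finset_symmDiff, ← mul_smul] at h7 ⊢
      rw [mul_assoc]
      ext q
      have := Finset.ext_iff.1 h7 q
      simp only [Finset.mem_symmDiff] at this ⊢
      tauto
    · rw [Finset.smul_finset_symmDiff, ← mul_smul, symmDiff_comm g, symmDiff_right_inj] at e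
      exact e
  · refine ⟨_, GC_symmDiff hg (smul_GC (π * π) hg), ?_, h7⟩
    rw [Finset.smul_finset_symmDiff, ← mul_smul, h6, one_smul, symmDiff_comm]

theorem rootFact : RootFact negOne := by
  intro a h4 h2
  obtain ⟨k, π, e, he, e1⟩ := exists_conj_mono' (a := a) (n := 3) (by
    rw [show 2 ^ 3 = 4 * 2 by norm_num, pow_mul]
    rcases Leech.mem_center_iff.1 h4 with h | h <;> rw [h]
    exacts [one_pow _, by rw [pow_two, negOne_mul_self]])
  have key : ∃ f hf, Commute (sgn f hf) (mono π e he * mono π e he) ∧ ∀ w,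
      w = sgn (f ∆ (π • f)) (GC_symmDiff hf (smul_GC π hf)) → w ≠ 1 ∧
      w ≠ mono π e he * mono π e he ∧ w ≠ negOne * (mono π e he * mono π e he) := by
    rw [mono_mul, neg_mul_mono]
    by_cases h5 : π * π = 1
    · have h6 : π ≠ 1 := by
        rintro rfl
        refine h2 ?_
        have : k * (a * a) * k⁻¹ = 1 := by rw [← conj_mul, e1]; exact sgn_sq he
        rw [show a * a = 1 by simpa using this]; exact one_mem _
      obtain ⟨f, hf, g, hg, c1, c2, c3⟩ := two_octads h6 h5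
      have : ∀ f ∈ GC, (f ∆ (π • f)).card = 8 → f ∆ (π • f) ≠ e ∆ (π • e) →
          f ∆ (π • f) ≠ (e ∆ (π • e))ᶜ → ∃ f hf, Commute (sgn f hf) (mono (π * π) _
          (GC_symmDiff he (smul_GC π he))) ∧ ∀ w,
          w = sgn (f ∆ (π • f)) (GC_symmDiff hf (smul_GC π hf)) → w ≠ 1 ∧
          w ≠ mono (π * π) _ (GC_symmDiff he (smul_GC π he)) ∧
          w ≠ mono (π * π) _ (GC_compl (GC_symmDiff he (smul_GC π he))) := by
        refine fun f hf c1 c2 c3 => ⟨f, hf, commute_sgn_mono.2 (by rw [h5, one_smul]), ?_⟩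
        rintro _ rfl
        exact ⟨fun h => by rw [sgn_eq_one.1 h] at c1; simp at c1, fun h => c2 (mono_inj h).2,
          fun h => c3 (mono_inj h).2⟩
      by_contra hcon
      have c4 := Finset.card_compl (e ∆ (π • e))
      rw [Spor.card_golayPt] at c4
      by_cases a1 : f ∆ (π • f) = e ∆ (π • e)
      · exact hcon (this g hg c2 (fun h => c3 (a1.trans h.symm)) fun h => by
          rw [← h, ← a1] at c4; omega)
      by_cases a2 : f ∆ (π • f) = (e ∆ (π • e))ᶜ
      · exact hcon (this g hg c2 (fun h => by rw [← a2, ← h] at c4; omega)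
          fun h => c3 (a2.trans h.symm))
      · exact hcon (this f hf c1 a1 a2)
    · have h6 : π ^ 4 = 1 := by
        obtain ⟨d, hd, e2⟩ := mono_pow_eq π he 4
        rw [← e1, conj_pow] at e2
        rcases Leech.mem_center_iff.1 h4 with h | h <;> rw [h] at e2
        · rw [mul_one, mul_inv_cancel, ← mono_one_empty] at e2
          exact (mono_inj e2).1.symm
        · rw [neg_central, ← sgn_univ] at e2
          exact (mono_inj e2).1.symm
      obtain ⟨f, hf, c1, c2⟩ := exists_root_word h6 h5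
      refine ⟨f, hf, commute_sgn_mono.2 c1, ?_⟩
      rintro _ rfl
      exact ⟨fun h => c2 (symmDiff_eq_bot.1 (sgn_eq_one.1 h)).symm, fun h => h5 (mono_inj h).1.symm,
        fun h => h5 (mono_inj h).1.symm⟩
  obtain ⟨f, hf, c1, c2⟩ := key
  obtain ⟨c2, c3, c4⟩ := c2 _ (comm_sgn_mono π hf he)
  have c5 := sgn_sq (GC_symmDiff hf (smul_GC π hf))
  rw [← comm_sgn_mono π hf he] at c5
  obtain ⟨c, hc⟩ := (MulAut.conj k).surjective (sgn f hf)
  have e2 : MulAut.conj k negOne = negOne := neg_central k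
  rw [← e2] at c4
  rw [← hc, ← show MulAut.conj k a = mono π e he from e1] at c1 c2 c3 c4 c5
  simp only [← map_mul, ← map_inv, ne_eq, EmbeddingLike.apply_eq_iff_eq,
    EmbeddingLike.map_eq_one_iff] at c2 c3 c4 c5
  refine ⟨c, (MulAut.conj k).injective ?_, _, rfl, c5, c2, c3, by rwa [negOne_comm]⟩
  simpa only [map_mul] using c1.eq

end Cfsg.Agent.Std.Co
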