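import Cfsg.Agent.Std.O8W0

/-! Facts about the Weyl group of type `E₈`. -/

set_option autoImplicit false
set_option maxRecDepth 4096

namespace Cfsg.Agent.Std.O8W

open Cfsg.Agent.Comp Subgroup O8

/-- reflections -/
noncomputable def ρ (i : ℕ) : W := V [2 * i + 4]

/-- roots -/
def r (i : ℕ) : ℕ := [18, 0, 2, 4, 6, 8, 10, 12, 14, 80, 104, 238].getD i 0

/-- evaluation at a point -/
noncomputable def e (u : List ℕ) (v : ℕ) : ℕ := if v < 256 then evL EE u v else v

theorem ge (w : W) {v : ℕ} (h : ¬ v < 256) : w • v = v := mo.s w.2 v (not_lt.1 h)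

theorem sm {u : List ℕ} (h : inK 134217727 u = true) (v : ℕ) : V u • v = e u v := by
  unfold e
  split_ifs with c
  exacts [by rw [evl_evL ctx.ok hE u v c, ← Vc h]; rfl, ge _ c]

theorem V0 : V [] = 1 := rfl

attribute [local irreducible] V

theorem eq1 {u : List ℕ} (h : eqV u [] = true) : V u = 1 := (eqv h).trans V0

theorem smρ (i : ℕ) (h : i < 12) (v : ℕ) : ρ i • v = e [2 * i + 4] v :=
  sm ((by decide +kernel : ∀ i < 12, inK 134217727 [2 * i + 4] = true) i h) v

theorem smν (v : ℕ) : V [28] • v = e [28] v := sm (by decide +kernel) v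

theorem lt {v : ℕ} (h : V [28] • v ≠ v) : v < 256 := by_contra fun c => h (ge _ c)

theorem cn (u : List ℕ) {n : ℕ} (h : and' (inK 134217727 u) (Nat.beq (cntLT 256 fun v =>
    and' (Nat.beq (e u v) (e [28] v)) (not' (Nat.beq (e [28] v) v))) n) = true) :
    (Ng ℕ (V [28]) (V u)).ncard = n := by
  rw [and'_eq_true, beq_iff, cntLT_eq] at h
  rw [← h.2, ← Set.ncard_coe_finset]
  congr 1
  ext v
  simpa [Ng, ← sm h.1, ← smν] using fun _ => lt

theorem nev (p : ℕ) {u v : List ℕ} (h : and' (and' (inK 134217727 u) (inK 134217727 v))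
    (not' (Nat.beq (e u p) (e v p))) = true) : V u ≠ V v := fun c => by
  simp only [and'_eq_true, not'_eq_true, beq_iff] at h
  exact h.2 (by rw [← sm h.1.1, ← sm h.1.2, c])

theorem ne1 (p : ℕ) {u : List ℕ} (h : and' (and' (inK 134217727 u) (inK 134217727 []))
    (not' (Nat.beq (e u p) (e [] p))) = true) : V u ≠ 1 := V0 ▸ nev p h

theorem od {n : ℕ} {u x : List ℕ} (fs : List (List ℕ)) (h : and' (eqV x fs.flatten) (allL fs fun f =>
    and' (eqV (powW f n) []) (eqV (appendR f u) (appendR u f))) = true) : V x ∈ Od n (V u) := by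
  rw [and'_eq_true, allL_iff] at h
  rw [eqv h.1]
  replace h := h.2
  induction fs with
  | nil => exact V0 ▸ one_mem _
  | cons f fs ih =>
    have := (and'_eq_true _ _).1 (h f List.mem_cons_self)
    rw [List.flatten_cons, ← appendR_eq, ← Va]
    exact mul_mem (subset_closure ⟨(Vp _ _).trans (eq1 this.1), cmv this.2⟩)
      (ih fun g hg => h g (List.mem_cons_of_mem _ hg))

theorem s0 : IsStab 256 W (gen ns (ltrs [8, 26, 10, 22, 12, 14, 24, 16, 18, 20])) 0 (orb ns (ltrs [6, 4, 8, 26, 10, 22, 12, 14, 24, 16, 18, 20]) 2 0) :=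
  ex.2 ▸ ex.1.stab

theorem s1 : IsStab 256 (gen ns (ltrs [8, 26, 10, 22, 12, 14, 24, 16, 18, 20])) (gen ns (ltrs [10, 22, 12, 14, 24, 16, 18, 20])) 2
    (orb ns (ltrs [8, 26, 10, 22, 12, 14, 24, 16, 18, 20]) 3 2) := ex.1.tail.stab

theorem s2 : IsStab 256 (gen ns (ltrs [10, 22, 12, 14, 24, 16, 18, 20])) (gen ns (ltrs [12, 14, 24, 16, 18, 20])) 4
    (orb ns (ltrs [10, 22, 12, 14, 24, 16, 18, 20]) 2 4) := ex.1.tail.tail.stab

theorem c3 : Nat.card (gen ns (ltrs [12, 14, 24, 16, 18, 20])) = 384 :=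
  ex.1.tail.tail.card ctx (ex.1.tail.card ctx (ex.1.card ctx (ex.2 ▸ exists_pi.1) (m := 2903040) (by decide +kernel))
    (m := 23040) (by decide +kernel)) (by decide +kernel)

theorem bC (w : W) (h1 : w • r 1 = r 1) (h2 : w • r 2 = r 2) (h3 : w • r 3 = r 3) (h4 : w • r 4 = r 4)
    (h5 : w • r 5 = r 5) (h6 : w • r 6 = r 6) (h7 : w • r 7 = r 7) (h8 : w • r 8 = r 8) : w = 1 :=
  Subtype.ext (ex.1.eq_one (ex.2.ge w.2) (by
    simp only [S, List.forall_mem_cons]; exact ⟨h1, h2, h3, h4, h5, h6, h7, h8, by simp⟩))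

noncomputable def hw (i : ℕ) : List ℕ := getL [] [[0, 0, 2, 2, 2], [], [2, 1, 3, 3, 1], [1, 1, 1], [1, 2, 1, 1], [0, 3, 3, 3], [2, 1, 1], [0, 3, 1, 2], [1, 3, 1, 1, 1], [1, 1, 1, 3], [1, 1, 3, 3, 3], [3, 3, 0]] i

variable {E : Subgroup W} (idx : E.index = 2) (h0 : V [0] ∈ E) (h2 : V [2] ∈ E)
include h0 h2

theorem rf (i : ℕ) (hi : i < 12) : ∃ l ∈ E, l • r 1 = r i ∧ l * ρ 1 * l⁻¹ = ρ i := by
  obtain ⟨a, b, c, d⟩ := (by decide +kernel : ∀ i < 12, inK 3 (hw i) = true ∧ inK 134217727 (hw i) = true ∧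
    e (hw i) (r 1) = r i ∧ eqV (appendR (appendR (hw i) [2 * 1 + 4]) (invW (hw i))) [2 * i + 4] = true) i hi
  obtain ⟨y, hy, f⟩ := (known_of_mem (ns := ns) (G := E.map W.subtype) (ws := [[0], [2]]) (by
    simp only [List.forall_mem_cons]
    exact ⟨⟨_, h0, Vc (by decide +kernel)⟩, ⟨_, h2, Vc (by decide +kernel)⟩, by simp⟩) (by decide +kernel)).word a
  exact ⟨V (hw i), (Subtype.ext (f.trans (Vc b).symm) : y = _) ▸ hy, (sm b _).trans c, by
    rw [ρ, Vi, Va, Va, eqv d, ρ]⟩

include idx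

theorem ρE : ρ 1 ∉ E := fun c => by
  have : W ≤ E.map W.subtype := gen_le_iff.2 (by
    simp only [List.forall_mem_cons]
    exact ⟨⟨_, c, Vc (by decide +kernel)⟩, ⟨_, h0, Vc (by decide +kernel)⟩, ⟨_, h2, Vc (by decide +kernel)⟩, by simp⟩)
  rw [(eq_top_iff (a := E)).2 fun w _ => (this w.2).elim fun y hy => (Subtype.ext hy.2 : y = w) ▸ hy.1, index_top] at idx
  omega

theorem evn' (u : List ℕ) (h : ∀ a ∈ u, ∃ i < 12, a = 2 * i + 4) : V u ∈ E ↔ Even u.length := by
  induction u with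
  | nil => simp [V0]
  | cons a u ih =>
    obtain ⟨i, hi, rfl⟩ := h a List.mem_cons_self
    obtain ⟨l, -, -, c⟩ := rf h0 h2 i hi
    have : ρ i ∉ E := fun d => ρE idx h0 h2 (by
      simpa [← c, mul_assoc] using (normal_of_index_eq_two idx).conj_mem' _ d l)
    rw [show V (_ :: u) = ρ i * V u from (Va [_] u).symm, mul_mem_iff_of_index_two idx,
      ih fun b hb => h b (List.mem_cons_of_mem _ hb), List.length_cons, Nat.even_add_one]
    tauto

theorem evn (u : List ℕ) (h : (∀ a ∈ u, ∃ i < 12, a = 2 * i + 4) ∧ Even u.length := by decide +kernel) :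
    V u ∈ E := (evn' idx h0 h2 u h.1).2 h.2

set_option maxHeartbeats 1000000 in
set_option synthInstance.maxSize 1024 in
theorem fa : Fa E (V [28]) (V jw) ρ r where
  idx := idx
  νE := eqv (u := [6, 8, 10, 12, 14, 16, 18, 20]) (v := [28]) (by decide +kernel) ▸ evn idx h0 h2 _
  cν := cν
  νν := νν
  fin := (Set.finite_lt_nat 256).subset fun _ => lt
  cen := fun w h => by
    have key : ∀ w : W, (∀ x ∈ E, Commute w x) → w • r 1 = r 1 → w = 1 := fun w h c => by
      have : ∀ i < 12, w • r i = r i := fun i hi => by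
        obtain ⟨l, hl, d, -⟩ := rf h0 h2 i hi
        rw [← d, ← mul_smul, (h l hl).eq, mul_smul, c]
      apply bC <;> exact this _ (by decide)
    have h1 : V [8, 26, 22, 10, 18, 14, 8, 26] • w • r 1 = w • r 1 := by
      rw [← mul_smul, ← (h _ (evn idx h0 h2 _)).eq, mul_smul, sm (by decide +kernel)]
      exact congrArg _ (by decide +kernel)
    have h3 : V [28] • w • r 1 ≠ w • r 1 := by
      rw [← mul_smul, ← (cν w).eq, mul_smul, Ne, smul_left_cancel_iff, smν]; decide +kernel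
    have h4 := lt h3
    rw [sm (by decide +kernel)] at h1
    rw [smν] at h3
    refine ((by decide +kernel : ∀ v < 256, e [8, 26, 22, 10, 18, 14, 8, 26] v = v → e [28] v ≠ v →
      v = r 1 ∨ e [28] v = r 1) _ h4 h1 h3).imp (key w h) fun c => ?_
    rw [← one_mul w, ← νν, mul_assoc, key (V [28] * w) (fun x hx => (cν x).symm.mul_left (h x hx))
      (by rw [mul_smul, smν, c]), mul_one]
  cls := fun w h => (cls w h).imp_right (Or.imp_right fun ⟨g, u, hu, c⟩ => ⟨g, V u, by
    simp only [ρ, Va]; exact List.mem_map_of_mem (f := V) hu, c⟩)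
  rf := fun i hi => rf h0 h2 i (by omega)
  ρE := ρE idx h0 h2
  ρρ := (Va _ _).trans (eq1 (by decide +kernel))
  jE := evn idx h0 h2 _
  jj := (Va _ _).trans (eqv (by decide +kernel))
  N1 := Set.ext fun v => by
    by_cases c : v < 256
    · simp only [Ng, Set.mem_ofPred_eq, smρ, smν, Set.mem_insert_iff, Set.mem_singleton_iff, Nat.one_lt_ofNat]
      revert v; decide +kernel
    · simp only [Ng, Set.mem_ofPred_eq, ge _ c, smν, Set.mem_insert_iff, Set.mem_singleton_iff]
      have : r 1 < 256 ∧ e [28] (r 1) < 256 := by decide +kernel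
      omega
  st := fun w h => cm_gen (by decide +kernel) (s0.stab w w.2 h)
  cnt := by
    simp only [ρ, Va]
    exact ⟨cn _ (by decide +kernel), cn _ (by decide +kernel), cn _ (by decide +kernel), cn _ (by decide +kernel),
      cn _ (by decide +kernel), cn _ (by decide +kernel)⟩
  nb := ⟨V [34], by simp only [ρ, Vi, Va]; exact eqv (by decide +kernel)⟩
  nc := ⟨_, evn idx h0 h2 [12, 26, 4, 8, 16, 24, 14, 10, 26, 4, 20, 24, 26, 16, 8, 26, 10, 12], by simp only [ρ, Vi, Va]; exact eqv (by decide +kernel)⟩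
  fB := by
    simp only [ρ, Va]
    rintro _ rfl
    refine ⟨V [4, 6, 4, 8, 4, 10], od [[4, 6], [4, 8, 4, 10]] (by decide +kernel), V [4, 6, 4, 10, 4, 12],
      od [[4, 6], [4, 10, 4, 12]] (by decide +kernel), V [14, 24, 24, 16], od [[14, 24], [24, 16]] (by decide +kernel),
      V [14, 24, 14, 18, 24, 18], od [[14, 24], [14, 18, 24, 18]] (by decide +kernel), ?_⟩
    simp only [Va]
    exact ⟨eqv (by decide +kernel), eqv (by decide +kernel), eqv (by decide +kernel), eq1 (by decide +kernel),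
      eq1 (by decide +kernel), eqv (by decide +kernel), cmv (by decide +kernel), cmv (by decide +kernel),
      cmv (by decide +kernel), cmv (by decide +kernel)⟩
  fJ := by
    have := od (n := 5) (u := jw) (x := jw) [[4, 8, 12, 24, 26, 16, 4, 6, 26, 14, 24, 22, 16, 10, 22, 14, 16, 18], [18, 24, 16, 26, 4, 6, 24, 20, 26, 8, 18, 24, 22, 14, 12, 22, 12, 14], [4, 6, 20, 24, 16, 18, 26, 8, 12, 22, 14, 26, 12, 22]] (by decide +kernel)
    exact ⟨this, ((Va _ _).trans (eqv (by decide +kernel)) : V jw * V jw = V [28]) ▸ mul_mem this this⟩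
  fa := by
    simp only [ρ, Va]
    rintro _ rfl
    refine ⟨by rw [Va]; exact od [[22, 16, 24, 14, 18, 24], [20, 22, 12, 24, 16, 20], [10, 22, 14, 24]] (by decide +kernel), V [10, 12], od [[10, 22], [22, 12]] (by decide +kernel),
      (Va _ _).trans (eq1 (by decide +kernel)), ⟨V [10, 14], od [[10, 22], [22, 14]] (by decide +kernel), 6,
      ⟨?_, ?_⟩, (Va _ _).trans (eq1 (by decide +kernel)), ?_, ?_, fun u hu => ?_⟩, _,
      evn idx h0 h2 [4, 6], _, evn idx h0 h2 [6, 4], V [4, 8, 6, 4], V [22, 14, 24, 18], V [10, 22, 14, 24],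
      V [10, 12], ?_⟩
    iterate 4 (rw [sm (by decide +kernel)]; try rw [smν]); decide +kernel
    · have := lt hu.2
      rw [Ng, Set.mem_ofPred_eq, sm (by decide +kernel), smν] at hu
      rw [sm (by decide +kernel), smν]
      revert hu; revert u; decide +kernel
    simp only [Vi, Va, Vp, commute_iff_eq]
    exact ⟨eqv (by decide +kernel), eqv (by decide +kernel), eqv (by decide +kernel), nev 0 (by decide +kernel), eq1 (by decide +kernel),
      eqv (by decide +kernel), eqv (by decide +kernel), nev 4 (by decide +kernel), eq1 (by decide +kernel),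
      eqv (by decide +kernel), eqv (by decide +kernel), eq1 (by decide +kernel), ne1 4 (by decide +kernel), nev 0 (by decide +kernel)⟩
  fC := by
    simp only [ρ, Va]
    rintro _ rfl
    refine ⟨V [6, 8, 18, 20], od [[4, 6, 22, 24, 14, 16, 22, 24, 26, 12, 4, 8, 26, 12], [4, 8, 6, 4, 26, 20, 16, 26, 22, 12, 10, 22, 24, 16, 14, 24, 16, 20]] (by decide +kernel),
      (Va _ _).trans (eq1 (by decide +kernel)), ne1 0 (by decide +kernel), ⟨V [24, 18, 14, 24, 22, 14, 10, 22], ?_⟩, _,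
      evn idx h0 h2 [24, 20, 26, 14, 24, 16, 4, 12, 26, 6, 4, 6], ?_⟩ <;> simp only [Vi, Va] <;> exact eqv (by decide +kernel)
  fT := by
    refine ⟨V [6, 12], V [8, 14], ?_⟩
    simp only [ρ, Va, List.forall_mem_cons]
    refine ⟨⟨ne1 0 (by decide +kernel), cmv (by decide +kernel), _, evn idx h0 h2 [4, 12, 6, 4], ?_⟩,
      ⟨ne1 2 (by decide +kernel), cmv (by decide +kernel), _, evn idx h0 h2 [24, 16, 26, 14, 24, 16, 8, 26], ?_⟩,
      ⟨ne1 0 (by decide +kernel), cmv (by decide +kernel), _, evn idx h0 h2 [4, 10, 22, 14, 6, 4, 10, 22], ?_⟩,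
      by simp⟩ <;> simp only [Vi, Va] <;> exact eqv (by decide +kernel)
  bC := bC
  ch2 := fun v a b => by
    have c := lt a
    rw [smν] at a
    rw [smρ _ (by decide)] at b
    obtain ⟨g, hg, d⟩ := (s1.orb v).2 (mem_mset.2 ⟨c, by revert a b; revert v; decide +kernel⟩)
    exact ⟨⟨g, s0.le hg⟩, s0.fix g hg, d⟩
  ch3 := fun v a b b' => by
    have c := lt a
    rw [smν] at a
    rw [smρ _ (by decide)] at b b'
    obtain ⟨g, hg, d⟩ := (s2.orb v).2 (mem_mset.2 ⟨c, by revert a b b'; revert v; decide +kernel⟩)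
    exact ⟨⟨g, s0.le (s1.le hg)⟩, s0.fix g (s1.le hg), s1.fix g hg, d⟩
  st3 := fun w h a b c => by
    have := congrArg Subtype.val (pow_card_eq_one' (x := (⟨w, s2.stab w (s1.stab w (s0.stab w w.2 a) b) c⟩ :
      gen ns (ltrs [12, 14, 24, 16, 18, 20]))))
    rw [c3] at this
    calc w = w ^ (384 + 1) := by rw [pow_succ, show w ^ 384 = 1 from Subtype.ext this, one_mul]
      _ = 1 := by rw [show 384 + 1 = 5 * 77 from rfl, pow_mul, h, one_pow]
  fx := fun v h => by
    by_cases c : v < 256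
    · rw [ρ, ρ, Va, sm (by decide +kernel)] at h
      simp only [smρ, Nat.reduceLT]
      revert h; revert v; decide +kernel
    · simp [ge _ c]
  ort := fun i k h => by
    rw [smρ i (by omega)]
    exact (by decide +kernel : ∀ i < 9, ∀ k < 9, 0 < i → 0 < k → i ≠ k → e [2 * i + 4] (r k) = r k) i h.2.1 k
      h.2.2.2.1 h.1 h.2.2.1 h.2.2.2.2
  geo1 := fun v h => by
    have c := lt h
    simp only [smρ, smν, Nat.reduceLT] at h ⊢
    revert v; decide +kernel
  geo2 := fun v => by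
    by_cases c : v < 256
    · simp only [smρ, smν, Nat.reduceLT]
      revert v; decide +kernel
    · simp [ge _ c]
  br := by
    simp only [ρ, commute_iff_eq, Va]
    exact ⟨nev 0 (by decide +kernel), nev 2 (by decide +kernel), nev 4 (by decide +kernel)⟩

end Cfsg.Agent.Std.O8W
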