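import Cfsg.Agent.Std.O8X0
import Cfsg.Agent.Comp.InvCov
import Cfsg.Agent.Std.O8A

/-! The Weyl group of type `E₈` on the 240 roots. -/

set_option autoImplicit false
set_option maxRecDepth 4096

namespace Cfsg.Agent.Std.O8W

open Cfsg.Agent.Comp Cfsg.Agent.Comp.IC Subgroup

noncomputable def ns_0 : Net :=
 (Net.cons (nat_lit 128) (nat_lit 0xc30fc0ff0cf3ff000fcfcc30fc03c03c)
 (Net.cons (nat_lit 64) (nat_lit 0xfcc33f30cf330cff0000000000000000000cff3330c3fc0f)
 (Net.cons (nat_lit 32) (nat_lit 0xc0ff00000000000f30cff0000000000ff3f0cf30000000003ff030f)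
 (Net.cons (nat_lit 16) (nat_lit 0xccff0000ff330000cccc0000c30c0000c0000000c0000000ff030000f3c0)
 (Net.cons (nat_lit 8) (nat_lit 0xcf000c00c0003c00ff000f00c300ff00f0003c003c00ff003000cc00cf0003)
 (Net.cons (nat_lit 4) (nat_lit 0xf0c0000000c000c0f030f030c03030003000f030c0c0f00030f030000030f03)
 (Net.cons (nat_lit 2) (nat_lit 0x3000330303330330033003000033030300030330303000003003300330033303)
 (Net.cons (nat_lit 1) (nat_lit 0x4444440014411441115450100154100414044510000011045051145410144110)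
 (Net.cons (nat_lit 4) (nat_lit 0xc0c000c000c0c00000000000c000c0c0c0c0000000c000c0c0000000c)
 (Net.cons (nat_lit 8) (nat_lit 0x3000000000003000cc000c00c000000000000000c000c0000c0000000c00fc)
 (Net.cons (nat_lit 16) (nat_lit 0x33c000000c000000cc0000003fc0000033c0000c0cc0000fc3c00000c00)
 (Net.cons (nat_lit 32) (nat_lit 0x30cf0c0c000000003000000000000000f3cf33f000000000033c0300)
 (Net.cons (nat_lit 64) (nat_lit 0x3ccf3cfff3303f0c00000000000000000c3c0cfcf03c0fcc)
 (Net.cons (nat_lit 128) (nat_lit 0xc30fccf03f3c330fc330c0ccf33f0c3c)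
 Net.nil))))))))))))))

noncomputable def ns_1 : Net :=
 (Net.cons (nat_lit 128) (nat_lit 0xc3cf0f000fc0fffc0ff3cc0ccc303fc)
 (Net.cons (nat_lit 64) (nat_lit 0xf0c3333333003f0c00000000000000000c0c33c0cf3c3030)
 (Net.cons (nat_lit 32) (nat_lit 0xf03c0ff3000000000c0c3303000000000f3f3333000000000fcc03c3)
 (Net.cons (nat_lit 16) (nat_lit 0xf3300003ff300000c3c000033330000cccc00003ccf0000fc030000ffc0)
 (Net.cons (nat_lit 8) (nat_lit 0xc3003000030003000c000c00c300c30030003c0033003c00c0000300cf00c0)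
 (Net.cons (nat_lit 4) (nat_lit 0xf0c0c030c0f000c000c0f0f0300030c030003030c0f0f000f00030c0f0c0000)
 (Net.cons (nat_lit 2) (nat_lit 0x3300003003303003033003000003333003303030003303030333030303003003)
 (Net.cons (nat_lit 1) (nat_lit 0x1544441454555455050045544544454455555555445544444544415511555055)
 (Net.cons (nat_lit 4) (nat_lit 0xc0c00000c000c0c0000000000000c0c00000c0c00000c)
 (Net.cons (nat_lit 8) (nat_lit 0xc0000c00fc00cc000000c000c00000003000000030003c0030003c00fc0000)
 (Net.cons (nat_lit 16) (nat_lit 0x3f300000c3f000000c300000ccfc00000fc00000cccc00003c300000fcf0)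
 (Net.cons (nat_lit 32) (nat_lit 0xc0c000fc000000000f3030c000000000ff3c0f0c000000003f3ff300)
 (Net.cons (nat_lit 64) (nat_lit 0xf0ffff03300c00c000000000000000000c0c003033f3f000)
 (Net.cons (nat_lit 128) (nat_lit 0xc3c3cccffc0cf003ffc0fccc0c0cfcc)
 Net.nil))))))))))))))

noncomputable def ns_2 : Net :=
 (Net.cons (nat_lit 64) (nat_lit 0xffffffff00000000000000000000000000ffff000000)
 (Net.cons (nat_lit 32) (nat_lit 0xffff000000000000ffff0000000000000000ff000000000000000f00)
 (Net.cons (nat_lit 16) (nat_lit 0xffff000000000000ffff00000000000000000000ff0000000000000000f0)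
 (Net.cons (nat_lit 8) (nat_lit 0xff00ff0000000000ff00ff00000000000000ff000000ff000000000000000f)
 (Net.cons (nat_lit 4) (nat_lit 0xf0f0f0f000000000f0f0f0f0000000000000000000000000000000000000000)
 (Net.cons (nat_lit 2) (nat_lit 0x3333333300000000333333330000000000003333000033330000000000300333)
 (Net.cons (nat_lit 1) (nat_lit 0x5555555500000000555555550000000000005555000055550000000000540451)
 (Net.cons (nat_lit 16) (nat_lit 0xff000000000000000000)
 (Net.cons (nat_lit 32) (nat_lit 0xffff000000000000ffff0000000000000000ff000000000000000f00)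
 (Net.cons (nat_lit 64) (nat_lit 0xffff000000)
 Net.nil))))))))))

noncomputable def ns_3 : Net :=
 (Net.cons (nat_lit 128) (nat_lit 0xffff0000000000000000000000000000)
 (Net.cons (nat_lit 64) (nat_lit 0xffff00000000000000000000000000000000000000000000)
 (Net.cons (nat_lit 32) (nat_lit 0xff0000)
 (Net.cons (nat_lit 16) (nat_lit 0xffff0000ffff00000000000000000000ffff00000000)
 (Net.cons (nat_lit 8) (nat_lit 0xff00ff00ff00ff000000000000000000ff00ff00ff0000)
 (Net.cons (nat_lit 4) (nat_lit 0xf0f0f0f0f0f0f0f00000000000000000000000000000000)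
 (Net.cons (nat_lit 2) (nat_lit 0x333333333333333300000000000000000000000000000000)
 (Net.cons (nat_lit 1) (nat_lit 0x555555555555555500000000000000000000000000000001)
 (Net.cons (nat_lit 32) (nat_lit 0xff0000)
 (Net.cons (nat_lit 64) (nat_lit 0xffff00000000000000000000000000000000000000000000)
 (Net.cons (nat_lit 128) (nat_lit 0xffff0000000000000000000000000000)
 Net.nil)))))))))))

noncomputable def ns_4 : Net :=
 (Net.cons (nat_lit 64) (nat_lit 0xffff00000000000000000000000000000000000000000000)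
 (Net.cons (nat_lit 32) (nat_lit 0xff0000)
 (Net.cons (nat_lit 16) (nat_lit 0xffff0000ffff000000000000000000000000000000000000ffff00000000)
 (Net.cons (nat_lit 8) (nat_lit 0xff00ff00ff00ff0000000000000000000000000000000000ff00ff00ff0000)
 (Net.cons (nat_lit 4) (nat_lit 0xf0f0f0f0f0f0f0f000000000000000000000000000000000000000000000000)
 (Net.cons (nat_lit 2) (nat_lit 0x3333333333333333000000000000000000000000000000003333333333330000)
 (Net.cons (nat_lit 1) (nat_lit 0x5555555555555555000000000000000000000000000000005555555555550004)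
 (Net.cons (nat_lit 32) (nat_lit 0xff0000)
 (Net.cons (nat_lit 64) (nat_lit 0xffff00000000000000000000000000000000000000000000)
 Net.nil)))))))))

noncomputable def ns_5 : Net :=
 (Net.cons (nat_lit 16) (nat_lit 0xffff000000000000ffff000000000000ffff0000000000000000)
 (Net.cons (nat_lit 4) (nat_lit 0xf00000f0000)
 (Net.cons (nat_lit 1) 16
 Net.nil)))

noncomputable def ns_6 : Net :=
 (Net.cons (nat_lit 128) (nat_lit 0xffff0000000000000000000000000000)
 (Net.cons (nat_lit 64) (nat_lit 0xffffffff0000000000000000000000000000000000000000)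
 (Net.cons (nat_lit 16) (nat_lit 0xffff000000000000ffff00000000000000000000ffff0000000000000000)
 (Net.cons (nat_lit 4) (nat_lit 0xf00000f0000)
 (Net.cons (nat_lit 2) (nat_lit 0x333333330000330000330000)
 (Net.cons (nat_lit 1) (nat_lit 0x555555550000000000000040)
 (Net.cons (nat_lit 128) (nat_lit 0xffff0000000000000000000000000000)
 Net.nil)))))))

noncomputable def ns_7 : Net :=
 (Net.cons (nat_lit 8) (nat_lit 0xf000f000f000f000f000f000f000f000ff000000000000000000000000)
 (Net.cons (nat_lit 4) (nat_lit 0xf000f000f000f000f000f000f000f000000000f000f000f00000f000000)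
 (Net.cons (nat_lit 1) 256
 (Net.cons (nat_lit 8) (nat_lit 0xf000f000f000f000f000f000f000f00000000000000000000000000000)
 Net.nil))))

noncomputable def ns_8 : Net :=
 (Net.cons (nat_lit 8) (nat_lit 0xf000f000f000f000f000f000f000f000ff000000000000000000000000)
 (Net.cons (nat_lit 4) (nat_lit 0xf000f000f000f000f000f000f000f0000000f000f000f00000f000000)
 (Net.cons (nat_lit 2) (nat_lit 0x3333003300330033000033000000)
 (Net.cons (nat_lit 1) (nat_lit 0x5555000000000000000000000400)
 (Net.cons (nat_lit 8) (nat_lit 0xf000f000f000f000f000f000f000f00000000000000000000000000000)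
 Net.nil)))))

noncomputable def ns_9 : Net :=
 (Net.cons (nat_lit 4) (nat_lit 0xf0f0f000f000f00000f00000000)
 (Net.cons (nat_lit 2) (nat_lit 0x33030033003033030030330033030030000000000000000000000000000)
 (Net.cons (nat_lit 1) 4096
 Net.nil)))

noncomputable def ns_10 : Net :=
 (Net.cons (nat_lit 4) (nat_lit 0xf0f0f000f000f00000f00000000)
 (Net.cons (nat_lit 2) (nat_lit 0x300303300330300303303003300303303333330033003300003300000000)
 (Net.cons (nat_lit 1) 16384
 Net.nil)))

noncomputable def ns_11 : Net :=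
 (Net.cons (nat_lit 128) (nat_lit 0xff000000000000000000000000000000)
 (Net.cons (nat_lit 64) (nat_lit 0xff000000000000ff00000000000000000000000f0ff000f0)
 (Net.cons (nat_lit 32) (nat_lit 0xff0000ff00000000ff0000ff00000000f0000000000000000f000000)
 (Net.cons (nat_lit 16) (nat_lit 0xff000000ff000000ff000000ff000000f000000000000000ff0000000f00)
 (Net.cons (nat_lit 8) (nat_lit 0xff000000ff000000ff000000ff000000f000f0000000f0000f00f00000)
 (Net.cons (nat_lit 4) (nat_lit 0xf00000f000f00000f000000)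
 (Net.cons (nat_lit 1) (nat_lit 0x100000000000000000000)
 (Net.cons (nat_lit 8) (nat_lit 0xf0000000f0000000f00000)
 (Net.cons (nat_lit 16) (nat_lit 0xff000000ff000000ff000000ff000000f000000000000000ff0000000f00)
 (Net.cons (nat_lit 32) (nat_lit 0xf0000000000000000f000000)
 (Net.cons (nat_lit 64) (nat_lit 0xf0ff000f0)
 (Net.cons (nat_lit 128) (nat_lit 0xff000000000000000000000000000000)
 Net.nil))))))))))))

noncomputable def ns_12 : Net :=
 (Net.cons (nat_lit 64) (nat_lit 0xf00ff0000000)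
 (Net.cons (nat_lit 32) (nat_lit 0xfcc00000000000000000ff00)
 (Net.cons (nat_lit 16) (nat_lit 0xf000000000000000000000000000)
 (Net.cons (nat_lit 8) (nat_lit 0xc000f0003c00f000f0000f00000000)
 (Net.cons (nat_lit 4) (nat_lit 0xc0c0c0c0c0c0c0c0c0c0c0c0c0c0c0c000f030c0f000f00000000000000)
 (Net.cons (nat_lit 2) (nat_lit 0x303030303030303030303030303000300000003000000000000000000000)
 (Net.cons (nat_lit 1) (nat_lit 0x100000000000000000000000000)
 (Net.cons (nat_lit 4) (nat_lit 0xc0c0c0c0c0c0c0c0c0c0c0c0c0c000c0000000c00000000000000000000)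
 (Net.cons (nat_lit 8) (nat_lit 0xc000f0003c00f000f0000000000000)
 (Net.cons (nat_lit 16) (nat_lit 0xf000000000000000000000000000)
 (Net.cons (nat_lit 32) (nat_lit 0xfcc000000000000000000f00)
 (Net.cons (nat_lit 64) (nat_lit 0xf00ff0000000)
 Net.nil))))))))))))

noncomputable def ns_13 : Net :=
 (Net.cons (nat_lit 128) (nat_lit 0x303cccf0c0f0c0cc0f0c00c0cc0000)
 (Net.cons (nat_lit 64) (nat_lit 0x300000000000000000000000000000030030cc00000000)
 (Net.cons (nat_lit 32) (nat_lit 0xc000c000000000000000000000000000ccc33c00)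
 (Net.cons (nat_lit 16) (nat_lit 0x30c00000c0c0000000cc000000000000c0000000fc0c)
 (Net.cons (nat_lit 8) (nat_lit 0xc000c0000c00000000000000000000000000000000000c00f000c0)
 (Net.cons (nat_lit 4) (nat_lit 0xc0c000c00000c0c000000000c000c0c000c0c0c0c000000000c000000)
 (Net.cons (nat_lit 2) (nat_lit 0x33000000000303000000003000300030000300030000300000000330000)
 (Net.cons (nat_lit 1) (nat_lit 0x455444404440441444004000400000004400544454444000444444504040)
 (Net.cons (nat_lit 4) (nat_lit 0xc000000000c0000000000000c000c00000c000c000000000000000000)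
 (Net.cons (nat_lit 8) (nat_lit 0xc000c000f000000000000000000000000000000000000000f00000)
 (Net.cons (nat_lit 16) (nat_lit 0x30c0000000c0000000c000000000000000000000fc0c)
 (Net.cons (nat_lit 32) (nat_lit 0xc000c000000000000000000000000000ccc33c00)
 (Net.cons (nat_lit 64) (nat_lit 0x300000000000000000000000000000030030cc00000000)
 (Net.cons (nat_lit 128) (nat_lit 0x303c0c30c030c0cc0f0c00c0cc0000)
 Net.nil))))))))))))))

noncomputable def ns_14 : Net :=
 (Net.cons (nat_lit 1) (nat_lit 0x555555555555555555555555555555555555555555555555555555555555)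
 Net.nil)

noncomputable def ns_15 : Net :=
 (Net.cons (nat_lit 128) (nat_lit 0xffff0000000000000000000000000000)
 (Net.cons (nat_lit 64) (nat_lit 0xffff00000000ffff00000000000000000000000000000000)
 (Net.cons (nat_lit 32) (nat_lit 0xffffffff00000000ffffffff00000000000000000000000000000000)
 (Net.cons (nat_lit 16) (nat_lit 0xffff0000ffff0000ffff0000ffff00000000000000000000000000000000)
 (Net.cons (nat_lit 2) (nat_lit 0x3030033330003000303000303030)
 (Net.cons (nat_lit 1) (nat_lit 0x555500000000000000000000)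
 (Net.cons (nat_lit 128) (nat_lit 0xffff0000000000000000000000000000)
 Net.nil)))))))

noncomputable def ns_16 : Net :=
 (Net.cons (nat_lit 32) (nat_lit 0xffff0000)
 (Net.cons (nat_lit 16) (nat_lit 0xff0000000000)
 (Net.cons (nat_lit 8) (nat_lit 0xf0000f000f00f0000f00f000f0000f00f000ff00ff000000ff00ff0000)
 (Net.cons (nat_lit 4) (nat_lit 0xc0c030303030c0c03030c0c0c0c03030f00000000000000000000000f00)
 (Net.cons (nat_lit 2) (nat_lit 0x33003300330033003300330033003300000000000000000000000000000)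
 (Net.cons (nat_lit 1) (nat_lit 0x1111000000000000000000000000)
 (Net.cons (nat_lit 4) (nat_lit 0xc0c0c0c0c0c0c0c0c0c0c0c0c0c0c0c0000000000000000000000000000)
 (Net.cons (nat_lit 8) (nat_lit 0xf000f000f000f000f000f000f000f000f0000000000000000000000000)
 (Net.cons (nat_lit 16) (nat_lit 0xff0000000000)
 (Net.cons (nat_lit 32) (nat_lit 0xffff0000)
 Net.nil))))))))))

noncomputable def ns_17 : Net :=
 (Net.cons (nat_lit 128) (nat_lit 0xfc3f0000000000000000000000000000)
 (Net.cons (nat_lit 64) (nat_lit 0xffff000000000000000000000000ff00ffff00000000)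
 (Net.cons (nat_lit 32) (nat_lit 0xf0f0f0f000000000f0f0f0f000000000ff0ff00f0000000000ff0000)
 (Net.cons (nat_lit 16) (nat_lit 0xcc33000033cc000033cc0000cc330000f0f000000f00000000ff00000000)
 (Net.cons (nat_lit 8) (nat_lit 0xf000f00000000000f000ff)
 (Net.cons (nat_lit 4) (nat_lit 0xf000f0f000f000f000f00000f000f0f0f000000000f0000000000000f0000)
 (Net.cons (nat_lit 2) (nat_lit 0x3003033003303003300303300330300300000000000000000000000000000000)
 (Net.cons (nat_lit 1) (nat_lit 0x55005500550015005500550055005511111041111011010000000011110000)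
 (Net.cons (nat_lit 8) (nat_lit 0xf00000000000f00000)
 (Net.cons (nat_lit 16) (nat_lit 0xcccc0000cccc0000cccc0000cccc0000f0f000000f000000000000000000)
 (Net.cons (nat_lit 32) (nat_lit 0xf0f0f0f000000000f0f0f0f000000000ff0ff0000000000000ff0000)
 (Net.cons (nat_lit 64) (nat_lit 0xffff000000000000000000000000ff0000ff00000000)
 (Net.cons (nat_lit 128) (nat_lit 0xfc3f0000000000000000000000000000)
 Net.nil)))))))))))))

noncomputable def ns_18 : Net :=
 (Net.cons (nat_lit 4) (nat_lit 0xf0f0f0f0f0f0f0f0f0f0f0f0f0f0f0f0000000000000000000000000000)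
 (Net.cons (nat_lit 2) (nat_lit 0x330303030303030003030003300)
 (Net.cons (nat_lit 1) (nat_lit 0x5500000000000000000000000000)
 Net.nil)))

noncomputable def ns_19 : Net :=
 (Net.cons (nat_lit 128) (nat_lit 0xffff0000000000000000000000000000)
 (Net.cons (nat_lit 64) (nat_lit 0xffff0000000000000000000000000f000ffffff00000)
 (Net.cons (nat_lit 32) (nat_lit 0xffffffff00000000000000000000000000ff00ff00000000fff00000)
 (Net.cons (nat_lit 16) (nat_lit 0xffff0000ffff0000000000000000000000f00000ff000000000000000000)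
 (Net.cons (nat_lit 8) (nat_lit 0xf000f000f000f00f000f000f000f0000f00f00000000000ff00f000f00000)
 (Net.cons (nat_lit 4) (nat_lit 0x3030303030303030c0c0c0c0c0c0c0c00000f000000000000000f0000000f0f)
 (Net.cons (nat_lit 2) (nat_lit 0x3003033003303003300303300330300300000000000000000000000000000000)
 (Net.cons (nat_lit 1) (nat_lit 0x5555000000005555555500000000555500001110000000000000111100010000)
 (Net.cons (nat_lit 4) (nat_lit 0xc0c0c0c0c0c0c0c0c0c0c0c0c0c0c0c00000000000000000000000000000000)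
 (Net.cons (nat_lit 8) (nat_lit 0xf000f000f000f000f000f000f000f0000000f000000000000000f000000000)
 (Net.cons (nat_lit 16) (nat_lit 0xf0000000000000000000000000)
 (Net.cons (nat_lit 32) (nat_lit 0xff0000000000000f000000)
 (Net.cons (nat_lit 64) (nat_lit 0xffff0000000000000000000000000f000ffffff00000)
 (Net.cons (nat_lit 128) (nat_lit 0xffff0000000000000000000000000000)
 Net.nil))))))))))))))

noncomputable def ns_20 : Net :=
 (Net.cons (nat_lit 128) (nat_lit 0xffff0000000000000000000000000000)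
 (Net.cons (nat_lit 64) (nat_lit 0xffffffff000000000000000000000000000000000000)
 (Net.cons (nat_lit 32) (nat_lit 0xffffffff00000000ffffffff00000000000000000000000000000000)
 (Net.cons (nat_lit 16) (nat_lit 0xffff0000ffff0000ffff0000ffff00000000000000000000000000000000)
 (Net.cons (nat_lit 4) (nat_lit 0xf0f0f0f0f0f0f0f0f0f0f0f0f0f0f0f00000000000000000000000000000000)
 (Net.cons (nat_lit 2) (nat_lit 0x330030330300303033030303333)
 (Net.cons (nat_lit 1) (nat_lit 0x5500555500005555550000000000)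
 (Net.cons (nat_lit 128) (nat_lit 0xffff0000000000000000000000000000)
 Net.nil))))))))

noncomputable def ns_21 : Net :=
 (Net.cons (nat_lit 128) (nat_lit 0xffff0000000000000000000000000000)
 (Net.cons (nat_lit 64) (nat_lit 0xffff00000000000000000000000000000000000000000000)
 (Net.cons (nat_lit 32) (nat_lit 0xff0000)
 (Net.cons (nat_lit 16) (nat_lit 0xffff0000ffff00000000000000000000ffff00000000)
 (Net.cons (nat_lit 8) (nat_lit 0xf000f000f000f000f000f000f000f0000000ff0000000000ff00ff00ff0000)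
 (Net.cons (nat_lit 4) (nat_lit 0xf000f000f000f00000f000f000f000f00000000000f000f000000000f0f0000)
 (Net.cons (nat_lit 2) (nat_lit 0x333333333333333300000000000000000000000000000000)
 (Net.cons (nat_lit 1) (nat_lit 0x555555555555555500000000000000000000000000000101)
 (Net.cons (nat_lit 8) (nat_lit 0xf000f000f000f000f000f000f000f000000000000000000000000000000000)
 (Net.cons (nat_lit 32) (nat_lit 0xff0000)
 (Net.cons (nat_lit 64) (nat_lit 0xffff00000000000000000000000000000000000000000000)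
 (Net.cons (nat_lit 128) (nat_lit 0xffff0000000000000000000000000000)
 Net.nil))))))))))))

noncomputable def ns_22 : Net :=
 (Net.cons (nat_lit 128) (nat_lit 0xffff0000000000000000000000000000)
 (Net.cons (nat_lit 64) (nat_lit 0xffff00000000000000000000000000000000000000000000)
 (Net.cons (nat_lit 32) (nat_lit 0xff0000)
 (Net.cons (nat_lit 16) (nat_lit 0xffff0000ffff00000000000000000000ffff0000ffff00000000)
 (Net.cons (nat_lit 8) (nat_lit 0xff00ff00ff00ff000000000000000000ff00ff00ff0000)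
 (Net.cons (nat_lit 4) (nat_lit 0xf0f0f0f0f0f0f0f0000000000000000000f0f0000000000)
 (Net.cons (nat_lit 2) (nat_lit 0x333333333333333300000000000000000000000000000000)
 (Net.cons (nat_lit 1) (nat_lit 0x555555555555555500000000000000000000000000000011)
 (Net.cons (nat_lit 32) (nat_lit 0xff0000)
 (Net.cons (nat_lit 64) (nat_lit 0xffff00000000000000000000000000000000000000000000)
 (Net.cons (nat_lit 128) (nat_lit 0xffff0000000000000000000000000000)
 Net.nil)))))))))))

noncomputable def ns_23 : Net :=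
 (Net.cons (nat_lit 128) (nat_lit 0xffff0000000000000000000000000000)
 (Net.cons (nat_lit 64) (nat_lit 0xffffffff0000000000000000000000000000000000000000)
 (Net.cons (nat_lit 16) (nat_lit 0xffff0000ffff0000ffff0000ffff00000000000000000000000000000000)
 (Net.cons (nat_lit 8) (nat_lit 0xff00ff00ff00ff00ff00ff00ff00ff00000000000000000000000000000000)
 (Net.cons (nat_lit 4) (nat_lit 0xf0f0f0f0f0f0f0f0f0f0f0f0f0f0f0f00000000000000000000000000000000)
 (Net.cons (nat_lit 2) (nat_lit 0x3333333333333333333333333333333300000000000000003333333333330000)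
 (Net.cons (nat_lit 1) (nat_lit 0x5555555555555555555555555555555500000000000000005555555555550005)
 (Net.cons (nat_lit 128) (nat_lit 0xffff0000000000000000000000000000)
 Net.nil))))))))

noncomputable def ns_24 : Net :=
 (Net.cons (nat_lit 128) (nat_lit 0xffff0000000000000000000000000000)
 (Net.cons (nat_lit 64) (nat_lit 0xffff00000000000000000000000000000000000000000000)
 (Net.cons (nat_lit 32) (nat_lit 0xff0000)
 (Net.cons (nat_lit 16) (nat_lit 0xffff0000ffff00000000000000000000ffff0000ffff00000000)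
 (Net.cons (nat_lit 8) (nat_lit 0xf000f000f000f000f000f000f000f0000000ff0000000000ff00ff00ff0000)
 (Net.cons (nat_lit 4) (nat_lit 0xf000f000f000f00000f000f000f000f00000f0f0f0f0f0f0f0f0f0f0f0f0000)
 (Net.cons (nat_lit 2) (nat_lit 0x3300330000330033330033000033003300000000000000000000000000000000)
 (Net.cons (nat_lit 1) (nat_lit 0x555555555555555500000000000000000000000000001111)
 (Net.cons (nat_lit 8) (nat_lit 0xf000f000f000f000f000f000f000f000000000000000000000000000000000)
 (Net.cons (nat_lit 32) (nat_lit 0xff0000)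
 (Net.cons (nat_lit 64) (nat_lit 0xffff00000000000000000000000000000000000000000000)
 (Net.cons (nat_lit 128) (nat_lit 0xffff0000000000000000000000000000)
 Net.nil))))))))))))

noncomputable def ns_25 : Net :=
 (Net.cons (nat_lit 128) (nat_lit 0xffff0000000000000000000000000000)
 (Net.cons (nat_lit 64) (nat_lit 0xffffffff0000000000000000000000000000000000000000)
 (Net.cons (nat_lit 16) (nat_lit 0xffff0000ffff0000ffff0000ffff00000000000000000000000000000000)
 (Net.cons (nat_lit 2) (nat_lit 0x3333333333333333333333333333333300003333003300333300333300330000)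
 (Net.cons (nat_lit 1) (nat_lit 0x5555555555555555555555555555555500005555000000005555555555550505)
 (Net.cons (nat_lit 128) (nat_lit 0xffff0000000000000000000000000000)
 Net.nil))))))

noncomputable def ns_26 : Net :=
 (Net.cons (nat_lit 8) (nat_lit 0xff00ff00ff00ff00ff00ff00ff00ff0000000000000000000000000000)
 (Net.cons (nat_lit 4) (nat_lit 0xf0f0f0f0f0f0f0f0f0f0f0f0f0f0f0f0000000000000000000000000000)
 (Net.cons (nat_lit 2) (nat_lit 0x333333333333333333333333333333330000333333333333003333000000)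
 (Net.cons (nat_lit 1) (nat_lit 0x555555555555555555555555555555550000555555555555555555550055)
 Net.nil))))

noncomputable def ns : List Net := [ns_0, ns_1, ns_2, ns_3, ns_4, ns_5, ns_6, ns_7, ns_8, ns_9, ns_10, ns_11, ns_12, ns_13, ns_14, ns_15, ns_16, ns_17, ns_18, ns_19, ns_20, ns_21, ns_22, ns_23, ns_24, ns_25, ns_26]

theorem ctx : Ctx 256 8 ns := ctx_of (by decide +kernel)

/-- the Weyl group -/
noncomputable abbrev W : Subgroup (Equiv.Perm ℕ) := gen ns [[6], [0], [2]]

/-- the covering group `2².O₈⁺(2)` -/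
noncomputable abbrev X : Subgroup (Equiv.Perm ℕ) := gen O8X.ns O8X.X_ss0

/-- the covering group extended by a graph automorphism -/
noncomputable abbrev Y : Subgroup (Equiv.Perm ℕ) := gen O8X.ns ([6] :: O8X.X_ss0)

instance finW : Finite W := finite_gen ctx.ok _

instance finX : Finite X := finite_gen O8X.ctx.ok _

instance finY : Finite Y := finite_gen O8X.ctx.ok _

theorem kn : Known ns W 134217727 :=
  (known_gen (K := 11) (by decide +kernel)).steps ctx (es := [(2, [0, 0, 2, 2, 2, 6, 3, 3, 3, 1, 1]),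
 (4, [2, 1, 3, 3, 1, 6, 0, 2, 2, 0, 3]),
 (5, [1, 1, 1, 6, 0, 0, 0]),
 (6, [1, 2, 1, 1, 6, 0, 0, 3, 0]),
 (7, [0, 3, 3, 3, 6, 2, 2, 2, 1]),
 (8, [2, 1, 1, 6, 0, 0, 3]),
 (9, [0, 3, 1, 2, 6, 3, 0, 2, 1]),
 (10, [1, 3, 1, 1, 1, 6, 0, 0, 0, 2, 0]),
 (11, [1, 1, 1, 3, 6, 2, 0, 0, 0]),
 (12, [1, 1, 3, 3, 3, 6, 2, 2, 2, 0, 0]),
 (13, [3, 3, 0, 6, 1, 2, 2]),
 (14, [6, 8, 10, 12, 14, 16, 18, 20]),
 (15, [22, 16, 14, 22, 24, 20, 18, 24]),
 (16, [24, 14, 18, 24]),
 (17, [22, 14, 10, 22, 4, 10, 6, 4, 8, 24, 18, 14, 24, 22, 14, 10, 22, 16]),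
 (18, [24, 18, 20, 24]),
 (19, [4, 10, 6, 4, 8, 12, 24, 18, 14, 24]),
 (20, [4, 8, 6, 4, 10, 12, 24, 20, 18, 24]),
 (21, [6, 14]),
 (22, [6, 10]),
 (23, [6, 8]),
 (24, [6, 10, 14, 18]),
 (25, [6, 8, 14, 16]),
 (26, [6, 8, 10, 12])]) (by decide +kernel)

noncomputable def S : List SD :=
 [⟨0, 2, [6, 4, 8, 26, 10, 22, 12, 14, 24, 16, 18, 20], fun _ => 0, 0⟩,
 ⟨2, 3, [8, 26, 10, 22, 12, 14, 24, 16, 18, 20], fun _ => 0, 0⟩,
 ⟨4, 2, [10, 22, 12, 14, 24, 16, 18, 20], fun _ => 0, 0⟩,
 ⟨6, 1, [12, 14, 24, 16, 18, 20], fun _ => 0, 0⟩,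
 ⟨8, 2, [14, 24, 16, 18, 20], fun _ => 0, 0⟩,
 ⟨10, 1, [16, 18, 20], fun _ => 0, 0⟩,
 ⟨12, 1, [18, 20], fun _ => 0, 0⟩,
 ⟨14, 1, [20], fun _ => 0, 0⟩]

theorem XY : X ≤ Y := gen_mono _ fun _ => List.mem_cons_of_mem _

theorem cjX (a : ℕ) (h : a = 4 ∨ a = 6) : ∀ x ∈ X, wp O8X.ns [a] * x * (wp O8X.ns [a])⁻¹ ∈ X := by
  refine fun x hx => (gen_le_iff (H := X.comap (MulAut.conj (wp O8X.ns [a])).toMonoidHom)).2 (fun u hu => ?_) hx
  have := O8X.X_mem ([a] ++ u ++ invW [a]) (by
    rcases h with rfl | rfl <;> rcases (by simpa [O8X.X_ss0] using hu : u = [0] ∨ u = [2]) with rfl | rfl <;> decide)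
  rwa [wp_append, wp_append, wp_invW] at this

theorem z1X : wp O8X.ns [8] ∈ X := O8X.X_mem _ (by decide)

theorem exists_pi : Nat.card W = 696729600 ∧ ∃ π : Y →* W, Function.Surjective π ∧
    π.ker = zpowers ⟨_, XY z1X⟩ ∧ (X.subgroupOf Y).index = 2 ∧ ∀ u u' h,
      shiftB 1024 10 O8X.ns 256 8 ns 0 240 u u' = true → (π ⟨wp O8X.ns u, h⟩ : Equiv.Perm ℕ) = wp ns u' := by
  obtain ⟨φ, h1, h2⟩ := exists_hom_shift O8X.ctx ctx (a := 0) (n := 240) (ws := [6] :: O8X.X_ss0)
    (ws' := [[6], [0], [2]]) (by decide +kernel)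
  let π : Y →* W := φ.codRestrict W fun g => h1.le ⟨g, rfl⟩
  have hs : Function.Surjective π := fun w => (h1.ge w.2).imp fun _ => Subtype.ext
  have h3 : ∀ u u' h, shiftB 1024 10 O8X.ns 256 8 ns 0 240 u u' = true →
      (π ⟨wp O8X.ns u, h⟩ : Equiv.Perm ℕ) = wp ns u' := fun u u' h c =>
    (h2 _).unique (fun _ _ _ _ => Nat.add_left_cancel) (repBy_of_shiftB O8X.ctx ctx c)
  have h4 : Nat.card Y ≤ 2 * Nat.card X := by
    by_cases c : wp O8X.ns [6] ∈ X
    · rw [Y, gen_cons, sup_eq_left.2 (zpowers_le.2 c)]; omega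
    · rw [Y, gen_cons, card_adjoin (cjX 6 (by simp)) (wp_append _ _ _ ▸ O8X.X_mem [6, 6] (by decide)) c]
  have h5 : zpowers ⟨_, XY z1X⟩ ≤ π.ker := zpowers_le.2 (Subtype.ext (h3 [8] [] _ (by decide +kernel)))
  have h6 : Nat.card (zpowers (⟨_, XY z1X⟩ : Y)) = 2 := by
    rw [Nat.card_zpowers]
    exact orderOf_of_model O8X.ctx (MulEquiv.refl Y) (a := [8]) rfl 2 240 (by decide +kernel)
  have h7 := card_le_of_le h5
  have h8 := π.ker.card_mul_index
  have h9 := (X.subgroupOf Y).card_mul_index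
  have h10 := card_ge_of_known ctx kn (S := S) (n := 696729600) (by decide +kernel)
  rw [index_ker, MonoidHom.range_eq_top.2 hs, card_top] at h8
  rw [Nat.card_congr (subgroupOfEquivOfLe XY).toEquiv, O8X.X_card] at h9
  rw [O8X.X_card] at h4
  have h11 : Nat.card π.ker = 2 := by nlinarith
  rw [h11] at h8
  exact ⟨by omega, π, hs, (eq_of_le_of_card_ge h5 (by omega)).symm, by omega, h3⟩

theorem ex : Exact 256 ns S ∧ gen ns (sTop S) = W :=
  exact_of_le ctx exists_pi.1 (kn.gen_le (by decide +kernel)) (by decide +kernel)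

noncomputable def EE : List ℕ → ℕ → ℕ := pfW0 256 8 8 255 trN8 ns

theorem hE : Evl 256 ns EE := evl_pfW0 (lctx_of ctx trOK8 (by decide +kernel))

theorem mo : Mo 256 8 ns W 134217727 := ⟨ctx, kn, gen_le_supp ctx.ok _⟩

/-- the element of a word -/
noncomputable def V (u : List ℕ) : W := ev (MulEquiv.refl W) ns u

/-- equality test -/
noncomputable def eqV : List ℕ → List ℕ → Bool := eqP EE [0, 2, 4, 6, 8, 10, 12, 14] 134217727

theorem eqv {u v : List ℕ} (h : eqV u v = true) : V u = V v :=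
  mo.qsP hE (bas_of_exact ex.1 ex.2 (by decide +kernel)) _ u v h

theorem Va (u v : List ℕ) : V u * V v = V (appendR u v) := (ev_appendR _ _ u v).symm

theorem Vi (u : List ℕ) : (V u)⁻¹ = V (invW u) := (ev_invW _ _ u).symm

theorem Vp (u : List ℕ) (n : ℕ) : V u ^ n = V (powW u n) := (ev_powW _ _ u n).symm

theorem Vc {u : List ℕ} (h : inK 134217727 u = true) : (V u : Equiv.Perm ℕ) = wp ns u :=
  kn.pm_ev (MulEquiv.refl W) h

theorem cmv {u v : List ℕ} (h : eqV (appendR u v) (appendR v u) = true) : Commute (V u) (V v) :=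
  (Va _ _).trans ((eqv h).trans (Va _ _).symm)

theorem cm_gen {ws : List (List ℕ)} {v : List ℕ} (h : and' (allL ws (inK 134217727))
    (allL ws fun u => eqV (appendR u v) (appendR v u)) = true) {w : W} (hw : w.1 ∈ gen ns ws) :
    Commute w (V v) := mem_centralizer_singleton_iff.1
  (QS.sub_le_cent (e := MulEquiv.refl W) (fun _ _ => eqv) kn h hw)

theorem cν (w : W) : Commute w (V [28]) := cm_gen (by decide +kernel) w.2

theorem νν : V [28] * V [28] = 1 := (Va _ _).trans (eqv (v := []) (by decide +kernel))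

instance nrm : (zpowers (V [28])).Normal := ⟨fun x hx g => by
  rcases (mem_zpowers_two νν).1 hx with rfl | rfl <;> simp [(cν g).eq]⟩

/-- words modulo the centre -/
noncomputable def fq (u : List ℕ) : W ⧸ zpowers (V [28]) := V u

noncomputable def qq (u v : List ℕ) : Bool := or' (eqV u v) (eqV u (appendR [28] v))

theorem wm : WM fq qq := ⟨rfl, fun u v => by rw [fq, ← appendR_eq, ← Va]; rfl, fun u v h => by
  rcases (or'_eq_true _ _).1 h with c | c
  · rw [fq, eqv c]; rfl
  · rw [fq, eqv c, ← Va, QuotientGroup.mk_mul, (QuotientGroup.eq_one_iff _).2 (mem_zpowers _), one_mul]; rfl⟩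

noncomputable def top : List ℕ := [30, 32, 34, 36, 38, 40, 6, 42, 44, 46, 48, 50, 52]

noncomputable def jw : List ℕ := [4, 8, 6, 4, 8, 10, 24, 20, 18, 24, 16, 20]

noncomputable def ts : List (List ℕ) := [[6, 8], [6, 8, 10, 12], [6, 8, 10, 14], jw, [6], [6, 8, 10]]

theorem nc : Nc fq top := wm.nc (hs := [([], [[32, 36], [34], [36], [38, 40], [40], [6], [42], [44, 46, 52], [46], [48, 50], [50], [52]]),
 ([], [[34, 38], [36], [38], [40], [6], [42, 44, 48], [44], [46], [48], [50, 52], [52]]),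
 ([], [[36, 40], [38], [40], [6, 42], [42], [44, 48], [46, 50], [48], [50], [52]]),
 ([], [[38], [40], [6], [42, 46, 50], [44], [46], [48, 52], [50], [52]]),
 ([], [[40], [6, 44], [42, 48], [44], [46, 52], [48], [50], [52]]),
 ([], [[6, 46], [42, 50], [44, 52], [46], [48], [50], [52]]),
 ([], [[42], [44], [46], [48], [50], [52]]),
 ([], [[44], [46], [48], [50], [52]]),
 ([], [[46], [48], [50], [52]]),
 ([], [[48], [50], [52]]),
 ([], [[50], [52]]),
 ([], [[52]]),
 ([], [])]) (by decide +kernel)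

theorem cardQ : Nat.card (W ⧸ zpowers (V [28])) = 348364800 := by
  have := card_eq_card_quotient_mul_card_subgroup (zpowers (V [28]))
  rw [exists_pi.1, Nat.card_zpowers,
    show orderOf (V [28]) = 2 from mo.orderOf _ 2 0 (by decide +kernel)] at this
  omega

noncomputable def lbS : List (ℕ × ℕ × List (List ℕ)) :=
 [(0, 1, [[34], [38], [40], [28], [32], [36], [30], [48, 28], [42, 48, 50, 28], [44, 48, 52, 28], [46, 50, 52, 28], [6, 42, 44, 46, 48, 50, 52, 28]]),
 (8, 2, [[32], [36], [30], [48, 28], [42, 48, 50, 28], [44, 48, 52, 28], [46, 50, 52, 28], [6, 42, 44, 46, 48, 50, 52, 28]]),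
 (4, 2, [[30], [48, 28], [42, 48, 50, 28], [44, 48, 52, 28], [46, 50, 52, 28], [6, 42, 44, 46, 48, 50, 52, 28]]),
 (2, 1, [[48, 28], [42, 48, 50, 28], [44, 48, 52, 28], [46, 50, 52, 28], [6, 42, 44, 46, 48, 50, 52, 28]]),
 (6, 1, [[42, 48, 50, 28], [44, 48, 52, 28], [46, 50, 52, 28], [6, 42, 44, 46, 48, 50, 52, 28]]),
 (10, 1, [[44, 48, 52, 28], [46, 50, 52, 28], [6, 42, 44, 46, 48, 50, 52, 28]]),
 (12, 1, [[46, 50, 52, 28], [6, 42, 44, 46, 48, 50, 52, 28]]),
 (14, 1, [[6, 42, 44, 46, 48, 50, 52, 28]])]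

theorem lb : 2 ^ top.length ≤ Nat.card (sg fq top) := by
  have h0 : sg fq (28 :: top) = sg fq top := by
    rw [sg_cons, fq, (QuotientGroup.eq_one_iff _).2 (mem_zpowers _), zpowers_one_eq_bot, sup_bot_eq]
  have h1 := mo.le_card (MulEquiv.refl W) (B := lbS) (n := 16384) (by decide +kernel)
    (H := (sg fq top).comap (QuotientGroup.mk' _)) fun u hu => h0.le (wm.mem (inL_iff.1
      (forall_mem_of_allL (p := inL (28 :: top)) (by decide +kernel) u hu)))
  have h2 := ((sg fq top).comap (QuotientGroup.mk' _)).card_mul_index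
  have h3 := (sg fq top).card_mul_index
  rw [index_comap_of_surjective _ (QuotientGroup.mk'_surjective _), exists_pi.1] at h2
  rw [cardQ] at h3
  change 8192 ≤ _
  nlinarith

theorem ser : Ser fq top := nc.ser lb

noncomputable def cv1c : CT :=
 (.two (.two (.two (.two (.two (.two (.two (.two (.two (.two (.two (.two .triv
 (.lf [] [6, 8, 10, 12]))
 (.one [32] [] (.lf [22, 14, 10, 22] [6, 8, 10, 12])))
 (.one [30] [] (.one [36] [] (.lf [4, 26, 16, 6, 4, 26] [6, 8, 10, 12]))))
 (.two (.one [34] [] (.one [38] [] (.lf [] [6, 8])))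
 (.one [34] [] (.one [38] [] (.lf [26, 20, 8, 26, 22, 12, 10, 22] [6, 8, 10, 14])))))
 (.one [30] [52] (.one [34] [] (.two (.one [40] [] (.lf [22, 12, 26, 10, 22, 12, 8, 26] [6, 8]))
 (.one [40] [] (.lf [22, 14, 10, 22, 4, 12, 6, 4] [6, 8, 10, 14]))))))
 (.one [32] [48] (.one [36] [50] (.one [38] [] (.one [40] [] (.two (.lf [22, 16, 26, 10, 22, 12, 8, 26] [6, 8])
 (.lf [4, 12, 6, 4] [6, 8, 10, 14])))))))
 (.one [34] [] (.one [38] [] (.one [40] [] (.two (.two (.two (.lf [] [6])
 (.lf [4, 12, 6, 4] [6, 8, 10]))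
 (.one [32] [] (.lf [22, 14, 10, 22, 4, 12, 6, 4] [6, 8, 10])))
 (.one [30] [] (.one [36] [] (.lf [24, 16, 26, 14, 24, 16, 4, 12, 26, 6, 4] [6, 8, 10]))))))))
 (.two (.two (.two (.one [6] [] (.two (.one [42] [] (.one [44] [] (.lf [24, 22, 14, 6, 4, 10, 22] [6, 8, 10, 12])))
 (.one [42] [] (.one [44] [] (.lf [] [4, 8, 6, 4, 8, 10, 24, 20, 18, 24, 16, 20])))))
 (.one [6] [] (.one [34] [] (.one [42] [] (.one [44] [] (.no []))))))
 (.one [32] [48] (.one [6] [] (.one [38] [] (.one [42] [] (.no []))))))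
 (.one [34] [] (.one [38] [] (.one [6] [] (.no []))))))
 (.one [30] [] (.two (.two (.one [6] [] (.two (.one [42] [] (.two (.one [46] [] (.lf [8, 26, 24, 16, 6, 4, 26] [6, 8, 10, 12]))
 (.one [46] [] (.lf [24, 4, 8, 4] [4, 8, 6, 4, 8, 10, 24, 20, 18, 24, 16, 20]))))
 (.one [42] [] (.one [34] [] (.one [46] [] (.no []))))))
 (.one [6] [] (.one [36] [50] (.one [42] [] (.no [])))))
 (.one [34] [] (.one [6] [] (.no []))))))
 (.two (.one [34] [] (.two (.two (.two (.one [42] [50] (.two (.two (.one [48] [] (.lf [18, 14, 24, 22, 14, 10, 22, 4, 10, 6, 4] [6, 8]))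
 (.one [48] [] (.lf [18, 24, 22, 14, 10, 22] [6, 8, 10, 12])))
 (.one [30] [] (.one [48] [] (.no [])))))
 (.one [42] [50] (.two (.one [30, 42] [52] (.one [48] [] (.lf [26, 16, 24, 20, 8, 26, 24] [6, 8, 10, 14])))
 (.two (.one [48] [] (.no []))
 (.one [48] [] (.no []))))))
 (.one [32] [48] (.one [42] [50] (.no [50]))))
 (.two (.one [38] [] (.one [42] [50] (.two (.one [40, 42] [] (.one [48] [] (.lf [26, 20, 16, 24, 22, 16, 12, 26, 22] [6, 8, 10])))
 (.one [30] [] (.one [48] [] (.no []))))))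
 (.one [38] [48] (.one [42] [50] (.no [50]))))))
 (.one [34] [] (.two (.two (.one [6] [] (.one [42] [48, 50, 52] (.two (.two (.one [48] [] (.lf [26, 24, 20, 8, 4, 26] [6, 8, 10, 14]))
 (.one [48] [] (.lf [24, 14, 4, 6, 4] [4, 8, 6, 4, 8, 10, 24, 20, 18, 24, 16, 20])))
 (.one [30, 34] [] (.one [48] [] (.no []))))))
 (.one [6] [] (.one [42] [48, 50, 52] (.no [48, 50, 52]))))
 (.one [30, 34] [] (.one [6] [] (.no [])))))))
 (.two (.one [32] [] (.one [36] [] (.two (.one [6] [] (.two (.two (.one [44] [] (.one [46] [] (.two (.lf [22, 16, 26, 24, 16, 6, 4, 26, 10, 22] [6, 8, 10, 12])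
 (.lf [22, 16, 24, 10, 22, 18, 6, 4] [4, 8, 6, 4, 8, 10, 24, 20, 18, 24, 16, 20]))))
 (.one [44] [] (.one [46] [] (.no []))))
 (.one [30] [52] (.one [44] [] (.no [])))))
 (.one [6] [] (.no [])))))
 (.one [32] [] (.one [36] [] (.no [])))))
 (.two (.one [30] [] (.one [34] [] (.two (.two (.two (.one [42] [48] (.two (.two (.two (.one [50] [] (.lf [22, 16, 26, 14, 24, 16, 12, 22, 4, 10, 6, 4, 26] [6, 8]))
 (.one [50] [] (.no [])))
 (.two (.one [50] [] (.lf [16, 26, 24, 16, 8, 26] [6, 8, 10, 12]))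
 (.one [50] [] (.no []))))
 (.two (.two (.one [50] [] (.lf [22, 14, 24, 10, 22, 18, 14, 24, 22] [6, 8, 10, 14]))
 (.one [50] [] (.no [])))
 (.two (.one [50] [] (.lf [26, 14, 24, 20, 8, 26, 22, 12, 10, 22] [6, 8, 10, 14]))
 (.one [50] [] (.no []))))))
 (.one [42] [48] (.no [48])))
 (.two (.one [42] [48] (.one [40] [] (.one [38, 42] [] (.two (.one [50] [] (.lf [22, 16, 26, 14, 24, 16, 12, 26, 22] [6, 8, 10]))
 (.one [50] [] (.no []))))))
 (.one [42] [48] (.no [48]))))
 (.two (.two (.one [42] [48, 50, 52] (.one [6] [] (.two (.two (.one [50] [] (.lf [24, 22, 16, 26, 20, 4, 26, 16, 22, 10, 4] [6, 8, 10, 14]))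
 (.one [50] [] (.no [])))
 (.two (.one [50] [] (.lf [14, 24, 14] [4, 8, 6, 4, 8, 10, 24, 20, 18, 24, 16, 20]))
 (.one [50] [] (.no []))))))
 (.one [42] [48, 50, 52] (.no [48, 50, 52])))
 (.two (.one [42] [48, 50, 52] (.one [6] [] (.no [])))
 (.one [42] [48, 50, 52] (.no [46, 48, 50, 52])))))))
 (.one [30] [40] (.one [34] [] (.no [])))))

noncomputable def cv2c : CT :=
 (.two (.two (.one [32] [] (.two (.one [38] [] (.two (.two (.two (.one [44] [52] (.two (.one [48] [] (.two (.lf [18, 24, 14, 10, 22, 4, 10, 6, 4] [6, 8])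
 (.lf [18, 24, 14, 22] [6, 8, 10, 12])))
 (.one [48] [] (.no []))))
 (.one [44] [52] (.no [52])))
 (.two (.one [44] [52] (.two (.one [48] [] (.one [36, 44, 48] [] (.lf [22, 16, 24, 14, 22, 4, 12, 6, 4] [6, 8, 10, 14])))
 (.one [48] [] (.no []))))
 (.one [44] [52] (.no [52]))))
 (.one [34] [] (.two (.one [44] [52] (.two (.one [48] [] (.one [40, 44] [] (.lf [18, 24, 14, 10, 22, 4, 10, 6, 4] [6, 8, 10])))
 (.one [48] [] (.no []))))
 (.one [44] [52] (.no [52]))))))
 (.one [38] [] (.no []))))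
 (.one [32] [38, 40] (.two (.one [38] [] (.two (.one [6] [] (.two (.one [44] [48, 50, 52] (.two (.one [48] [] (.two (.lf [26, 22, 14, 24, 20, 10, 8, 4, 26, 22] [6, 8, 10, 14])
 (.lf [22, 16, 24, 10, 22, 6, 4] [4, 8, 6, 4, 8, 10, 24, 20, 18, 24, 16, 20])))
 (.one [48] [] (.no []))))
 (.one [44] [48, 50, 52] (.no [48, 50, 52]))))
 (.one [6] [] (.no []))))
 (.one [38] [] (.no [])))))
 (.two (.one [32] [] (.no []))
 (.one [32] [38, 40] (.no [38]))))

theorem cv0 : Cv fq ts top [] := ser.two wm 0 (s := 30) (ss := [32, 34, 36, 38, 40, 6, 42, 44, 46, 48, 50, 52]) (by decide +kernel)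
  (ser.cv' wm cv1c 0 (p := 30) (by decide +kernel)) (ser.cv' wm cv2c 0 (p := 30) (by decide +kernel))

theorem cls (w : W) (h : w * w = 1 ∨ w * w = V [28]) : w = 1 ∨ w = V [28] ∨ ∃ g, ∃ u ∈ ts,
    w = g * V u * g⁻¹ ∨ w = V [28] * (g * V u * g⁻¹) := by
  have m := fun x => mem_zpowers_two νν (x := x)
  by_cases c : (w : W ⧸ zpowers (V [28])) = 1
  · exact or_assoc.1 (Or.inl ((m _).1 ((QuotientGroup.eq_one_iff _).1 c)))
  obtain ⟨_, ht, e⟩ := cv0.classes wm nc lb (by rw [cardQ]; decide) w (orderOf_eq_prime (by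
    rw [pow_two, ← QuotientGroup.mk_mul, QuotientGroup.eq_one_iff, m]; exact h) c)
  obtain ⟨u, hu, rfl⟩ := List.mem_map.1 ht
  obtain ⟨g, e⟩ := isConj_iff.1 e
  obtain ⟨g, rfl⟩ := QuotientGroup.mk_surjective g
  have := (m _).1 (QuotientGroup.eq.1 (e : ((g * V u * g⁻¹ : W) : W ⧸ zpowers (V [28])) = w))
  rw [inv_mul_eq_one, inv_mul_eq_iff_eq_mul, (cν _).eq] at this
  exact Or.inr (Or.inr ⟨g, u, hu, this.imp_left Eq.symm⟩)

end Cfsg.Agent.Std.O8W
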